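import Groth.Agent.Pinch.K838.Ferr
import Mathlib.AlgebraicGeometry.Morphisms.Flat

/-!
# Base change of Ferrand squares
-/

set_option autoImplicit false
universe u

open AlgebraicGeometry CategoryTheory CategoryTheory.Limits TopologicalSpace Opposite
open K838.Ferr K838.RingPB

namespace K838.FerrBC

theorem isPushout_sections {X Y S T : Scheme.{u}} {f : T ⟶ S} {g : Y ⟶ X} {iX : X ⟶ S}
    {iY : Y ⟶ T} (H : IsPullback g iY iX f) {US : S.Opens} {UT : T.Opens}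
    {UX : X.Opens} (hUST : UT ≤ f ⁻¹ᵁ US) (hUSX : UX ≤ iX ⁻¹ᵁ US)
    {UY : Y.Opens} (hUY : UY = g ⁻¹ᵁ UX ⊓ iY ⁻¹ᵁ UT) (hUS : IsAffineOpen US)
    (hUT : IsAffineOpen UT) (hUX : IsAffineOpen UX) (h1 : UY ≤ g ⁻¹ᵁ UX) (h2 : UY ≤ iY ⁻¹ᵁ UT) :
    IsPushout (f.appLE US UT hUST) (iX.appLE US UX hUSX)
      (iY.appLE UT UY h2) (g.appLE UX UY h1) :=
  ((isIso_pushoutSection_iff H hUST hUSX hUY).mp
    (isIso_pushoutSection_of_isAffineOpen H hUST hUSX hUY hUS hUT hUX)).flip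

theorem isAffineOpen_sections {X Y S T : Scheme.{u}} {f : T ⟶ S} {g : Y ⟶ X} {iX : X ⟶ S}
    {iY : Y ⟶ T} (H : IsPullback g iY iX f) {US : S.Opens} {UT : T.Opens}
    {UX : X.Opens} (hUST : UT ≤ f ⁻¹ᵁ US) (hUSX : UX ≤ iX ⁻¹ᵁ US)
    {UY : Y.Opens} (hUY : UY = g ⁻¹ᵁ UX ⊓ iY ⁻¹ᵁ UT) (hUS : IsAffineOpen US)
    (hUT : IsAffineOpen UT) (hUX : IsAffineOpen UX) : IsAffineOpen UY := by
  have : IsAffine _ := hUS
  have : IsAffine _ := hUT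
  have : IsAffine _ := hUX
  exact .of_isIso (Scheme.Hom.isPullback_resLE H hUST hUSX hUY).isoPullback.hom

section

variable {X Y Z W : Scheme.{u}} {i : Z ⟶ X} {j : Z ⟶ Y} {a : X ⟶ W} {b : Y ⟶ W}
  {S S' : Scheme.{u}} {s : W ⟶ S} {g : S' ⟶ S}
  {X' Y' Z' W' : Scheme.{u}} {gW : W' ⟶ W} {sW : W' ⟶ S'} {gX : X' ⟶ X} {a' : X' ⟶ W'}
  {gY : Y' ⟶ Y} {b' : Y' ⟶ W'} {gZ : Z' ⟶ Z} {i' : Z' ⟶ X'} {j' : Z' ⟶ Y'}

/-- The section squares of the base change. -/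
theorem secSq_baseChange (h : IsFerr i j a b) (hW : IsPullback gW sW s g)
    (hX : IsPullback gX a' a gW) (hY : IsPullback gY b' b gW) (hZ : IsPullback gZ i' i gX)
    (hj : j' ≫ gY = gZ ≫ j) (hw : i' ≫ a' = j' ≫ b')
    {U : S.Opens} (hU : IsAffineOpen U) {U' : S'.Opens} (hU' : IsAffineOpen U')
    (hUU' : U' ≤ g ⁻¹ᵁ U) {O : W.Opens} (hO : IsAffineOpen O) (hOU : O ≤ s ⁻¹ᵁ U)
    (hinj : UnivInj (g.appLE U U' hUU') (s.appLE U O hOU) (a.app O) (b.app O)) :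
    SecSq i' j' a' b' (gW ⁻¹ᵁ O ⊓ sW ⁻¹ᵁ U') := by
  have haff := h.affine_left
  have haff' := h.affine_right
  have hcl := h.closed
  obtain ⟨hle, hpb⟩ := h.sec O
  set O' := gW ⁻¹ᵁ O ⊓ sW ⁻¹ᵁ U' with hO'
  refine ⟨(preimage_eq hw O').le, ?_⟩
  have hwW : O' ≤ gW ⁻¹ᵁ O := inf_le_left
  have hwS : O' ≤ sW ⁻¹ᵁ U' := inf_le_right
  -- the cartesian squares over `S`
  have HX : IsPullback gX (a' ≫ sW) (a ≫ s) g := hX.paste_vert hW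
  have HY : IsPullback gY (b' ≫ sW) (b ≫ s) g := hY.paste_vert hW
  have HZ : IsPullback gZ (i' ≫ a' ≫ sW) (i ≫ a ≫ s) g := hZ.paste_vert HX
  have eX : a' ⁻¹ᵁ O' = gX ⁻¹ᵁ (a ⁻¹ᵁ O) ⊓ (a' ≫ sW) ⁻¹ᵁ U' := by
    rw [hO', Scheme.Hom.preimage_inf, ← Scheme.Hom.comp_preimage, ← Scheme.Hom.comp_preimage,
      ← Scheme.Hom.comp_preimage, hX.w]
  have eY : b' ⁻¹ᵁ O' = gY ⁻¹ᵁ (b ⁻¹ᵁ O) ⊓ (b' ≫ sW) ⁻¹ᵁ U' := by
    rw [hO', Scheme.Hom.preimage_inf, ← Scheme.Hom.comp_preimage, ← Scheme.Hom.comp_preimage,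
      ← Scheme.Hom.comp_preimage, hY.w]
  have eZ : i' ⁻¹ᵁ a' ⁻¹ᵁ O' = gZ ⁻¹ᵁ (i ⁻¹ᵁ a ⁻¹ᵁ O) ⊓ (i' ≫ a' ≫ sW) ⁻¹ᵁ U' := by
    rw [eX, Scheme.Hom.preimage_inf, ← Scheme.Hom.comp_preimage i' gX, ← hZ.w,
      Scheme.Hom.comp_preimage, ← Scheme.Hom.comp_preimage i' (a' ≫ sW)]
  have oX : a ⁻¹ᵁ O ≤ (a ≫ s) ⁻¹ᵁ U := fun x hx => hOU hx
  have oY : b ⁻¹ᵁ O ≤ (b ≫ s) ⁻¹ᵁ U := fun x hx => hOU hx
  have oZ : i ⁻¹ᵁ a ⁻¹ᵁ O ≤ (i ≫ a ≫ s) ⁻¹ᵁ U := fun x hx => hOU hx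
  have pW := isPushout_sections hW hUU' hOU hO' hU hU' hO hwW hwS
  have pX := isPushout_sections HX hUU' oX eX hU hU' (hO.preimage a)
    (eX.le.trans inf_le_left) (eX.le.trans inf_le_right)
  have pY := isPushout_sections HY hUU' oY eY hU hU' (hO.preimage b)
    (eY.le.trans inf_le_left) (eY.le.trans inf_le_right)
  have pZ := isPushout_sections HZ hUU' oZ eZ hU hU' ((hO.preimage a).preimage i)
    (eZ.le.trans inf_le_left) (eZ.le.trans inf_le_right)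
  have q1 : (a ≫ s).appLE U (a ⁻¹ᵁ O) oX = s.appLE U O hOU ≫ a.app O := by
    rw [Scheme.Hom.app_eq_appLE, Scheme.Hom.appLE_comp_appLE]
  have q2 : (b ≫ s).appLE U (b ⁻¹ᵁ O) oY = s.appLE U O hOU ≫ b.app O := by
    rw [Scheme.Hom.app_eq_appLE, Scheme.Hom.appLE_comp_appLE]
  have q3 : (i ≫ a ≫ s).appLE U (i ⁻¹ᵁ a ⁻¹ᵁ O) oZ = s.appLE U O hOU ≫ a.app O ≫
      i.app (a ⁻¹ᵁ O) := by
    rw [Scheme.Hom.app_eq_appLE, Scheme.Hom.app_eq_appLE, Scheme.Hom.appLE_comp_appLE,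
      Scheme.Hom.appLE_comp_appLE]
    simp only [Category.assoc]
  rw [q1] at pX
  rw [q2] at pY
  rw [q3] at pZ
  refine isPullback_bc (g.appLE U U' hUU') (s.appLE U O hOU) hpb
    (i.app_surjective _ (hO.preimage a)) hinj pW pX pY pZ _ _ _ _ ?_ ?_ ?_ ?_ ?_ ?_ ?_ ?_
  · rw [Scheme.Hom.app_eq_appLE, Scheme.Hom.appLE_comp_appLE]
  · rw [Scheme.Hom.app_eq_appLE, Scheme.Hom.appLE_comp_appLE, Scheme.Hom.app_eq_appLE,
      Scheme.Hom.appLE_comp_appLE]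
    simp only [hX.w]
  · rw [Scheme.Hom.app_eq_appLE, Scheme.Hom.appLE_comp_appLE]
  · rw [Scheme.Hom.app_eq_appLE, Scheme.Hom.appLE_comp_appLE, Scheme.Hom.app_eq_appLE,
      Scheme.Hom.appLE_comp_appLE]
    simp only [hY.w]
  · rw [Scheme.Hom.app_eq_appLE, Scheme.Hom.appLE_comp_appLE]
  · rw [Scheme.Hom.app_eq_appLE, Scheme.Hom.appLE_comp_appLE, Scheme.Hom.app_eq_appLE,
      Scheme.Hom.appLE_comp_appLE]
    simp only [hZ.w]
  · rw [Scheme.Hom.appLE_comp_appLE]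
    have : j' ≫ b' ≫ sW = i' ≫ a' ≫ sW := by rw [← Category.assoc, ← hw, Category.assoc]
    simp only [this]
  · rw [Scheme.Hom.appLE_comp_appLE, Scheme.Hom.appLE_comp_appLE]
    simp only [hj]

/-- General base change criterion. -/
theorem isPushout_baseChange (h : IsFerr i j a b) (hW : IsPullback gW sW s g)
    (hX : IsPullback gX a' a gW) (hY : IsPullback gY b' b gW) (hZ : IsPullback gZ i' i gX)
    (hj : j' ≫ gY = gZ ≫ j) (hw : i' ≫ a' = j' ≫ b')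
    (H : ∀ w : W', ∃ (U : S.Opens) (U' : S'.Opens) (O : W.Opens) (hUU' : U' ≤ g ⁻¹ᵁ U)
      (hOU : O ≤ s ⁻¹ᵁ U), IsAffineOpen U ∧ IsAffineOpen U' ∧ IsAffineOpen O ∧
      w ∈ gW ⁻¹ᵁ O ⊓ sW ⁻¹ᵁ U' ∧
      UnivInj (g.appLE U U' hUU') (s.appLE U O hOU) (a.app O) (b.app O)) :
    IsPushout i' j' a' b' := by
  have haff := h.affine_left
  have haff' := h.affine_right
  have hcl := h.closed
  have : IsAffineHom a' := MorphismProperty.of_isPullback (P := @IsAffineHom) hX inferInstance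
  have : IsAffineHom b' := MorphismProperty.of_isPullback (P := @IsAffineHom) hY inferInstance
  have : IsClosedImmersion i' :=
    MorphismProperty.of_isPullback (P := @IsClosedImmersion) hZ inferInstance
  refine isPushout_of_cover hw fun w => ?_
  obtain ⟨U, U', O, hUU', hOU, hU, hU', hO, hmem, hinj⟩ := H w
  exact ⟨_, hmem, isAffineOpen_sections hW hUU' hOU rfl hU hU' hO,
    secSq_baseChange h hW hX hY hZ hj hw hU hU' hUU' hO hOU hinj⟩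

/-- Enough affine opens. -/
theorem exists_affines (hW : IsPullback gW sW s g) (w : W') :
    ∃ (U : S.Opens) (U' : S'.Opens) (O : W.Opens) (_ : U' ≤ g ⁻¹ᵁ U)
      (_ : O ≤ s ⁻¹ᵁ U), IsAffineOpen U ∧ IsAffineOpen U' ∧ IsAffineOpen O ∧
      w ∈ gW ⁻¹ᵁ O ⊓ sW ⁻¹ᵁ U' := by
  obtain ⟨U, hU, hwU, -⟩ := exists_isAffineOpen_mem_and_subset (U := ⊤) (x := s (gW w)) trivial
  obtain ⟨O, hO, hwO, hOU⟩ := exists_isAffineOpen_mem_and_subset (U := s ⁻¹ᵁ U) (x := gW w) hwU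
  have h1 : g (sW w) ∈ U := by
    have : g (sW w) = s (gW w) := by
      rw [← Scheme.Hom.comp_apply, ← hW.w, Scheme.Hom.comp_apply]
    rw [this]
    exact hwU
  obtain ⟨U', hU', hwU', hUU'⟩ :=
    exists_isAffineOpen_mem_and_subset (U := g ⁻¹ᵁ U) (x := sW w) h1
  exact ⟨U, U', O, hUU', hOU, hU, hU', hO, hwO, hwU'⟩

/-- Base change when `Z` is flat over the base. -/
theorem isPushout_baseChange_of_flat (h : IsFerr i j a b) (hW : IsPullback gW sW s g)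
    (hX : IsPullback gX a' a gW) (hY : IsPullback gY b' b gW) (hZ : IsPullback gZ i' i gX)
    (hj : j' ≫ gY = gZ ≫ j) (hw : i' ≫ a' = j' ≫ b') [Flat (i ≫ a ≫ s)] :
    IsPushout i' j' a' b' := by
  refine isPushout_baseChange h hW hX hY hZ hj hw fun w => ?_
  have haff := h.affine_left
  have hcl := h.closed
  obtain ⟨U, U', O, hUU', hOU, hU, hU', hO, hmem⟩ := exists_affines hW w
  refine ⟨U, U', O, hUU', hOU, hU, hU', hO, hmem, ?_⟩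
  obtain ⟨hle, hpb⟩ := h.sec O
  refine UnivInj.of_flat _ _ hpb (i.app_surjective _ (hO.preimage a)) ?_
  have oZ : i ⁻¹ᵁ a ⁻¹ᵁ O ≤ (i ≫ a ≫ s) ⁻¹ᵁ U := fun x hx => hOU hx
  have q3 : (i ≫ a ≫ s).appLE U (i ⁻¹ᵁ a ⁻¹ᵁ O) oZ = s.appLE U O hOU ≫ a.app O ≫
      i.app (a ⁻¹ᵁ O) := by
    rw [Scheme.Hom.app_eq_appLE, Scheme.Hom.app_eq_appLE, Scheme.Hom.appLE_comp_appLE,
      Scheme.Hom.appLE_comp_appLE]
    simp only [Category.assoc]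
  rw [← q3]
  exact Flat.flat_appLE (i ≫ a ≫ s) hU ((hO.preimage a).preimage i) oZ

/-- Base change along a flat morphism. -/
theorem isPushout_flat_baseChange (h : IsFerr i j a b) (hW : IsPullback gW sW s g)
    (hX : IsPullback gX a' a gW) (hY : IsPullback gY b' b gW) (hZ : IsPullback gZ i' i gX)
    (hj : j' ≫ gY = gZ ≫ j) (hw : i' ≫ a' = j' ≫ b') [Flat g] :
    IsPushout i' j' a' b' := by
  refine isPushout_baseChange h hW hX hY hZ hj hw fun w => ?_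
  obtain ⟨U, U', O, hUU', hOU, hU, hU', hO, hmem⟩ := exists_affines hW w
  refine ⟨U, U', O, hUU', hOU, hU, hU', hO, hmem, ?_⟩
  obtain ⟨hle, hpb⟩ := h.sec O
  exact UnivInj.of_flat_left _ _ hpb (Flat.flat_appLE g hU hU' hUU')

/-- The corner of a Ferrand square is flat if the three other vertices are. -/
theorem flat_corner (h : IsFerr i j a b) [Flat (a ≫ s)] [Flat (b ≫ s)] [Flat (i ≫ a ≫ s)] :
    Flat s := by
  have haff := h.affine_left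
  have haff' := h.affine_right
  have hcl := h.closed
  rw [HasRingHomProperty.iff_exists_appLE (P := @Flat)
    (RingHom.Flat.stableUnderComposition.stableUnderCompositionWithLocalizationAway
      RingHom.Flat.holdsForLocalizationAway).1]
  intro x
  obtain ⟨U, hU, hwU, -⟩ := exists_isAffineOpen_mem_and_subset (U := ⊤) (x := s x) trivial
  obtain ⟨O, hO, hwO, hOU⟩ := exists_isAffineOpen_mem_and_subset (U := s ⁻¹ᵁ U) (x := x) hwU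
  refine ⟨⟨U, hU⟩, ⟨O, hO⟩, hwO, hOU, ?_⟩
  obtain ⟨hle, hpb⟩ := h.sec O
  have oX : a ⁻¹ᵁ O ≤ (a ≫ s) ⁻¹ᵁ U := fun x hx => hOU hx
  have oY : b ⁻¹ᵁ O ≤ (b ≫ s) ⁻¹ᵁ U := fun x hx => hOU hx
  have oZ : i ⁻¹ᵁ a ⁻¹ᵁ O ≤ (i ≫ a ≫ s) ⁻¹ᵁ U := fun x hx => hOU hx
  have q1 : (a ≫ s).appLE U (a ⁻¹ᵁ O) oX = s.appLE U O hOU ≫ a.app O := by
    rw [Scheme.Hom.app_eq_appLE, Scheme.Hom.appLE_comp_appLE]
  have q2 : (b ≫ s).appLE U (b ⁻¹ᵁ O) oY = s.appLE U O hOU ≫ b.app O := by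
    rw [Scheme.Hom.app_eq_appLE, Scheme.Hom.appLE_comp_appLE]
  have q3 : (i ≫ a ≫ s).appLE U (i ⁻¹ᵁ a ⁻¹ᵁ O) oZ = s.appLE U O hOU ≫ a.app O ≫
      i.app (a ⁻¹ᵁ O) := by
    rw [Scheme.Hom.app_eq_appLE, Scheme.Hom.app_eq_appLE, Scheme.Hom.appLE_comp_appLE,
      Scheme.Hom.appLE_comp_appLE]
    simp only [Category.assoc]
  refine RingPB.flat_corner (s.appLE U O hOU) hpb (i.app_surjective _ (hO.preimage a)) ?_ ?_ ?_
  · rw [← q1]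
    exact Flat.flat_appLE (a ≫ s) hU (hO.preimage a) oX
  · rw [← q2]
    exact Flat.flat_appLE (b ≫ s) hU (hO.preimage b) oY
  · rw [← q3]
    exact Flat.flat_appLE (i ≫ a ≫ s) hU ((hO.preimage a).preimage i) oZ

end

end K838.FerrBC
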