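import Groth.Agent.Pinch.K838.RingPB
import Mathlib.RingTheory.Finiteness.Finsupp
import Mathlib.RingTheory.Finiteness.Prod
import Mathlib.RingTheory.Adjoin.Tower
import Mathlib.RingTheory.RingHom.Finite
import Mathlib.RingTheory.RingHom.FiniteType

/-!
# Finiteness in fibre squares of rings
-/

set_option autoImplicit false
universe u

open CategoryTheory CategoryTheory.Limits

namespace K838.RingFin

/-- In a fibre square with one edge surjective and the other finite, the opposite edge is finite. -/
theorem finite_fst {R A' B A : CommRingCat.{u}} {f : R ⟶ A'} {g : R ⟶ B} {p : A' ⟶ A} {q : B ⟶ A}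
    (hpb : IsPullback f g p q) (hp : Function.Surjective p) (hq : q.hom.Finite) :
    f.hom.Finite := by
  have hpb' := RingPB.isPullback_iff.mp hpb
  have hg : Function.Surjective g := by
    intro y
    obtain ⟨x, hx⟩ := hp (q y)
    obtain ⟨r, -, hr⟩ := hpb'.2.1 x y hx
    exact ⟨r, hr⟩
  have hgf : (g ≫ q).hom.Finite := by
    rw [CommRingCat.hom_comp]
    exact hq.comp (RingHom.Finite.of_surjective _ hg)
  rw [← hpb'.1] at hgf
  let : Algebra R A' := f.hom.toAlgebra
  let : Algebra R A := (f ≫ p).hom.toAlgebra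
  have hfin : Module.Finite R A := hgf
  let p' : A' →ₗ[R] A := (⟨p.hom, fun _ => rfl⟩ : A' →ₐ[R] A).toLinearMap
  let N : Submodule R A' := LinearMap.range (Algebra.linearMap R A')
  have hN : Module.Finite R N := inferInstance
  have hker : LinearMap.ker p' ≤ N := by
    intro x hx
    have hx : p x = 0 := hx
    obtain ⟨r, hr, -⟩ := hpb'.2.1 x 0 (by rw [hx, map_zero])
    exact ⟨r, hr⟩
  have hp' : Function.Surjective p' := hp
  have hQ : Module.Finite R (A' ⧸ N) := by
    let e : (A' ⧸ LinearMap.ker p') ≃ₗ[R] A := p'.quotKerEquivOfSurjective hp'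
    have : Module.Finite R (A' ⧸ LinearMap.ker p') := Module.Finite.equiv e.symm
    exact Module.Finite.of_surjective (Submodule.factor hker) (Submodule.factor_surjective hker)
  exact Module.Finite.of_submodule_quotient N

/-- Artin-Tate for fibre squares. -/
theorem finiteType_of_isPullback {R₀ R A' B A : CommRingCat.{u}} (r : R₀ ⟶ R) {f : R ⟶ A'}
    {g : R ⟶ B} {p : A' ⟶ A} {q : B ⟶ A} [IsNoetherianRing R₀]
    (hpb : IsPullback f g p q) (hp : Function.Surjective p) (hq : q.hom.Finite)
    (h1 : (r ≫ f).hom.FiniteType) (h2 : (r ≫ g).hom.FiniteType) : r.hom.FiniteType := by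
  have hpb' := RingPB.isPullback_iff.mp hpb
  have hf := finite_fst hpb hp hq
  have hg : Function.Surjective g := by
    intro y
    obtain ⟨x, hx⟩ := hp (q y)
    obtain ⟨r, -, hr⟩ := hpb'.2.1 x y hx
    exact ⟨r, hr⟩
  let : Algebra R₀ R := r.hom.toAlgebra
  let : Algebra R A' := f.hom.toAlgebra
  let : Algebra R B := g.hom.toAlgebra
  let : Algebra R₀ A' := (r ≫ f).hom.toAlgebra
  let : Algebra R₀ B := (r ≫ g).hom.toAlgebra
  have : IsScalarTower R₀ R A' := IsScalarTower.of_algebraMap_eq fun _ => rfl
  have : IsScalarTower R₀ R B := IsScalarTower.of_algebraMap_eq fun _ => rfl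
  have : Module.Finite R A' := hf
  have : Module.Finite R B := RingHom.Finite.of_surjective g.hom hg
  have : Algebra.FiniteType R₀ A' := h1
  have : Algebra.FiniteType R₀ B := h2
  have : IsScalarTower R₀ R (A' × B) := inferInstance
  have h3 : Algebra.FiniteType R₀ (A' × B) := inferInstance
  have h4 : Module.Finite R (A' × B) := inferInstance
  refine ⟨fg_of_fg_of_fg R₀ R (A' × B) h3.out h4.1 ?_⟩
  intro x y hxy
  exact hpb'.2.2 x y (congrArg Prod.fst hxy) (congrArg Prod.snd hxy)

end K838.RingFin
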