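import Groth.Agent.Pinch.K838.FerrBC
import Groth.Agent.Pinch.K838.RingFin
import Mathlib.AlgebraicGeometry.Morphisms.Immersion
import Mathlib.AlgebraicGeometry.Morphisms.Finite
import Mathlib.AlgebraicGeometry.Morphisms.Proper
import Mathlib.AlgebraicGeometry.Noetherian

/-!
# Finiteness, separatedness, properness for Ferrand squares
-/

set_option autoImplicit false
universe u

open AlgebraicGeometry CategoryTheory CategoryTheory.Limits TopologicalSpace Opposite
open K838.Ferr K838.RingPB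

namespace K838.FerrProps

variable {X Y Z W : Scheme.{u}} {i : Z ⟶ X} {j : Z ⟶ Y} {a : X ⟶ W} {b : Y ⟶ W}

theorem finite_appLE {Z Y : Scheme.{u}} (j : Z ⟶ Y) [IsFinite j] {V : Y.Opens}
    (hV : IsAffineOpen V) {V' : Z.Opens} (e : V' ≤ j ⁻¹ᵁ V) (h : V' = j ⁻¹ᵁ V) :
    (j.appLE V V' e).hom.Finite := by
  subst h
  rw [← Scheme.Hom.app_eq_appLE]
  exact j.finite_app V hV

theorem isFinite_left (h : IsFerr i j a b) [IsFinite j] : IsFinite a := by
  have haff := h.affine_left
  have haff' := h.affine_right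
  have hcl := h.closed
  rw [isFinite_iff]
  refine ⟨haff, fun O hO => ?_⟩
  obtain ⟨hle, hpb⟩ := h.sec O
  exact RingFin.finite_fst hpb (i.app_surjective _ (hO.preimage a))
    (finite_appLE j (hO.preimage b) hle (preimage_eq h.w O))

/-- Joint surjectivity is stable under base change. -/
theorem surj_baseChange (hs : ∀ w : W, (∃ x, a x = w) ∨ ∃ y, b y = w)
    {W' X' Y' : Scheme.{u}} {gW : W' ⟶ W}
    {gX : X' ⟶ X} {a' : X' ⟶ W'} {gY : Y' ⟶ Y} {b' : Y' ⟶ W'}
    (hX : IsPullback gX a' a gW) (hY : IsPullback gY b' b gW) (w' : W') :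
    (∃ x, a' x = w') ∨ ∃ y, b' y = w' := by
  rcases hs (gW w') with ⟨x, hx⟩ | ⟨y, hy⟩
  · left
    obtain ⟨z, -, hz⟩ := Scheme.Pullback.exists_preimage_pullback (f := a) (g := gW) x w' hx
    refine ⟨hX.isoPullback.inv z, ?_⟩
    rw [← Scheme.Hom.comp_apply, IsPullback.isoPullback_inv_snd]
    exact hz
  · right
    obtain ⟨z, -, hz⟩ := Scheme.Pullback.exists_preimage_pullback (f := b) (g := gW) y w' hy
    refine ⟨hY.isoPullback.inv z, ?_⟩
    rw [← Scheme.Hom.comp_apply, IsPullback.isoPullback_inv_snd]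
    exact hz

section

variable {S : Scheme.{u}} (s : W ⟶ S)

theorem image_diagonal {X S W : Scheme.{u}} (a : X ⟶ W) [UniversallyClosed a] (s : W ⟶ S)
    [IsSeparated (a ≫ s)] :
    IsClosed ((pullback.diagonal s) '' Set.range a) := by
  have hcl : IsClosed (Set.range (pullback.diagonal (a ≫ s))) :=
    (pullback.diagonal (a ≫ s)).isClosedEmbedding.isClosed_range
  let F : pullback (a ≫ s) (a ≫ s) ⟶ pullback s s :=
    pullback.map (a ≫ s) (a ≫ s) s s a a (𝟙 _) (by simp) (by simp)
  have hF : UniversallyClosed F := MorphismProperty.pullbackMap (P := @UniversallyClosed)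
    (f := a ≫ s) (g := a ≫ s) (f' := s) (g' := s) (i₁ := a) (i₂ := a)
    ‹_› ‹_› (by simp) (by simp)
  have h1 : IsClosed (F '' Set.range (pullback.diagonal (a ≫ s))) := F.isClosedMap _ hcl
  have h2 : pullback.diagonal (a ≫ s) ≫ F = a ≫ pullback.diagonal s := by
    have e1 : F ≫ pullback.fst s s = pullback.fst (a ≫ s) (a ≫ s) ≫ a :=
      pullback.lift_fst _ _ _
    have e2 : F ≫ pullback.snd s s = pullback.snd (a ≫ s) (a ≫ s) ≫ a :=
      pullback.lift_snd _ _ _
    apply pullback.hom_ext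
    · rw [Category.assoc, e1]; simp
    · rw [Category.assoc, e2]; simp
  have h3 : F '' Set.range (pullback.diagonal (a ≫ s)) = (pullback.diagonal s) '' Set.range a := by
    rw [← Set.range_comp, ← Set.range_comp, ← TopCat.coe_comp, ← TopCat.coe_comp,
      ← Scheme.Hom.comp_base, ← Scheme.Hom.comp_base, h2]
  rwa [h3] at h1

theorem isSeparated_of (hs : ∀ w : W, (∃ x, a x = w) ∨ ∃ y, b y = w) [UniversallyClosed a]
    [UniversallyClosed b] [IsSeparated (a ≫ s)] [IsSeparated (b ≫ s)] : IsSeparated s := by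
  constructor
  refine .of_isPreimmersion _ ?_
  have : Set.range (pullback.diagonal s) = (pullback.diagonal s) '' Set.range a ∪
      (pullback.diagonal s) '' Set.range b := by
    rw [← Set.image_union]
    have h : Set.range a ∪ Set.range b = Set.univ := by
      ext w
      simp only [Set.mem_union, Set.mem_range, Set.mem_univ, iff_true]
      exact hs w
    rw [h, Set.image_univ]
  rw [this]
  exact (image_diagonal a s).union (image_diagonal b s)

theorem isCompact_preimage_of (hs : ∀ w : W, (∃ x, a x = w) ∨ ∃ y, b y = w)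
    [QuasiCompact (a ≫ s)] [QuasiCompact (b ≫ s)] : QuasiCompact s := by
  constructor
  intro U hU hUc
  have h1 := (QuasiCompact.isCompact_preimage (f := a ≫ s) U hU hUc).image a.continuous
  have h2 := (QuasiCompact.isCompact_preimage (f := b ≫ s) U hU hUc).image b.continuous
  have : s ⁻¹' U = a '' ((a ≫ s) ⁻¹' U) ∪ b '' ((b ≫ s) ⁻¹' U) := by
    ext w
    constructor
    · intro hw
      rcases hs w with ⟨x, rfl⟩ | ⟨y, rfl⟩
      · left
        refine ⟨x, ?_, rfl⟩
        rw [Set.mem_preimage, Scheme.Hom.comp_apply]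
        exact hw
      · right
        refine ⟨y, ?_, rfl⟩
        rw [Set.mem_preimage, Scheme.Hom.comp_apply]
        exact hw
    · rintro (⟨x, hx, rfl⟩ | ⟨y, hy, rfl⟩)
      · rw [Set.mem_preimage, Scheme.Hom.comp_apply] at hx
        exact hx
      · rw [Set.mem_preimage, Scheme.Hom.comp_apply] at hy
        exact hy
  rw [this]
  exact h1.union h2

theorem universallyClosed_of (hs : ∀ w : W, (∃ x, a x = w) ∨ ∃ y, b y = w)
    [UniversallyClosed (a ≫ s)] [UniversallyClosed (b ≫ s)] : UniversallyClosed s := by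
  constructor
  intro W' S' i₁ i₂ s' H
  have hX : IsPullback (pullback.fst a i₁) (pullback.snd a i₁) a i₁ := IsPullback.of_hasPullback _ _
  have hY : IsPullback (pullback.fst b i₁) (pullback.snd b i₁) b i₁ := IsPullback.of_hasPullback _ _
  have c1 : IsClosedMap (pullback.snd a i₁ ≫ s').base :=
    UniversallyClosed.universally_isClosedMap _ _ _ (hX.flip.paste_horiz H)
  have c2 : IsClosedMap (pullback.snd b i₁ ≫ s').base :=
    UniversallyClosed.universally_isClosedMap _ _ _ (hY.flip.paste_horiz H)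
  have hs' := surj_baseChange hs hX hY
  intro C hC
  have h1 := c1 _ (hC.preimage (pullback.snd a i₁).continuous)
  have h2 := c2 _ (hC.preimage (pullback.snd b i₁).continuous)
  have : s' '' C = (pullback.snd a i₁ ≫ s') '' ((pullback.snd a i₁) ⁻¹' C) ∪
      (pullback.snd b i₁ ≫ s') '' ((pullback.snd b i₁) ⁻¹' C) := by
    ext w
    constructor
    · rintro ⟨c, hc, rfl⟩
      rcases hs' c with ⟨x, rfl⟩ | ⟨y, rfl⟩
      · exact Or.inl ⟨x, hc, by rw [Scheme.Hom.comp_apply]⟩
      · exact Or.inr ⟨y, hc, by rw [Scheme.Hom.comp_apply]⟩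
    · rintro (⟨x, hx, rfl⟩ | ⟨y, hy, rfl⟩)
      · exact ⟨_, hx, by rw [Scheme.Hom.comp_apply]⟩
      · exact ⟨_, hy, by rw [Scheme.Hom.comp_apply]⟩
  have h3 : IsClosed (s' '' C) := by
    rw [this]
    exact h1.union h2
  exact h3

end

/-- Finite type over a locally Noetherian base. -/
theorem locallyOfFiniteType (h : IsFerr i j a b) [IsFinite j] {S : Scheme.{u}} (s : W ⟶ S)
    [IsLocallyNoetherian S] [LocallyOfFiniteType (a ≫ s)] [LocallyOfFiniteType (b ≫ s)] :
    LocallyOfFiniteType s := by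
  have haff := h.affine_left
  have haff' := h.affine_right
  have hcl := h.closed
  rw [HasRingHomProperty.iff_exists_appLE (P := @LocallyOfFiniteType)
    (RingHom.finiteType_stableUnderComposition.stableUnderCompositionWithLocalizationAway
      RingHom.finiteType_holdsForLocalizationAway).1]
  intro x
  obtain ⟨U, hU, hwU, -⟩ := exists_isAffineOpen_mem_and_subset (U := ⊤) (x := s x) trivial
  obtain ⟨O, hO, hwO, hOU⟩ := exists_isAffineOpen_mem_and_subset (U := s ⁻¹ᵁ U) (x := x) hwU
  refine ⟨⟨U, hU⟩, ⟨O, hO⟩, hwO, hOU, ?_⟩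
  obtain ⟨hle, hpb⟩ := h.sec O
  have oX : a ⁻¹ᵁ O ≤ (a ≫ s) ⁻¹ᵁ U := fun x hx => hOU hx
  have oY : b ⁻¹ᵁ O ≤ (b ≫ s) ⁻¹ᵁ U := fun x hx => hOU hx
  have q1 : (a ≫ s).appLE U (a ⁻¹ᵁ O) oX = s.appLE U O hOU ≫ a.app O := by
    rw [Scheme.Hom.app_eq_appLE, Scheme.Hom.appLE_comp_appLE]
  have q2 : (b ≫ s).appLE U (b ⁻¹ᵁ O) oY = s.appLE U O hOU ≫ b.app O := by
    rw [Scheme.Hom.app_eq_appLE, Scheme.Hom.appLE_comp_appLE]
  have : IsNoetherianRing Γ(S, U) := IsLocallyNoetherian.component_noetherian ⟨U, hU⟩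
  refine RingFin.finiteType_of_isPullback (s.appLE U O hOU) hpb
    (i.app_surjective _ (hO.preimage a))
    (finite_appLE j (hO.preimage b) hle (preimage_eq h.w O)) ?_ ?_
  · rw [← q1]
    exact LocallyOfFiniteType.finiteType_appLE (a ≫ s) hU (hO.preimage a) oX
  · rw [← q2]
    exact LocallyOfFiniteType.finiteType_appLE (b ≫ s) hU (hO.preimage b) oY

end K838.FerrProps
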