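import Groth.Agent.FlatB.PushSections
import Mathlib.AlgebraicGeometry.Morphisms.Affine

/-!
# Adapted affine pairs in the standard situation

`f : X ⟶ Y`, `t : T ⟶ Y` affine, `ξ : Z ⟶ T` with `ξ ≫ t` affine, `ι : Z ⟶ X` a closed immersion over `Y`
such that locally on `Y` the image of `ι` lies in an affine open.
-/

set_option autoImplicit false
universe u
open AlgebraicGeometry CategoryTheory CategoryTheory.Limits

namespace K838.Pairs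

theorem exists_pair {X Y T Z : Scheme.{u}} (f : X ⟶ Y) (t : T ⟶ Y) (ξ : Z ⟶ T) (ι : Z ⟶ X)
    [IsAffineHom t] (hsq : ι ≫ f = ξ ≫ t)
    (hstd : ∀ y : Y, ∃ U : Y.Opens, IsAffineOpen U ∧ y ∈ U ∧ ∃ V : X.Opens, IsAffineOpen V ∧
      V ≤ f ⁻¹ᵁ U ∧ ∀ z : Z, (ξ ≫ t).base z ∈ U → ι.base z ∈ V) (y : T) :
    ∃ (U : X.Opens) (V : T.Opens), IsAffineOpen U ∧ IsAffineOpen V ∧ y ∈ V ∧
      ι ⁻¹ᵁ U = ξ ⁻¹ᵁ V ∧ ∃ O : Y.Opens, IsAffineOpen O ∧ V = t ⁻¹ᵁ O ∧ U ≤ f ⁻¹ᵁ O := by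
  obtain ⟨O, hO, hyO, V, hV, hVO, hZ⟩ := hstd (t.base y)
  refine ⟨V, t ⁻¹ᵁ O, hV, hO.preimage t, hyO, ?_, O, hO, rfl, hVO⟩
  apply le_antisymm
  · intro z hz
    have h1 : ι.base z ∈ f ⁻¹ᵁ O := hVO hz
    have h2 : (ι ≫ f) z ∈ O := h1
    rw [hsq] at h2
    exact h2
  · intro z hz
    exact hZ z hz

end K838.Pairs
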