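import Groth.Agent.Pinch.K838.RingSq
import Mathlib.Algebra.Category.Ring.Limits
import Mathlib.Algebra.Category.Ring.Constructions
import Mathlib.CategoryTheory.Limits.Preserves.Shapes.Pullbacks
import Mathlib.CategoryTheory.Limits.Types.Pullbacks
import Mathlib.RingTheory.RingHom.Flat

/-!
# Fibre squares of commutative rings and their base change
-/

set_option autoImplicit false
universe u

open CategoryTheory CategoryTheory.Limits TensorProduct

namespace K838.RingPB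

/-- Elementwise description of pullback squares of commutative rings. -/
theorem isPullback_iff {A B C D : CommRingCat.{u}} {f : A ⟶ B} {g : A ⟶ C} {h : B ⟶ D}
    {k : C ⟶ D} : IsPullback f g h k ↔ f ≫ h = g ≫ k ∧
      (∀ s t, h s = k t → ∃ r, f r = s ∧ g r = t) ∧
      (∀ r r', f r = f r' → g r = g r' → r = r') := by
  constructor
  · intro H
    have H' := H.map (forget CommRingCat.{u})
    exact ⟨H.w, fun s t hst => Types.exists_of_isPullback H' s t hst,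
      fun r r' h1 h2 => Types.ext_of_isPullback H' h1 h2⟩
  · rintro ⟨w, h1, h2⟩
    have : ReflectsLimit (cospan h k) (forget CommRingCat.{u}) :=
      reflectsLimit_of_reflectsIsomorphisms _ _
    refine IsPullback.of_map (forget CommRingCat.{u}) w ?_
    rw [Types.isPullback_iff]
    refine ⟨by rw [← Functor.map_comp, w, Functor.map_comp], fun x y hxy => h2 x y hxy.1 hxy.2,
      fun x y hxy => h1 x y hxy⟩

section

variable {R₀ K R A' B A : Type u} [CommRing R₀] [CommRing K] [CommRing R] [CommRing A'] [CommRing B]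
  [CommRing A] [Algebra R₀ K] [Algebra R₀ R] [Algebra R₀ A'] [Algebra R₀ B] [Algebra R₀ A]
  (f : R →ₐ[R₀] A') (g : R →ₐ[R₀] B) (p : A' →ₐ[R₀] A) (q : B →ₐ[R₀] A)

theorem isPullback_tensor (h : RingSq.IsFib g.toLinearMap f.toLinearMap q.toLinearMap p.toLinearMap)
    (hp : Function.Surjective p)
    (hinj : Function.Injective ((g.toLinearMap.prod f.toLinearMap).lTensor K)) :
    IsPullback (CommRingCat.ofHom (Algebra.TensorProduct.map (AlgHom.id R₀ K) f).toRingHom)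
      (CommRingCat.ofHom (Algebra.TensorProduct.map (AlgHom.id R₀ K) g).toRingHom)
      (CommRingCat.ofHom (Algebra.TensorProduct.map (AlgHom.id R₀ K) p).toRingHom)
      (CommRingCat.ofHom (Algebra.TensorProduct.map (AlgHom.id R₀ K) q).toRingHom) := by
  have h' := h.lTensor_of_injective hp K hinj
  rw [isPullback_iff]
  refine ⟨?_, ?_, ?_⟩
  · exact CommRingCat.hom_ext (RingHom.ext fun x => (LinearMap.congr_fun h'.w x).symm)
  · intro s t hst
    obtain ⟨e, h1, h2⟩ := h'.lift t s hst.symm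
    exact ⟨e, h2, h1⟩
  · intro r r' h1 h2
    rw [← sub_eq_zero]
    refine h'.ext _ ?_ ?_
    · rw [map_sub, sub_eq_zero]
      exact h2
    · rw [map_sub, sub_eq_zero]
      exact h1

/-- The isomorphism from a pushout to the tensor product. -/
noncomputable def tIso {R₀ K S : Type u} [CommRing R₀] [CommRing K] [CommRing S] [Algebra R₀ K]
    [Algebra R₀ S] {S1 : CommRingCat.{u}} {s : CommRingCat.of S ⟶ S1} {k : CommRingCat.of K ⟶ S1}
    (hS : IsPushout (CommRingCat.ofHom (algebraMap R₀ K)) (CommRingCat.ofHom (algebraMap R₀ S))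
      k s) : CommRingCat.of (K ⊗[R₀] S) ≅ S1 :=
  (CommRingCat.isPushout_tensorProduct R₀ K S).isoIsPushout _ _ hS

theorem tIso_nat {R₀ K S T : Type u} [CommRing R₀] [CommRing K] [CommRing S] [Algebra R₀ K]
    [Algebra R₀ S] [CommRing T] [Algebra R₀ T]
    {S1 : CommRingCat.{u}} {s : CommRingCat.of S ⟶ S1} {k : CommRingCat.of K ⟶ S1}
    (hS : IsPushout (CommRingCat.ofHom (algebraMap R₀ K)) (CommRingCat.ofHom (algebraMap R₀ S))
      k s)
    {T1 : CommRingCat.{u}} {t : CommRingCat.of T ⟶ T1} {l : CommRingCat.of K ⟶ T1}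
    (hT : IsPushout (CommRingCat.ofHom (algebraMap R₀ K)) (CommRingCat.ofHom (algebraMap R₀ T))
      l t)
    (φ : S →ₐ[R₀] T) (φ1 : S1 ⟶ T1) (h1 : k ≫ φ1 = l)
    (h2 : s ≫ φ1 = CommRingCat.ofHom φ.toRingHom ≫ t) :
    CommRingCat.ofHom (Algebra.TensorProduct.map (AlgHom.id R₀ K) φ).toRingHom ≫ (tIso hT).hom =
      (tIso hS).hom ≫ φ1 := by
  apply (CommRingCat.isPushout_tensorProduct R₀ K S).hom_ext
  · have e1 : _ ≫ (tIso hS).hom = k :=
      (CommRingCat.isPushout_tensorProduct R₀ K S).inl_isoIsPushout_hom _ _ hS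
    have e2 : _ ≫ (tIso hT).hom = l :=
      (CommRingCat.isPushout_tensorProduct R₀ K T).inl_isoIsPushout_hom _ _ hT
    rw [reassoc_of% e1, h1]
    refine Eq.trans ?_ e2
    rw [← Category.assoc]
    congr 1
    ext x
    simp
  · have e1 : _ ≫ (tIso hS).hom = s :=
      (CommRingCat.isPushout_tensorProduct R₀ K S).inr_isoIsPushout_hom _ _ hS
    have e2 : _ ≫ (tIso hT).hom = t :=
      (CommRingCat.isPushout_tensorProduct R₀ K T).inr_isoIsPushout_hom _ _ hT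
    rw [reassoc_of% e1, h2]
    refine Eq.trans ?_ (congrArg (fun m => CommRingCat.ofHom φ.toRingHom ≫ m) e2)
    rw [← Category.assoc, ← Category.assoc]
    congr 1

theorem isPullback_bc_aux
    (h : RingSq.IsFib g.toLinearMap f.toLinearMap q.toLinearMap p.toLinearMap)
    (hp : Function.Surjective p)
    (hinj : Function.Injective ((g.toLinearMap.prod f.toLinearMap).lTensor K))
    {R1 A1' B1 A1 : CommRingCat.{u}}
    {rR : CommRingCat.of R ⟶ R1} {kR : CommRingCat.of K ⟶ R1}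
    (hR : IsPushout (CommRingCat.ofHom (algebraMap R₀ K)) (CommRingCat.ofHom (algebraMap R₀ R))
      kR rR)
    {rA' : CommRingCat.of A' ⟶ A1'} {kA' : CommRingCat.of K ⟶ A1'}
    (hA' : IsPushout (CommRingCat.ofHom (algebraMap R₀ K)) (CommRingCat.ofHom (algebraMap R₀ A'))
      kA' rA')
    {rB : CommRingCat.of B ⟶ B1} {kB : CommRingCat.of K ⟶ B1}
    (hB : IsPushout (CommRingCat.ofHom (algebraMap R₀ K)) (CommRingCat.ofHom (algebraMap R₀ B))
      kB rB)
    {rA : CommRingCat.of A ⟶ A1} {kA : CommRingCat.of K ⟶ A1}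
    (hA : IsPushout (CommRingCat.ofHom (algebraMap R₀ K)) (CommRingCat.ofHom (algebraMap R₀ A))
      kA rA)
    (f1 : R1 ⟶ A1') (g1 : R1 ⟶ B1) (p1 : A1' ⟶ A1) (q1 : B1 ⟶ A1)
    (hf : kR ≫ f1 = kA') (hf' : rR ≫ f1 = CommRingCat.ofHom f.toRingHom ≫ rA')
    (hg : kR ≫ g1 = kB) (hg' : rR ≫ g1 = CommRingCat.ofHom g.toRingHom ≫ rB)
    (hpp : kA' ≫ p1 = kA) (hpp' : rA' ≫ p1 = CommRingCat.ofHom p.toRingHom ≫ rA)
    (hq : kB ≫ q1 = kA) (hq' : rB ≫ q1 = CommRingCat.ofHom q.toRingHom ≫ rA) :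
    IsPullback f1 g1 p1 q1 :=
  IsPullback.of_iso (isPullback_tensor f g p q h hp hinj) (tIso hR) (tIso hA') (tIso hB) (tIso hA)
    (tIso_nat hR hA' f f1 hf hf') (tIso_nat hR hB g g1 hg hg')
    (tIso_nat hA' hA p p1 hpp hpp') (tIso_nat hB hA q q1 hq hq')

end

/-- The condition ensuring that a fibre square stays a fibre square after `R₀ ⟶ K`. -/
def UnivInj {R₀ K R A' B : CommRingCat.{u}} (k : R₀ ⟶ K) (r : R₀ ⟶ R) (f : R ⟶ A') (g : R ⟶ B) :
    Prop :=
  letI : Algebra R₀ K := k.hom.toAlgebra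
  letI : Algebra R₀ R := r.hom.toAlgebra
  letI : Algebra R₀ A' := (r ≫ f).hom.toAlgebra
  letI : Algebra R₀ B := (r ≫ g).hom.toAlgebra
  Function.Injective (((⟨g.hom, fun _ => rfl⟩ : R →ₐ[R₀] B).toLinearMap.prod
    (⟨f.hom, fun _ => rfl⟩ : R →ₐ[R₀] A').toLinearMap).lTensor K)

theorem isPullback_bc {R₀ K R A' B A : CommRingCat.{u}} (k : R₀ ⟶ K) (r : R₀ ⟶ R) {f : R ⟶ A'}
    {g : R ⟶ B} {p : A' ⟶ A} {q : B ⟶ A} (hpb : IsPullback f g p q) (hp : Function.Surjective p)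
    (hinj : UnivInj k r f g)
    {R1 A1' B1 A1 : CommRingCat.{u}} {rR : R ⟶ R1} {kR : K ⟶ R1} {rA' : A' ⟶ A1'} {kA' : K ⟶ A1'}
    {rB : B ⟶ B1} {kB : K ⟶ B1} {rA : A ⟶ A1} {kA : K ⟶ A1}
    (hR : IsPushout k r kR rR) (hA' : IsPushout k (r ≫ f) kA' rA')
    (hB : IsPushout k (r ≫ g) kB rB) (hA : IsPushout k (r ≫ f ≫ p) kA rA)
    (f1 : R1 ⟶ A1') (g1 : R1 ⟶ B1) (p1 : A1' ⟶ A1) (q1 : B1 ⟶ A1)
    (hf : kR ≫ f1 = kA') (hf' : rR ≫ f1 = f ≫ rA')
    (hg : kR ≫ g1 = kB) (hg' : rR ≫ g1 = g ≫ rB)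
    (hpp : kA' ≫ p1 = kA) (hpp' : rA' ≫ p1 = p ≫ rA)
    (hq : kB ≫ q1 = kA) (hq' : rB ≫ q1 = q ≫ rA) :
    IsPullback f1 g1 p1 q1 := by
  let : Algebra R₀ K := k.hom.toAlgebra
  let : Algebra R₀ R := r.hom.toAlgebra
  let : Algebra R₀ A' := (r ≫ f).hom.toAlgebra
  let : Algebra R₀ B := (r ≫ g).hom.toAlgebra
  let : Algebra R₀ A := (r ≫ f ≫ p).hom.toAlgebra
  let f' : R →ₐ[R₀] A' := ⟨f.hom, fun _ => rfl⟩
  let g' : R →ₐ[R₀] B := ⟨g.hom, fun _ => rfl⟩
  let p' : A' →ₐ[R₀] A := ⟨p.hom, fun _ => rfl⟩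
  have hw := hpb.w
  let q' : B →ₐ[R₀] A := ⟨q.hom, fun x => by
    change (r ≫ g ≫ q) x = (r ≫ f ≫ p) x
    rw [hw]⟩
  have hpb' := isPullback_iff.mp hpb
  refine isPullback_bc_aux f' g' p' q' ?_ hp hinj hR hA' hB hA f1 g1 p1 q1 hf hf' hg hg' hpp hpp'
    hq hq'
  refine ⟨?_, ?_, ?_⟩
  · ext x
    exact (congrArg (fun m : R ⟶ A => m x) hw).symm
  · intro m n hmn
    obtain ⟨e, h1, h2⟩ := hpb'.2.1 n m hmn.symm
    exact ⟨e, h2, h1⟩
  · intro e h1 h2
    refine hpb'.2.2 e 0 ?_ ?_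
    · rw [map_zero]
      exact h2
    · rw [map_zero]
      exact h1

theorem UnivInj.of_flat_left {R₀ K R A' B A : CommRingCat.{u}} (k : R₀ ⟶ K) (r : R₀ ⟶ R) {f : R ⟶ A'}
    {g : R ⟶ B} {p : A' ⟶ A} {q : B ⟶ A} (hpb : IsPullback f g p q) (hk : k.hom.Flat) :
    UnivInj k r f g := by
  let : Algebra R₀ K := k.hom.toAlgebra
  let : Algebra R₀ R := r.hom.toAlgebra
  let : Algebra R₀ A' := (r ≫ f).hom.toAlgebra
  let : Algebra R₀ B := (r ≫ g).hom.toAlgebra
  have : Module.Flat R₀ K := hk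
  refine Module.Flat.lTensor_preserves_injective_linearMap _ ?_
  intro x y hxy
  exact (isPullback_iff.mp hpb).2.2 x y (congrArg Prod.snd hxy) (congrArg Prod.fst hxy)

theorem UnivInj.of_flat {R₀ K R A' B A : CommRingCat.{u}} (k : R₀ ⟶ K) (r : R₀ ⟶ R) {f : R ⟶ A'}
    {g : R ⟶ B} {p : A' ⟶ A} {q : B ⟶ A} (hpb : IsPullback f g p q) (hp : Function.Surjective p)
    (hA : (r ≫ f ≫ p).hom.Flat) : UnivInj k r f g := by
  let : Algebra R₀ K := k.hom.toAlgebra
  let : Algebra R₀ R := r.hom.toAlgebra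
  let : Algebra R₀ A' := (r ≫ f).hom.toAlgebra
  let : Algebra R₀ B := (r ≫ g).hom.toAlgebra
  let : Algebra R₀ A := (r ≫ f ≫ p).hom.toAlgebra
  have : Module.Flat R₀ A := hA
  let f' : R →ₐ[R₀] A' := ⟨f.hom, fun _ => rfl⟩
  let g' : R →ₐ[R₀] B := ⟨g.hom, fun _ => rfl⟩
  let p' : A' →ₐ[R₀] A := ⟨p.hom, fun _ => rfl⟩
  have hw := hpb.w
  let q' : B →ₐ[R₀] A := ⟨q.hom, fun x => by
    change (r ≫ g ≫ q) x = (r ≫ f ≫ p) x
    rw [hw]⟩
  have hpb' := isPullback_iff.mp hpb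
  have hfib : RingSq.IsFib g'.toLinearMap f'.toLinearMap q'.toLinearMap p'.toLinearMap := by
    refine ⟨?_, ?_, ?_⟩
    · ext x
      exact (congrArg (fun m : R ⟶ A => m x) hw).symm
    · intro m n hmn
      obtain ⟨e, h1, h2⟩ := hpb'.2.1 n m hmn.symm
      exact ⟨e, h2, h1⟩
    · intro e h1 h2
      refine hpb'.2.2 e 0 ?_ ?_
      · rw [map_zero]
        exact h2
      · rw [map_zero]
        exact h1
  exact LinearMap.lTensor_injective_of_exact_of_flat _ (RingSq.coprod_surjective hp) _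
    hfib.injective hfib.exact K

/-- If `q` is injective with flat cokernel over `R₀` then the fibre square is universal. -/
theorem UnivInj.of_coker {R₀ K R A' B A : CommRingCat.{u}} (k : R₀ ⟶ K) (r : R₀ ⟶ R) {f : R ⟶ A'}
    {g : R ⟶ B} {p : A' ⟶ A} {q : B ⟶ A} (hpb : IsPullback f g p q) (hp : Function.Surjective p)
    (hq : Function.Injective q)
    (hQ : letI : Algebra R₀ A := (r ≫ f ≫ p).hom.toAlgebra
      ∃ (Q : Type u) (_ : AddCommGroup Q) (_ : Module R₀ Q) (_ : Module.Flat R₀ Q)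
        (π : A →ₗ[R₀] Q), Function.Surjective π ∧ ∀ x, π x = 0 ↔ ∃ y, q y = x) :
    UnivInj k r f g := by
  let : Algebra R₀ K := k.hom.toAlgebra
  let : Algebra R₀ R := r.hom.toAlgebra
  let : Algebra R₀ A' := (r ≫ f).hom.toAlgebra
  let : Algebra R₀ B := (r ≫ g).hom.toAlgebra
  let : Algebra R₀ A := (r ≫ f ≫ p).hom.toAlgebra
  obtain ⟨Q, _, _, _, π, hπ, hπ'⟩ := hQ
  let f' : R →ₐ[R₀] A' := ⟨f.hom, fun _ => rfl⟩
  let g' : R →ₐ[R₀] B := ⟨g.hom, fun _ => rfl⟩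
  let p' : A' →ₐ[R₀] A := ⟨p.hom, fun _ => rfl⟩
  have hpb' := isPullback_iff.mp hpb
  have hf : Function.Injective f'.toLinearMap := by
    intro x y hxy
    refine hpb'.2.2 x y hxy ?_
    apply hq
    have e1 : q (g x) = p (f x) := (congrArg (fun m : R ⟶ A => m x) hpb'.1).symm
    have e2 : q (g y) = p (f y) := (congrArg (fun m : R ⟶ A => m y) hpb'.1).symm
    rw [e1, e2]
    exact congrArg p hxy
  have hex : Function.Exact f'.toLinearMap (π ∘ₗ p'.toLinearMap) := by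
    intro x
    constructor
    · intro hx
      obtain ⟨y, hy⟩ := (hπ' _).mp hx
      obtain ⟨e, h1, -⟩ := hpb'.2.1 x y hy.symm
      exact ⟨e, h1⟩
    · rintro ⟨e, rfl⟩
      refine (hπ' _).mpr ⟨g e, ?_⟩
      exact (congrArg (fun m : R ⟶ A => m e) hpb'.1).symm
  have hp' : Function.Surjective p'.toLinearMap := hp
  have hs : Function.Surjective (π ∘ₗ p'.toLinearMap) := by
    rw [LinearMap.coe_comp]
    exact hπ.comp hp'
  have h1 : Function.Injective (f'.toLinearMap.lTensor K) :=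
    LinearMap.lTensor_injective_of_exact_of_flat _ hs _ hf hex K
  have h2 : (LinearMap.snd R₀ B A').lTensor K ∘ₗ
      (g'.toLinearMap.prod f'.toLinearMap).lTensor K = f'.toLinearMap.lTensor K := by
    rw [← LinearMap.lTensor_comp, LinearMap.snd_prod]
  rw [← h2, LinearMap.coe_comp] at h1
  exact h1.of_comp

/-- Flatness of the corner of a fibre square. -/
theorem flat_corner {R₀ R A' B A : CommRingCat.{u}} (r : R₀ ⟶ R) {f : R ⟶ A'}
    {g : R ⟶ B} {p : A' ⟶ A} {q : B ⟶ A} (hpb : IsPullback f g p q) (hp : Function.Surjective p)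
    (h1 : (r ≫ f).hom.Flat) (h2 : (r ≫ g).hom.Flat) (h3 : (r ≫ f ≫ p).hom.Flat) :
    r.hom.Flat := by
  let : Algebra R₀ R := r.hom.toAlgebra
  let : Algebra R₀ A' := (r ≫ f).hom.toAlgebra
  let : Algebra R₀ B := (r ≫ g).hom.toAlgebra
  let : Algebra R₀ A := (r ≫ f ≫ p).hom.toAlgebra
  have : Module.Flat R₀ A := h3
  have : Module.Flat R₀ A' := h1
  have : Module.Flat R₀ B := h2
  let f' : R →ₐ[R₀] A' := ⟨f.hom, fun _ => rfl⟩
  let g' : R →ₐ[R₀] B := ⟨g.hom, fun _ => rfl⟩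
  let p' : A' →ₐ[R₀] A := ⟨p.hom, fun _ => rfl⟩
  have hw := hpb.w
  let q' : B →ₐ[R₀] A := ⟨q.hom, fun x => by
    change (r ≫ g ≫ q) x = (r ≫ f ≫ p) x
    rw [hw]⟩
  have hpb' := isPullback_iff.mp hpb
  have hfib : RingSq.IsFib g'.toLinearMap f'.toLinearMap q'.toLinearMap p'.toLinearMap := by
    refine ⟨?_, ?_, ?_⟩
    · ext x
      exact (congrArg (fun m : R ⟶ A => m x) hw).symm
    · intro m n hmn
      obtain ⟨e, h1, h2⟩ := hpb'.2.1 n m hmn.symm
      exact ⟨e, h2, h1⟩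
    · intro e h1 h2
      refine hpb'.2.2 e 0 ?_ ?_
      · rw [map_zero]
        exact h2
      · rw [map_zero]
        exact h1
  exact hfib.flat hp

end K838.RingPB
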