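import Groth.Agent.FlatB.PushSections
import Groth.Agent.Pinch.K838.RingPB
import Mathlib.AlgebraicGeometry.Morphisms.IsIso

/-!
# Ferrand squares

`IsFerr i j a b`: `i` is a closed immersion, `a`, `b` are affine, `i ≫ a = j ≫ b` and for every open `O`
of the corner `W` the sections over `O` are the fibre product of the sections over the preimages.
Such a square is a pushout of schemes, and conversely.
-/

set_option autoImplicit false
universe u

open AlgebraicGeometry CategoryTheory CategoryTheory.Limits TopologicalSpace Opposite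
open Groth.Agent.FlatB

namespace K838.Ferr

/-- The square of sections over an open `O` of the corner is a fibre square. -/
def SecSq {X Y Z W : Scheme.{u}} (i : Z ⟶ X) (j : Z ⟶ Y) (a : X ⟶ W) (b : Y ⟶ W)
    (O : W.Opens) : Prop :=
  ∃ h : i ⁻¹ᵁ a ⁻¹ᵁ O ≤ j ⁻¹ᵁ b ⁻¹ᵁ O, IsPullback (a.app O) (b.app O) (i.app (a ⁻¹ᵁ O))
    (j.appLE (b ⁻¹ᵁ O) (i ⁻¹ᵁ a ⁻¹ᵁ O) h)

/-- Ferrand squares. -/
structure IsFerr {X Y Z W : Scheme.{u}} (i : Z ⟶ X) (j : Z ⟶ Y) (a : X ⟶ W) (b : Y ⟶ W) :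
    Prop where
  closed : IsClosedImmersion i
  affine_left : IsAffineHom a
  affine_right : IsAffineHom b
  w : i ≫ a = j ≫ b
  sec : ∀ O : W.Opens, SecSq i j a b O

/-- Existence of adapted affine pairs. -/
def Adapted {X Y Z : Scheme.{u}} (i : Z ⟶ X) (j : Z ⟶ Y) : Prop :=
  ∀ y : Y, ∃ (U : X.Opens) (V : Y.Opens), IsAffineOpen U ∧ IsAffineOpen V ∧ y ∈ V ∧
    i ⁻¹ᵁ U = j ⁻¹ᵁ V

variable {X Y Z W : Scheme.{u}} {i : Z ⟶ X} {j : Z ⟶ Y} {a : X ⟶ W} {b : Y ⟶ W}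

theorem preimage_eq (w : i ≫ a = j ≫ b) (O : W.Opens) : i ⁻¹ᵁ a ⁻¹ᵁ O = j ⁻¹ᵁ b ⁻¹ᵁ O := by
  rw [← Scheme.Hom.comp_preimage, w, Scheme.Hom.comp_preimage]

theorem Adapted.of_affine (w : i ≫ a = j ≫ b) [IsAffineHom a] [IsAffineHom b] :
    Adapted i j := by
  intro y
  obtain ⟨O, hO, hy, -⟩ := exists_isAffineOpen_mem_and_subset (U := ⊤) (x := b y) trivial
  exact ⟨a ⁻¹ᵁ O, b ⁻¹ᵁ O, hO.preimage a, hO.preimage b, hy, preimage_eq w O⟩

theorem sec_w (w : i ≫ a = j ≫ b) (O : W.Opens) (h : i ⁻¹ᵁ a ⁻¹ᵁ O ≤ j ⁻¹ᵁ b ⁻¹ᵁ O) :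
    a.app O ≫ i.app (a ⁻¹ᵁ O) = b.app O ≫ j.appLE (b ⁻¹ᵁ O) (i ⁻¹ᵁ a ⁻¹ᵁ O) h := by
  rw [Scheme.Hom.app_eq_appLE, Scheme.Hom.app_eq_appLE, Scheme.Hom.app_eq_appLE,
    Scheme.Hom.appLE_comp_appLE, Scheme.Hom.appLE_comp_appLE]
  simp only [w]

/-- Elementwise form. -/
theorem secSq_iff (w : i ≫ a = j ≫ b) (O : W.Opens) : SecSq i j a b O ↔
    (∀ (s : Γ(X, a ⁻¹ᵁ O)) (t : Γ(Y, b ⁻¹ᵁ O)), i.app (a ⁻¹ᵁ O) s =
      j.appLE (b ⁻¹ᵁ O) (i ⁻¹ᵁ a ⁻¹ᵁ O) (preimage_eq w O).le t →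
        ∃ r : Γ(W, O), a.app O r = s ∧ b.app O r = t) ∧
    (∀ r r' : Γ(W, O), a.app O r = a.app O r' → b.app O r = b.app O r' → r = r') := by
  constructor
  · rintro ⟨h, H⟩
    exact (RingPB.isPullback_iff.mp H).2
  · intro H
    exact ⟨(preimage_eq w O).le, RingPB.isPullback_iff.mpr ⟨sec_w w O _, H⟩⟩

theorem isPullback_iso_comp {A A' B C D : CommRingCat.{u}} {f : A ⟶ B} {g : A ⟶ C} {h : B ⟶ D}
    {k : C ⟶ D} (H : IsPullback f g h k) (e : A' ⟶ A) [IsIso e] :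
    IsPullback (e ≫ f) (e ≫ g) h k :=
  IsPullback.of_iso' H (asIso e) (Iso.refl _) (Iso.refl _) (Iso.refl _) (by simp) (by simp)
    (by simp) (by simp)

theorem isIso_of_isPullback_comp {A A' B C D : CommRingCat.{u}} {f : A ⟶ B} {g : A ⟶ C} {h : B ⟶ D}
    {k : C ⟶ D} (H : IsPullback f g h k) (e : A' ⟶ A) (H' : IsPullback (e ≫ f) (e ≫ g) h k) :
    IsIso e := by
  have : e = (H'.isoIsPullback _ _ H).hom := by
    apply H.hom_ext
    · rw [IsPullback.isoIsPullback_hom_fst]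
    · rw [IsPullback.isoIsPullback_hom_snd]
  rw [this]
  infer_instance

/-- Transport of the section property along an isomorphism of corners. -/
theorem SecSq.comp_iso {W' : Scheme.{u}} (e : W ⟶ W') [IsIso e] {O : W'.Opens}
    (h : SecSq i j a b (e ⁻¹ᵁ O)) : SecSq i j (a ≫ e) (b ≫ e) O := by
  obtain ⟨h1, H⟩ := h
  refine ⟨h1, ?_⟩
  have H2 := isPullback_iso_comp H (e.app O)
  rw [← Scheme.Hom.comp_app, ← Scheme.Hom.comp_app] at H2
  exact H2

theorem IsFerr.comp_iso (h : IsFerr i j a b) {W' : Scheme.{u}} (e : W ⟶ W') [IsIso e] :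
    IsFerr i j (a ≫ e) (b ≫ e) where
  closed := h.closed
  affine_left := by
    have := h.affine_left
    infer_instance
  affine_right := by
    have := h.affine_right
    infer_instance
  w := by rw [← Category.assoc, h.w, Category.assoc]
  sec O := (h.sec (e ⁻¹ᵁ O)).comp_iso e

/-- The Ferrand pushout constructed in `FlatB` is a Ferrand square. -/
theorem exists_isFerr [IsClosedImmersion i] (H : Adapted i j) :
    ∃ (W : Scheme.{u}) (a : X ⟶ W) (b : Y ⟶ W), IsPushout i j a b ∧ IsFerr i j a b ∧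
      IsPullback i j a b ∧ IsClosedImmersion b ∧ (IsIntegralHom j → IsIntegralHom a) ∧
      (∀ w : W, (∃ x, a x = w) ∨ ∃ y, b y = w) ∧
      (∀ (U : X.Opens) (V : Y.Opens), IsAffineOpen U → IsAffineOpen V → i ⁻¹ᵁ U = j ⁻¹ᵁ V →
        ∃ O : W.Opens, IsAffineOpen O ∧ a ⁻¹ᵁ O = U ∧ b ⁻¹ᵁ O = V) := by
  obtain ⟨W, a, b, h1, h2, h3, h4, h5, -, -, h8, h9, h10, h11⟩ :=
    PushSections.exists_pushout_sections i j H
  refine ⟨W, a, b, h1, ⟨inferInstance, h4, inferInstance, h1.w, fun O => ?_⟩, h2, h3, h5, h8, h9⟩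
  rw [secSq_iff h1.w]
  refine ⟨fun s t hst => ?_, h11 O⟩
  obtain ⟨r, hr, -⟩ := h10 O s t (i ⁻¹ᵁ a ⁻¹ᵁ O) rfl (preimage_eq h1.w O) (by
    rw [← Scheme.Hom.app_eq_appLE]
    exact hst)
  exact ⟨r, hr⟩

/-- Any pushout of schemes of a closed immersion along a morphism admitting adapted affine pairs is a
Ferrand square, with the expected properties. -/
theorem props_of_isPushout [IsClosedImmersion i] (H : Adapted i j) (h : IsPushout i j a b) :
    IsFerr i j a b ∧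
      IsPullback i j a b ∧ IsClosedImmersion b ∧ (IsIntegralHom j → IsIntegralHom a) ∧
      (∀ w : W, (∃ x, a x = w) ∨ ∃ y, b y = w) ∧
      (∀ (U : X.Opens) (V : Y.Opens), IsAffineOpen U → IsAffineOpen V → i ⁻¹ᵁ U = j ⁻¹ᵁ V →
        ∃ O : W.Opens, IsAffineOpen O ∧ a ⁻¹ᵁ O = U ∧ b ⁻¹ᵁ O = V) := by
  obtain ⟨W', a', b', h1, h2, h3, h4, h5, h6, h7⟩ := exists_isFerr H
  let e : W' ≅ W := h1.isoIsPushout _ _ h
  have ea : a' ≫ e.hom = a := h1.inl_isoIsPushout_hom _ _ h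
  have eb : b' ≫ e.hom = b := h1.inr_isoIsPushout_hom _ _ h
  rw [← ea, ← eb]
  refine ⟨h2.comp_iso e.hom, ?_, ?_, ?_, ?_, ?_⟩
  · exact IsPullback.of_iso h3 (Iso.refl _) (Iso.refl _) (Iso.refl _) e (by simp) (by simp)
      (by simp) (by simp)
  · infer_instance
  · intro h
    have := h5 h
    infer_instance
  · intro w
    rcases h6 (e.inv w) with ⟨x, hx⟩ | ⟨x, hx⟩
    · exact Or.inl ⟨x, by rw [Scheme.Hom.comp_apply, hx, ← Scheme.Hom.comp_apply, e.inv_hom_id]; rfl⟩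
    · exact Or.inr ⟨x, by rw [Scheme.Hom.comp_apply, hx, ← Scheme.Hom.comp_apply, e.inv_hom_id]; rfl⟩
  · intro U V hU hV hUV
    obtain ⟨O, hO, hO1, hO2⟩ := h7 U V hU hV hUV
    refine ⟨e.inv ⁻¹ᵁ O, hO.preimage e.inv, ?_, ?_⟩
    · rw [← Scheme.Hom.comp_preimage, Category.assoc, e.hom_inv_id, Category.comp_id, hO1]
    · rw [← Scheme.Hom.comp_preimage, Category.assoc, e.hom_inv_id, Category.comp_id, hO2]

theorem isFerr_of_isPushout [IsClosedImmersion i] [IsAffineHom a] [IsAffineHom b]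
    (h : IsPushout i j a b) : IsFerr i j a b :=
  (props_of_isPushout (Adapted.of_affine h.w) h).1

/-- Main criterion: if the corner `W` is covered by affine opens over which the sections form a fibre
square, then the square is a pushout of schemes. -/
theorem isPushout_of_cover [IsClosedImmersion i] [IsAffineHom a] [IsAffineHom b]
    (w : i ≫ a = j ≫ b)
    (H : ∀ x : W, ∃ O : W.Opens, x ∈ O ∧ IsAffineOpen O ∧ SecSq i j a b O) :
    IsPushout i j a b := by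
  obtain ⟨W', a', b', h1, h2, h3, h4, h5, h6, h7⟩ := exists_isFerr (Adapted.of_affine w)
  obtain ⟨φ, ea, eb⟩ : ∃ φ : W' ⟶ W, a' ≫ φ = a ∧ b' ≫ φ = b :=
    ⟨h1.desc a b w, h1.inl_desc _ _ _, h1.inr_desc _ _ _⟩
  -- opens are determined by their preimages
  have hopens : ∀ {O O' : W'.Opens}, a' ⁻¹ᵁ O = a' ⁻¹ᵁ O' → b' ⁻¹ᵁ O = b' ⁻¹ᵁ O' → O = O' := by
    intro O O' h1 h2
    ext w
    rcases h6 w with ⟨x, rfl⟩ | ⟨y, rfl⟩
    · exact Set.ext_iff.mp (congrArg (fun V : X.Opens => (V : Set X)) h1) x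
    · exact Set.ext_iff.mp (congrArg (fun V : Y.Opens => (V : Set Y)) h2) y
  have hφ : IsAffineHom φ := by
    refine ⟨fun O hO => ?_⟩
    obtain ⟨O', hO', e1, e2⟩ := h7 (a ⁻¹ᵁ O) (b ⁻¹ᵁ O) (hO.preimage a) (hO.preimage b)
      (preimage_eq w O)
    have : φ ⁻¹ᵁ O = O' := by
      refine hopens ?_ ?_
      · rw [e1, ← Scheme.Hom.comp_preimage, ea]
      · rw [e2, ← Scheme.Hom.comp_preimage, eb]
    rw [this]
    exact hO'
  have hiso : IsIso φ := by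
    choose O hxO hO hsec using H
    refine (IsZariskiLocalAtTarget.iff_of_iSup_eq_top (P := MorphismProperty.isomorphisms Scheme)
      O ?_).mpr ?_
    · rw [eq_top_iff]
      intro x _
      exact Opens.mem_iSup.mpr ⟨x, hxO x⟩
    · intro x
      change IsIso (φ ∣_ O x)
      rw [isIso_morphismRestrict_iff_isIso_app φ (hO x)]
      obtain ⟨k1, H1⟩ := hsec x
      obtain ⟨k2, H2⟩ := h2.sec (φ ⁻¹ᵁ O x)
      refine isIso_of_isPullback_comp H2 _ ?_
      rw [← Scheme.Hom.comp_app, ← Scheme.Hom.comp_app]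
      subst ea eb
      exact H1
  exact IsPushout.of_iso h1 (Iso.refl _) (Iso.refl _) (Iso.refl _) (asIso φ) (by simp) (by simp)
    (by simp [ea]) (by simp [eb])

end K838.Ferr
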