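import Groth.Agent.Pinch.K838.FerrBC
import Groth.Agent.Pinch.K838.Pairs
import Groth.Prelude.Def_W4c3jacimperfPinch
import Mathlib.RingTheory.Flat.FaithfullyFlat.Basic

/-!
# Base change of Ferrand squares with projective cokernel
-/

set_option autoImplicit false
universe u

open AlgebraicGeometry CategoryTheory CategoryTheory.Limits TopologicalSpace Opposite
open K838.Ferr K838.RingPB

namespace K838.Coker

/-- the quotient of `A` by the image of `q` is flat over `R₀` -/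
def FlatCoker {R₀ B A : CommRingCat.{u}} (r : R₀ ⟶ A) (q : B ⟶ A) : Prop :=
  letI : Algebra R₀ A := r.hom.toAlgebra
  ∃ (Q : Type u) (_ : AddCommGroup Q) (_ : Module R₀ Q) (_ : Module.Flat R₀ Q)
        (π : A →ₗ[R₀] Q), Function.Surjective π ∧ ∀ x, π x = 0 ↔ ∃ y, q y = x

theorem univInj {R₀ K R A' B A : CommRingCat.{u}} (k : R₀ ⟶ K) (r : R₀ ⟶ R) {f : R ⟶ A'}
    {g : R ⟶ B} {p : A' ⟶ A} {q : B ⟶ A} (hpb : IsPullback f g p q) (hp : Function.Surjective p)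
    (hq : Function.Injective q) (hQ : FlatCoker (r ≫ f ≫ p) q) : UnivInj k r f g :=
  UnivInj.of_coker k r hpb hp hq hQ

theorem flatCoker_of_subsingleton {R₀ B A : CommRingCat.{u}} (r : R₀ ⟶ A) (q : B ⟶ A)
    [Subsingleton A] : FlatCoker r q := by
  let : Algebra R₀ A := r.hom.toAlgebra
  refine ⟨PUnit, inferInstance, inferInstance, inferInstance, 0,
    fun x => ⟨0, Subsingleton.elim _ _⟩, fun x => ?_⟩
  exact ⟨fun _ => ⟨0, Subsingleton.elim _ _⟩, fun _ => rfl⟩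

theorem flatCoker_of {R₀ B A : CommRingCat.{u}} (r : R₀ ⟶ A) (q : B ⟶ A) (s : R₀ ⟶ B)
    (hs : s ≫ q = r) (hv : @Pinch.CokerProjective R₀ A B _ _ _ r.hom.toAlgebra q.hom) :
    FlatCoker r q := by
  let : Algebra R₀ A := r.hom.toAlgebra
  have hproj : Module.Projective R₀ (A ⧸ Submodule.span R₀ (Set.range q.hom)) := hv
  refine ⟨A ⧸ Submodule.span R₀ (Set.range q.hom),
    inferInstance, inferInstance, Module.Flat.of_projective, Submodule.mkQ _,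
    Submodule.mkQ_surjective _, fun x => ?_⟩
  rw [Submodule.mkQ_apply, Submodule.Quotient.mk_eq_zero]
  constructor
  · intro hx
    induction hx using Submodule.span_induction with
    | mem x hx => exact hx
    | zero => exact ⟨0, map_zero _⟩
    | add x y _ _ hx hy =>
      obtain ⟨x', rfl⟩ := hx
      obtain ⟨y', rfl⟩ := hy
      exact ⟨x' + y', map_add _ _ _⟩
    | smul c x _ hx =>
      obtain ⟨x', rfl⟩ := hx
      refine ⟨s c * x', ?_⟩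
      rw [map_mul]
      have : q (s c) = r c := by rw [← hs]; rfl
      rw [this]
      rfl
  · rintro ⟨y, rfl⟩
    exact Submodule.subset_span ⟨y, rfl⟩

theorem flatCoker_of_cokerProjective {Y T Z : Scheme.{u}} (t : T ⟶ Y) (ξ : Z ⟶ T) (U : Y.Opens)
    (hv : @Pinch.CokerProjective Γ(Y, U) Γ(Z, (ξ ≫ t) ⁻¹ᵁ U) Γ(T, t ⁻¹ᵁ U) _ _ _
      ((ξ ≫ t).app U).hom.toAlgebra (ξ.app (t ⁻¹ᵁ U)).hom)
    {V : T.Opens} (hV : V = t ⁻¹ᵁ U) {V' : Z.Opens} (hV' : V' = (ξ ≫ t) ⁻¹ᵁ U) (e : V' ≤ ξ ⁻¹ᵁ V)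
    (e' : V' ≤ (ξ ≫ t) ⁻¹ᵁ U) :
    FlatCoker ((ξ ≫ t).appLE U V' e') (ξ.appLE V V' e) := by
  subst hV hV'
  rw [← Scheme.Hom.app_eq_appLE]
  have e1 : ξ.appLE (t ⁻¹ᵁ U) ((ξ ≫ t) ⁻¹ᵁ U) e = ξ.app (t ⁻¹ᵁ U) :=
    (Scheme.Hom.app_eq_appLE _).symm
  rw [e1]
  exact flatCoker_of ((ξ ≫ t).app U) (ξ.app (t ⁻¹ᵁ U)) (t.app U)
    (Scheme.Hom.comp_app ξ t U).symm hv

theorem stalkMap_injective {X Y : Scheme.{u}} (f : X ⟶ Y) [Flat f] (x : X) :
    Function.Injective (f.stalkMap x) := by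
  algebraize [(f.stalkMap x).hom]
  have : Module.FaithfullyFlat (Y.presheaf.stalk (f x)) (X.presheaf.stalk x) :=
    @Module.FaithfullyFlat.of_flat_of_isLocalHom _ _ _ _ _ _ _
      (Flat.stalkMap f x) (f.toLRSHom.prop x)
  exact ‹RingHom.FaithfullyFlat _›.injective

/-- For `f` flat and surjective, `Γ(Y, U) ⟶ Γ(X, f⁻¹ U)` is injective. -/
theorem app_injective {X Y : Scheme.{u}} (f : X ⟶ Y) [Flat f] [Surjective f] (U : Y.Opens) :
    Function.Injective (f.app U) := by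
  rw [injective_iff_map_eq_zero]
  intro s hs
  apply TopCat.Presheaf.section_ext Y.sheaf U
  intro y hy
  obtain ⟨x, rfl⟩ := f.surjective y
  apply stalkMap_injective f x
  have h1 := Scheme.Hom.germ_stalkMap_apply f U x hy s
  have h2 : X.presheaf.germ (f ⁻¹ᵁ U) x hy (f.app U s) = 0 := by rw [hs, map_zero]
  have h3 : (f.stalkMap x) ((Y.presheaf.germ U (f x) hy) 0) = 0 := by rw [map_zero, map_zero]
  exact (h1.trans h2).trans h3.symm

theorem appLE_injective {Z T : Scheme.{u}} (ξ : Z ⟶ T) [Flat ξ] [Surjective ξ]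
    {V : T.Opens} {V' : Z.Opens} (hV' : V' = ξ ⁻¹ᵁ V) (e : V' ≤ ξ ⁻¹ᵁ V) :
    Function.Injective (ξ.appLE V V' e) := by
  subst hV'
  rw [← Scheme.Hom.app_eq_appLE]
  exact app_injective ξ V

theorem subsingleton_of_eq_bot {X : Scheme.{u}} {V : X.Opens} (h : V = ⊥) :
    Subsingleton Γ(X, V) := by
  subst h
  exact CommRingCat.subsingleton_of_isTerminal X.sheaf.isTerminalOfEmpty

/-- Condition for base change in the standard situation. -/
theorem exists_univInj {X Y T Z P : Scheme.{u}} (f : X ⟶ Y) (t : T ⟶ Y) (ξ : Z ⟶ T) (ι : Z ⟶ X)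
    [IsAffineHom t] [IsClosedImmersion ι] (hsq : ι ≫ f = ξ ≫ t)
    (hstd : ∀ y : Y, ∃ U : Y.Opens, IsAffineOpen U ∧ y ∈ U ∧ ∃ V : X.Opens, IsAffineOpen V ∧
      V ≤ f ⁻¹ᵁ U ∧ ∀ z : Z, (ξ ≫ t).base z ∈ U → ι.base z ∈ V)
    (a : X ⟶ P) (b : T ⟶ P) (hP : IsPushout ι ξ a b) [Flat ξ] [Surjective ξ]
    (hv : ∀ U : Y.affineOpens, @Pinch.CokerProjective Γ(Y, U) Γ(Z, (ξ ≫ t) ⁻¹ᵁ U) Γ(T, t ⁻¹ᵁ U) _ _ _
      ((ξ ≫ t).app U).hom.toAlgebra (ξ.app (t ⁻¹ᵁ U)).hom)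
    (p : P ⟶ Y) (hap : a ≫ p = f) (hbp : b ≫ p = t) (w : P) :
    ∃ (U : Y.Opens) (O : P.Opens) (hOU : O ≤ p ⁻¹ᵁ U), IsAffineOpen U ∧ IsAffineOpen O ∧ w ∈ O ∧
      ∀ (K : CommRingCat.{u}) (k : Γ(Y, U) ⟶ K),
        UnivInj k (p.appLE U O hOU) (a.app O) (b.app O) := by
  have hA : Adapted ι ξ := fun y => by
    obtain ⟨U, V, hU, hV, hy, h, -⟩ := K838.Pairs.exists_pair f t ξ ι hsq hstd y
    exact ⟨U, V, hU, hV, hy, h⟩
  obtain ⟨h1, h2, h3, -, h5, h6⟩ := props_of_isPushout hA hP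
  have haff := h1.affine_left
  obtain ⟨U, hU, hwU, V, hV, hVU, hZ⟩ := hstd (p w)
  have hpre : ι ⁻¹ᵁ V = ξ ⁻¹ᵁ t ⁻¹ᵁ U := by
    apply le_antisymm
    · intro z hz
      have h1 : ι.base z ∈ f ⁻¹ᵁ U := hVU hz
      have h2 : (ι ≫ f) z ∈ U := h1
      rw [hsq] at h2
      exact h2
    · intro z hz
      exact hZ z hz
  obtain ⟨O, hO, hOa, hOb⟩ := h6 V (t ⁻¹ᵁ U) hV (hU.preimage t) hpre
  by_cases hwO : w ∈ O
  · have hOU : O ≤ p ⁻¹ᵁ U := by
      intro x hx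
      rcases h5 x with ⟨y, rfl⟩ | ⟨y, rfl⟩
      · have hy : y ∈ a ⁻¹ᵁ O := hx
        rw [hOa] at hy
        have hy2 : f y ∈ U := hVU hy
        rw [← hap, Scheme.Hom.comp_apply] at hy2
        exact hy2
      · have hy : y ∈ b ⁻¹ᵁ O := hx
        rw [hOb] at hy
        have hy2 : t y ∈ U := hy
        rw [← hbp, Scheme.Hom.comp_apply] at hy2
        exact hy2
    refine ⟨U, O, hOU, hU, hO, hwO, fun K k => ?_⟩
    obtain ⟨hle, hpb⟩ := h1.sec O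
    have e2 : ι ⁻¹ᵁ a ⁻¹ᵁ O = (ξ ≫ t) ⁻¹ᵁ U := by rw [hOa, hpre, Scheme.Hom.comp_preimage]
    refine univInj k _ hpb (ι.app_surjective _ (hO.preimage a))
      (appLE_injective ξ (preimage_eq h1.w O) hle) ?_
    have q3 : (ξ ≫ t).appLE U (ι ⁻¹ᵁ a ⁻¹ᵁ O) e2.le = p.appLE U O hOU ≫ a.app O ≫
        ι.app (a ⁻¹ᵁ O) := by
      rw [Scheme.Hom.app_eq_appLE, Scheme.Hom.app_eq_appLE, Scheme.Hom.appLE_comp_appLE,
        Scheme.Hom.appLE_comp_appLE]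
      simp only [Category.assoc, hap, hsq]
    rw [← q3]
    exact flatCoker_of_cokerProjective t ξ U (hv ⟨U, hU⟩) hOb e2 hle e2.le
  · -- away from `T`
    have hwb : w ∉ Set.range b := by
      rintro ⟨y, rfl⟩
      apply hwO
      have : y ∈ b ⁻¹ᵁ O := by
        rw [hOb]
        have : p (b y) ∈ U := hwU
        rw [← Scheme.Hom.comp_apply, hbp] at this
        exact this
      exact this
    let C : P.Opens := ⟨(Set.range b)ᶜ, b.isClosedEmbedding.isClosed_range.isOpen_compl⟩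
    obtain ⟨O', hO', hwO', hOC⟩ := exists_isAffineOpen_mem_and_subset (U := p ⁻¹ᵁ U ⊓ C) (x := w)
      ⟨hwU, hwb⟩
    have hOU' : O' ≤ p ⁻¹ᵁ U := fun x hx => (hOC hx).1
    refine ⟨U, O', hOU', hU, hO', hwO', fun K k => ?_⟩
    obtain ⟨hle, hpb⟩ := h1.sec O'
    have hb : b ⁻¹ᵁ O' = ⊥ := by
      rw [eq_bot_iff]
      intro y hy
      exact (hOC hy).2 ⟨y, rfl⟩
    have hZ' : ι ⁻¹ᵁ a ⁻¹ᵁ O' = ⊥ := by
      rw [preimage_eq h1.w O', hb]
      rfl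
    have s1 := subsingleton_of_eq_bot hb
    have s2 := subsingleton_of_eq_bot hZ'
    exact univInj k _ hpb (ι.app_surjective _ (hO'.preimage a))
      (fun x y _ => Subsingleton.elim _ _) (flatCoker_of_subsingleton _ _)

end K838.Coker
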