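import Mathlib.RingTheory.AdjoinRoot
import Mathlib.RingTheory.MvPolynomial.Basic
import Mathlib.Algebra.MvPolynomial.CommRing
import Mathlib.RingTheory.Polynomial.Basic
import Mathlib.Data.Fin.VecNotation

/-!
# The pinching chart `u ^ 2 = b v ^ 2`
-/

set_option autoImplicit false
universe u

namespace K838.Chart

open MvPolynomial in
theorem decomp {B : Type u} [CommRing B] (b : B) (F : MvPolynomial (Fin 2) B) :
    ∃ F0 F1 : Polynomial B, F - (Polynomial.aeval (X 1 : MvPolynomial (Fin 2) B) F0 +
      X 0 * Polynomial.aeval (X 1 : MvPolynomial (Fin 2) B) F1) ∈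
      Ideal.span {(X 0 ^ 2 - C b * X 1 ^ 2 : MvPolynomial (Fin 2) B)} := by
  induction F using MvPolynomial.induction_on with
  | C a =>
    refine ⟨Polynomial.C a, 0, ?_⟩
    simp only [Polynomial.aeval_C, map_zero, mul_zero, add_zero, MvPolynomial.algebraMap_eq,
      sub_self, zero_mem]
  | add p q hp hq =>
    obtain ⟨p0, p1, hp⟩ := hp
    obtain ⟨q0, q1, hq⟩ := hq
    refine ⟨p0 + q0, p1 + q1, ?_⟩
    have := Ideal.add_mem _ hp hq
    convert this using 1
    rw [map_add, map_add]
    ring
  | mul_X p i hp =>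
    obtain ⟨p0, p1, hp⟩ := hp
    fin_cases i
    · refine ⟨Polynomial.C b * Polynomial.X ^ 2 * p1, p0, ?_⟩
      have h1 := Ideal.mul_mem_right (X 0) _ hp
      have h2 : (X 0 ^ 2 - C b * X 1 ^ 2 : MvPolynomial (Fin 2) B) *
          Polynomial.aeval (X 1 : MvPolynomial (Fin 2) B) p1 ∈
          Ideal.span {(X 0 ^ 2 - C b * X 1 ^ 2 : MvPolynomial (Fin 2) B)} :=
        Ideal.mul_mem_right _ _ (Ideal.subset_span rfl)
      have := Ideal.add_mem _ h1 h2
      convert this using 1
      simp only [map_mul, map_pow, Polynomial.aeval_C, Polynomial.aeval_X,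
        MvPolynomial.algebraMap_eq, Fin.zero_eta]
      ring
    · refine ⟨Polynomial.X * p0, Polynomial.X * p1, ?_⟩
      have h1 := Ideal.mul_mem_right (X 1) _ hp
      convert h1 using 1
      simp only [map_mul, Polynomial.aeval_X, Fin.mk_one]
      ring

theorem indep {B : Type u} [CommRing B] (b : B) {a c : B}
    (h : algebraMap B (AdjoinRoot (Polynomial.X ^ 2 - Polynomial.C b)) a +
      AdjoinRoot.root (Polynomial.X ^ 2 - Polynomial.C b) *
      algebraMap B (AdjoinRoot (Polynomial.X ^ 2 - Polynomial.C b)) c = 0) : a = 0 ∧ c = 0 := by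
  nontriviality B
  have h1 : AdjoinRoot.mk (Polynomial.X ^ 2 - Polynomial.C b)
      (Polynomial.C a + Polynomial.X * Polynomial.C c) = 0 := by
    rw [map_add, map_mul, AdjoinRoot.mk_C, AdjoinRoot.mk_C, AdjoinRoot.mk_X]
    exact h
  rw [AdjoinRoot.mk_eq_zero] at h1
  have hm : (Polynomial.X ^ 2 - Polynomial.C b).Monic :=
    Polynomial.monic_X_pow_sub_C b (by norm_num)
  have hd : (Polynomial.X ^ 2 - Polynomial.C b).degree = 2 :=
    Polynomial.degree_X_pow_sub_C (by norm_num) b
  have h2 : Polynomial.C a + Polynomial.X * Polynomial.C c = 0 := by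
    by_contra hne
    refine Polynomial.Monic.not_dvd_of_degree_lt hm hne ?_ h1
    rw [hd]
    refine lt_of_le_of_lt (b := 1) ?_ (by norm_num)
    rw [add_comm, mul_comm]
    exact Polynomial.degree_linear_le
  constructor
  · have := congrArg (fun p => Polynomial.coeff p 0) h2
    simpa using this
  · have := congrArg (fun p => Polynomial.coeff p 1) h2
    simpa [Polynomial.coeff_X_mul, Polynomial.coeff_C] using this

theorem exists_rep {B : Type u} [CommRing B] (b : B)
    (x : AdjoinRoot (Polynomial.X ^ 2 - Polynomial.C b)) :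
    ∃ a c : B, x = algebraMap B (AdjoinRoot (Polynomial.X ^ 2 - Polynomial.C b)) a +
      AdjoinRoot.root (Polynomial.X ^ 2 - Polynomial.C b) *
      algebraMap B (AdjoinRoot (Polynomial.X ^ 2 - Polynomial.C b)) c := by
  have hz : AdjoinRoot.root (Polynomial.X ^ 2 - Polynomial.C b) ^ 2 =
      algebraMap B (AdjoinRoot (Polynomial.X ^ 2 - Polynomial.C b)) b := by
    have := AdjoinRoot.eval₂_root (Polynomial.X ^ 2 - Polynomial.C b)
    rw [Polynomial.eval₂_sub, Polynomial.eval₂_X_pow, Polynomial.eval₂_C, sub_eq_zero] at this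
    exact this
  induction x using AdjoinRoot.induction_on with
  | ih p =>
    induction p using Polynomial.induction_on' with
    | add p q hp hq =>
      obtain ⟨a, c, h⟩ := hp
      obtain ⟨a', c', h'⟩ := hq
      refine ⟨a + a', c + c', ?_⟩
      rw [map_add, h, h', map_add, map_add]
      ring
    | monomial n r =>
      induction n with
      | zero =>
        refine ⟨r, 0, ?_⟩
        rw [map_zero, mul_zero, add_zero]
        rfl
      | succ n ih =>
        obtain ⟨a, c, h⟩ := ih
        refine ⟨b * c, a, ?_⟩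
        rw [← Polynomial.monomial_mul_X, map_mul, h, AdjoinRoot.mk_X, map_mul, ← hz]
        ring

end K838.Chart
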