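import Mathlib.CategoryTheory.Comma.Over.Pullback
import Mathlib.CategoryTheory.Limits.Shapes.Pullback.IsPullback.Basic

/-!
# Cartesian squares attached to `Over.pullback`
-/

set_option autoImplicit false
universe v u

open CategoryTheory CategoryTheory.Limits

namespace K838.OverPull

variable {C : Type u} [Category.{v} C] [HasPullbacks C] {S S' : C} (g : S' ⟶ S)

theorem fst_map {A B : Over S} (k : A ⟶ B) :
    ((Over.pullback g).map k).left ≫ pullback.fst B.hom g = pullback.fst A.hom g ≫ k.left := by
  exact pullback.lift_fst _ _ _

theorem snd_map {A B : Over S} (k : A ⟶ B) :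
    ((Over.pullback g).map k).left ≫ pullback.snd B.hom g = pullback.snd A.hom g := by
  exact pullback.lift_snd _ _ _

/-- The cartesian square attached to a morphism in `Over S`. -/
theorem isPullback_map {A B : Over S} (k : A ⟶ B) :
    IsPullback (pullback.fst A.hom g) ((Over.pullback g).map k).left k.left
      (pullback.fst B.hom g) := by
  have h1 : IsPullback (pullback.fst B.hom g) (pullback.snd B.hom g) B.hom g :=
    IsPullback.of_hasPullback _ _
  have h2 : IsPullback (pullback.fst A.hom g) (pullback.snd A.hom g) A.hom g :=
    IsPullback.of_hasPullback _ _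
  refine IsPullback.of_bot (v₂₁ := pullback.snd B.hom g) (v₂₂ := B.hom) (h₃₁ := g) ?_ ?_ h1
  · rw [snd_map, Over.w]
    exact h2
  · exact (fst_map g k).symm

end K838.OverPull
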