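import Groth.Agent.Pinch.K838.PurePB
import Groth.Agent.Pinch.K838.RingPB
import Groth.Prelude.Def_W4c3jacimperfPinch
import Mathlib.RingTheory.RingHom.Finite
import Mathlib.RingTheory.RingHom.Etale
import Mathlib.RingTheory.RingHom.Integral

/-!
# Fibre products `R = B ×_E C` with `B` finite etale and `E / C` projective are universal
-/

set_option autoImplicit false
universe u

open CategoryTheory CategoryTheory.Limits TensorProduct

namespace K838.PureCat

/-- the quotient of `A` by the image of `q` is projective over `R₀` -/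
def ProjCoker {R₀ B A : CommRingCat.{u}} (r : R₀ ⟶ A) (q : B ⟶ A) : Prop :=
  letI : Algebra R₀ A := r.hom.toAlgebra
  ∃ (Q : Type u) (_ : AddCommGroup Q) (_ : Module R₀ Q) (_ : Module.Projective R₀ Q)
        (π : A →ₗ[R₀] Q), Function.Surjective π ∧ ∀ x, π x = 0 ↔ ∃ y, q y = x

theorem projCoker_of {R₀ B A : CommRingCat.{u}} (r : R₀ ⟶ A) (q : B ⟶ A) (s : R₀ ⟶ B)
    (hs : s ≫ q = r) (hv : @Pinch.CokerProjective R₀ A B _ _ _ r.hom.toAlgebra q.hom) :
    ProjCoker r q := by
  let : Algebra R₀ A := r.hom.toAlgebra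
  have hproj : Module.Projective R₀ (A ⧸ Submodule.span R₀ (Set.range q.hom)) := hv
  refine ⟨A ⧸ Submodule.span R₀ (Set.range q.hom),
    inferInstance, inferInstance, hproj, Submodule.mkQ _,
    Submodule.mkQ_surjective _, fun x => ?_⟩
  rw [Submodule.mkQ_apply, Submodule.Quotient.mk_eq_zero]
  constructor
  · intro hx
    induction hx using Submodule.span_induction with
    | mem x hx => exact hx
    | zero => exact ⟨0, map_zero _⟩
    | add x y _ _ hx hy =>
      obtain ⟨x', rfl⟩ := hx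
      obtain ⟨y', rfl⟩ := hy
      exact ⟨x' + y', map_add _ _ _⟩
    | smul c x _ hx =>
      obtain ⟨x', rfl⟩ := hx
      refine ⟨s c * x', ?_⟩
      rw [map_mul]
      have : q (s c) = r c := by rw [← hs]; rfl
      rw [this]
      rfl
  · rintro ⟨y, rfl⟩
    exact Submodule.subset_span ⟨y, rfl⟩

open RingPB

theorem isPullback_tensor {R B C E K : Type u} [CommRing R] [CommRing B] [CommRing C] [CommRing E]
    [CommRing K] [Algebra R B] [Algebra R C] [Algebra R E] [Algebra R K] [Algebra.Etale R B]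
    [Algebra.IsIntegral R B] [Algebra.IsIntegral R C] [Module.Finite R E] (f : B →ₐ[R] E)
    (g : C →ₐ[R] E) (hginj : Function.Injective g)
    (hpb : IsPullback (CommRingCat.ofHom (algebraMap R B)) (CommRingCat.ofHom (algebraMap R C))
      (CommRingCat.ofHom f.toRingHom) (CommRingCat.ofHom g.toRingHom))
    {V : Type u} [AddCommGroup V] [Module R V] [Module.Projective R V] (πV : E →ₗ[R] V)
    (hV : Function.Surjective πV) (hV' : ∀ e, πV e = 0 ↔ ∃ c, g c = e) :
    IsPullback (CommRingCat.ofHom (algebraMap K (K ⊗[R] B)))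
      (CommRingCat.ofHom (algebraMap K (K ⊗[R] C)))
      (CommRingCat.ofHom (Algebra.TensorProduct.map (AlgHom.id K K) f).toRingHom)
      (CommRingCat.ofHom (Algebra.TensorProduct.map (AlgHom.id K K) g).toRingHom) := by
  have : Module.Finite R B := Algebra.IsIntegral.finite
  have : Module.Finite R V := Module.Finite.of_surjective πV hV
  have hpb' := isPullback_iff.mp hpb
  obtain ⟨h1, h2⟩ := PurePB.bij f g (fun b c hbc => hpb'.2.1 b c hbc) hginj πV hV hV' (by
    intro r hr
    refine hpb'.2.2 r 0 ?_ ?_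
    · rw [map_zero]
      exact hr
    · rw [map_zero]
      apply hginj
      rw [map_zero]
      refine Eq.trans (congrArg (fun m : CommRingCat.of R ⟶ CommRingCat.of E => m r) hpb.w).symm ?_
      change f (algebraMap R B r) = 0
      rw [hr, map_zero]) K
  rw [isPullback_iff]
  refine ⟨?_, ?_, ?_⟩
  · ext x
    change Algebra.TensorProduct.map (AlgHom.id K K) f (algebraMap K (K ⊗[R] B) x) =
      Algebra.TensorProduct.map (AlgHom.id K K) g (algebraMap K (K ⊗[R] C) x)
    rw [AlgHom.commutes, AlgHom.commutes]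
  · intro s t hst
    exact h2 s t hst
  · intro r r' hr _
    rw [← sub_eq_zero]
    apply h1
    rw [TensorProduct.sub_tmul, sub_eq_zero]
    exact hr

theorem isPullback_aux {R B C E K : Type u} [CommRing R] [CommRing B] [CommRing C] [CommRing E]
    [CommRing K] [Algebra R B] [Algebra R C] [Algebra R E] [Algebra R K] [Algebra.Etale R B]
    [Algebra.IsIntegral R B] [Algebra.IsIntegral R C] [Module.Finite R E] (f : B →ₐ[R] E)
    (g : C →ₐ[R] E) (hginj : Function.Injective g)
    (hpb : IsPullback (CommRingCat.ofHom (algebraMap R B)) (CommRingCat.ofHom (algebraMap R C))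
      (CommRingCat.ofHom f.toRingHom) (CommRingCat.ofHom g.toRingHom))
    {V : Type u} [AddCommGroup V] [Module R V] [Module.Projective R V] (πV : E →ₗ[R] V)
    (hV : Function.Surjective πV) (hV' : ∀ e, πV e = 0 ↔ ∃ c, g c = e)
    {B1 C1 E1 : CommRingCat.{u}}
    {sB : CommRingCat.of B ⟶ B1} {kB : CommRingCat.of K ⟶ B1}
    (hB : IsPushout (CommRingCat.ofHom (algebraMap R K)) (CommRingCat.ofHom (algebraMap R B))
      kB sB)
    {sC : CommRingCat.of C ⟶ C1} {kC : CommRingCat.of K ⟶ C1}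
    (hC : IsPushout (CommRingCat.ofHom (algebraMap R K)) (CommRingCat.ofHom (algebraMap R C))
      kC sC)
    {sE : CommRingCat.of E ⟶ E1} {kE : CommRingCat.of K ⟶ E1}
    (hE : IsPushout (CommRingCat.ofHom (algebraMap R K)) (CommRingCat.ofHom (algebraMap R E))
      kE sE) (f1 : B1 ⟶ E1) (g1 : C1 ⟶ E1) (hf : kB ≫ f1 = kE)
    (hf' : sB ≫ f1 = CommRingCat.ofHom f.toRingHom ≫ sE)
    (hg : kC ≫ g1 = kE) (hg' : sC ≫ g1 = CommRingCat.ofHom g.toRingHom ≫ sE) :
    IsPullback kB kC f1 g1 := by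
  refine IsPullback.of_iso (isPullback_tensor (K := K) f g hginj hpb πV hV hV') (Iso.refl _)
    (tIso hB) (tIso hC) (tIso hE) ?_ ?_ (tIso_nat hB hE f f1 hf hf') (tIso_nat hC hE g g1 hg hg')
  · have e1 : _ ≫ (tIso hB).hom = kB :=
      (CommRingCat.isPushout_tensorProduct R K B).inl_isoIsPushout_hom _ _ hB
    rw [Iso.refl_hom, Category.id_comp]
    refine Eq.trans ?_ e1
    rfl
  · have e1 : _ ≫ (tIso hC).hom = kC :=
      (CommRingCat.isPushout_tensorProduct R K C).inl_isoIsPushout_hom _ _ hC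
    rw [Iso.refl_hom, Category.id_comp]
    refine Eq.trans ?_ e1
    rfl

theorem isPullback {R B C E K : CommRingCat.{u}} {rB : R ⟶ B} {rC : R ⟶ C} {rE : R ⟶ E}
    {k : R ⟶ K} {f : B ⟶ E} {g : C ⟶ E} (hpb : IsPullback rB rC f g) (hrE : rB ≫ f = rE)
    (hetB : rB.hom.Etale) (hintB : rB.hom.IsIntegral) (hintC : rC.hom.IsIntegral)
    (hfinE : rE.hom.Finite) (hginj : Function.Injective g) (hQ : ProjCoker rE g)
    {B1 C1 E1 : CommRingCat.{u}} {sB : B ⟶ B1} {kB : K ⟶ B1} (hB : IsPushout k rB kB sB)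
    {sC : C ⟶ C1} {kC : K ⟶ C1} (hC : IsPushout k rC kC sC)
    {sE : E ⟶ E1} {kE : K ⟶ E1} (hE : IsPushout k rE kE sE)
    (f1 : B1 ⟶ E1) (g1 : C1 ⟶ E1) (hf : kB ≫ f1 = kE) (hf' : sB ≫ f1 = f ≫ sE)
    (hg : kC ≫ g1 = kE) (hg' : sC ≫ g1 = g ≫ sE) : IsPullback kB kC f1 g1 := by
  let : Algebra R B := rB.hom.toAlgebra
  let : Algebra R C := rC.hom.toAlgebra
  let : Algebra R E := rE.hom.toAlgebra
  let : Algebra R K := k.hom.toAlgebra
  have : Algebra.Etale R B := hetB
  have : Algebra.IsIntegral R B := ⟨hintB⟩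
  have : Algebra.IsIntegral R C := ⟨hintC⟩
  have : Module.Finite R E := hfinE
  let f' : B →ₐ[R] E := ⟨f.hom, fun x => congrArg (fun m : R ⟶ E => m x) hrE⟩
  let g' : C →ₐ[R] E := ⟨g.hom, fun x => congrArg (fun m : R ⟶ E => m x) (hpb.w.symm.trans hrE)⟩
  obtain ⟨V, _, _, _, πV, hV, hV'⟩ := hQ
  exact isPullback_aux f' g' hginj hpb πV hV hV' hB hC hE f1 g1 hf hf' hg hg'

end K838.PureCat
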