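import Groth.Agent.Pinch.K838.Coker
import Groth.Agent.Pinch.K838.OverPull
import Groth.Agent.Pinch.K838.PureCat
import Mathlib.AlgebraicGeometry.Morphisms.Proper
import Mathlib.AlgebraicGeometry.Morphisms.Finite

/-!
# Cohomological flatness in dimension zero of a pinched scheme
-/

set_option autoImplicit false
universe u

open CategoryTheory CategoryTheory.Limits AlgebraicGeometry
open K838.Ferr

namespace K838.CohFlat

theorem top_eq {Y : Scheme.{u}} [IsAffine Y] {A : CommRingCat.{u}} (φ : Γ(Y, ⊤) ⟶ A) :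
    (Spec.map φ ≫ Y.isoSpec.inv).appTop = φ ≫ (Scheme.ΓSpecIso A).inv := by
  rw [Scheme.Hom.comp_appTop, Scheme.ΓSpecIso_inv_naturality]
  congr 1
  rw [← cancel_mono (Scheme.ΓSpecIso Γ(Y, ⊤)).hom, Iso.inv_hom_id,
    ← Scheme.toSpecΓ_appTop, ← Scheme.Hom.comp_appTop, Scheme.toSpecΓ_isoSpec_inv]
  rfl

/-- Affine base change for global sections. -/
theorem isPushout_affine {Y T : Scheme.{u}} [IsAffine Y] (t : T ⟶ Y) [IsAffineHom t]
    {A : CommRingCat.{u}} (φ : Γ(Y, ⊤) ⟶ A) :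
    IsPushout φ t.appTop
      ((Scheme.ΓSpecIso A).inv ≫ (pullback.snd t (Spec.map φ ≫ Y.isoSpec.inv)).appTop)
      (pullback.fst t (Spec.map φ ≫ Y.isoSpec.inv)).appTop := by
  have haff : IsAffine T := isAffine_of_isAffineHom t
  have h1 := FerrBC.isPushout_sections (IsPullback.of_hasPullback t (Spec.map φ ≫ Y.isoSpec.inv))
    (US := ⊤) (UT := ⊤) (UX := ⊤) (UY := ⊤) le_top le_top (by simp) (isAffineOpen_top _)
    (isAffineOpen_top _) (isAffineOpen_top _) le_top le_top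
  have e1 : (Spec.map φ ≫ Y.isoSpec.inv).appLE ⊤ ⊤ le_top = φ ≫ (Scheme.ΓSpecIso A).inv := by
    rw [← top_eq]
    exact (Scheme.Hom.app_eq_appLE _).symm
  have e2 : t.appLE ⊤ ⊤ le_top = t.appTop := (Scheme.Hom.app_eq_appLE _).symm
  have e3 : (pullback.snd t (Spec.map φ ≫ Y.isoSpec.inv)).appLE ⊤ ⊤ le_top =
    (pullback.snd t (Spec.map φ ≫ Y.isoSpec.inv)).appTop := (Scheme.Hom.app_eq_appLE _).symm
  have e4 : (pullback.fst t (Spec.map φ ≫ Y.isoSpec.inv)).appLE ⊤ ⊤ le_top =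
    (pullback.fst t (Spec.map φ ≫ Y.isoSpec.inv)).appTop := (Scheme.Hom.app_eq_appLE _).symm
  rw [e1, e2, e3, e4] at h1
  refine IsPushout.of_iso h1 (Iso.refl _) (Scheme.ΓSpecIso A) (Iso.refl _) (Iso.refl _) ?_ ?_ ?_ ?_
  · simp
  · simp
  · simp
  · simp

/-- The square of global sections. -/
theorem sec_top {X Y Z W : Scheme.{u}} {i : Z ⟶ X} {j : Z ⟶ Y} {a : X ⟶ W} {b : Y ⟶ W}
    (h : IsFerr i j a b) : IsPullback a.appTop b.appTop i.appTop j.appTop := by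
  obtain ⟨hle, H⟩ := h.sec ⊤
  have e1 : j.appLE (b ⁻¹ᵁ ⊤) (i ⁻¹ᵁ a ⁻¹ᵁ ⊤) hle = j.appTop := (Scheme.Hom.app_eq_appLE _).symm
  rw [e1] at H
  exact H

theorem aux {X Y T Z P : Scheme.{u}} {f : X ⟶ Y} {t : T ⟶ Y} {ξ : Z ⟶ T} {ι : Z ⟶ X} {a : X ⟶ P}
    {b : T ⟶ P} {p : P ⟶ Y} (h : IsFerr ι ξ a b) (hap : a ≫ p = f) (hbp : b ≫ p = t)
    (hpO : IsIso p.appTop) (het : f.appTop.hom.Etale) (hintf : f.appTop.hom.IsIntegral)
    (hintt : t.appTop.hom.IsIntegral) (hfin : (ξ ≫ t).appTop.hom.Finite)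
    (hginj : Function.Injective ξ.appTop) (hQ : PureCat.ProjCoker (ξ ≫ t).appTop ξ.appTop)
    {X' T' Z' P' S' : Scheme.{u}} {K : CommRingCat.{u}} (k : Γ(Y, ⊤) ⟶ K) (e : K ⟶ Γ(S', ⊤))
    {gX : X' ⟶ X} {gT : T' ⟶ T} {gZ : Z' ⟶ Z} {sP : P' ⟶ S'} {ι' : Z' ⟶ X'}
    {ξ' : Z' ⟶ T'} {a' : X' ⟶ P'} {b' : T' ⟶ P'} (h' : IsFerr ι' ξ' a' b')
    (hX : ι' ≫ gX = gZ ≫ ι) (hT : ξ' ≫ gT = gZ ≫ ξ)
    (hB : IsPushout k f.appTop (e ≫ (a' ≫ sP).appTop) gX.appTop)
    (hC : IsPushout k t.appTop (e ≫ (b' ≫ sP).appTop) gT.appTop)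
    (hE : IsPushout k (ξ ≫ t).appTop (e ≫ (ξ' ≫ b' ≫ sP).appTop) gZ.appTop) :
    IsIso (e ≫ sP.appTop) := by
  have hpb := isPullback_iso_comp (sec_top h) p.appTop
  rw [← Scheme.Hom.comp_appTop, ← Scheme.Hom.comp_appTop, hap, hbp] at hpb
  have hw : ι ≫ f = ξ ≫ t := by rw [← hap, ← hbp, ← Category.assoc, h.w, Category.assoc]
  have hkey := PureCat.isPullback hpb (rE := (ξ ≫ t).appTop) (by
    rw [← Scheme.Hom.comp_appTop, hw]) het hintf hintt hfin hginj hQ hB hC hE ι'.appTop ξ'.appTop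
    (by
      rw [Category.assoc, ← Scheme.Hom.comp_appTop, ← Category.assoc, h'.w, Category.assoc])
    (by rw [← Scheme.Hom.comp_appTop, ← Scheme.Hom.comp_appTop, hX])
    (by rw [Category.assoc, ← Scheme.Hom.comp_appTop])
    (by rw [← Scheme.Hom.comp_appTop, ← Scheme.Hom.comp_appTop, hT])
  refine isIso_of_isPullback_comp (sec_top h') _ ?_
  rw [Category.assoc, Category.assoc, ← Scheme.Hom.comp_appTop, ← Scheme.Hom.comp_appTop]
  exact hkey

theorem main {X Y T Z : Scheme.{u}} [IsAffine Y]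
    (f : X ⟶ Y) (t : T ⟶ Y) (ξ : Z ⟶ T) (ι : Z ⟶ X)
    [IsProper f] [IsFinite t] [IsClosedImmersion ι] (hsq : ι ≫ f = ξ ≫ t)
    (hstd : ∀ y : Y, ∃ U : Y.Opens, IsAffineOpen U ∧ y ∈ U ∧ ∃ V : X.Opens, IsAffineOpen V ∧
      V ≤ f ⁻¹ᵁ U ∧ ∀ z : Z, (ξ ≫ t).base z ∈ U → ι.base z ∈ V)
    [IsFinite ξ] [Flat ξ] [Surjective ξ]
    {P : Scheme.{u}} (a : X ⟶ P) (b : T ⟶ P) (hP : IsPushout ι ξ a b)
    (hv : ∀ U : Y.affineOpens, @Pinch.CokerProjective Γ(Y, U) Γ(Z, (ξ ≫ t) ⁻¹ᵁ U) Γ(T, t ⁻¹ᵁ U) _ _ _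
      ((ξ ≫ t).app U).hom.toAlgebra (ξ.app (t ⁻¹ᵁ U)).hom)
    (p : P ⟶ Y) (hap : a ≫ p = f) (hbp : b ≫ p = t)
    (hpO : IsIso p.appTop)
    (het : f.appTop.hom.Etale)
    {A : CommRingCat.{u}} (φ : Γ(Y, ⊤) ⟶ A)
    (hcf : IsPushout f.appTop φ
        (Limits.pullback.fst f (Spec.map φ ≫ Y.isoSpec.inv)).appTop
        ((Scheme.ΓSpecIso A).inv ≫
          (Limits.pullback.snd f (Spec.map φ ≫ Y.isoSpec.inv)).appTop)) :
    IsIso ((Scheme.ΓSpecIso A).inv ≫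
        (Limits.pullback.snd p (Spec.map φ ≫ Y.isoSpec.inv)).appTop) := by
  let g : Spec A ⟶ Y := Spec.map φ ≫ Y.isoSpec.inv
  have hA : Adapted ι ξ := fun y => by
    obtain ⟨U, V, hU, hV, hy, h, -⟩ := K838.Pairs.exists_pair f t ξ ι hsq hstd y
    exact ⟨U, V, hU, hV, hy, h⟩
  obtain ⟨h1, -, -, -, -, -⟩ := props_of_isPushout hA hP
  have haff := h1.affine_left
  have haff' := h1.affine_right
  have hW : IsPullback (Limits.pullback.fst p g) (Limits.pullback.snd p g) p g :=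
    IsPullback.of_hasPullback _ _
  have hX := K838.OverPull.isPullback_map g (Over.homMk a hap : Over.mk f ⟶ Over.mk p)
  have hY := K838.OverPull.isPullback_map g (Over.homMk b hbp : Over.mk t ⟶ Over.mk p)
  have hZ := K838.OverPull.isPullback_map g (Over.homMk ι hsq : Over.mk (ξ ≫ t) ⟶ Over.mk f)
  have hj := K838.OverPull.fst_map g (Over.homMk ξ rfl : Over.mk (ξ ≫ t) ⟶ Over.mk t)
  have sX := K838.OverPull.snd_map g (Over.homMk a hap : Over.mk f ⟶ Over.mk p)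
  have sY := K838.OverPull.snd_map g (Over.homMk b hbp : Over.mk t ⟶ Over.mk p)
  have sZ := K838.OverPull.snd_map g (Over.homMk ι hsq : Over.mk (ξ ≫ t) ⟶ Over.mk f)
  have sZ' := K838.OverPull.snd_map g (Over.homMk ξ rfl : Over.mk (ξ ≫ t) ⟶ Over.mk t)
  have hpush : IsPushout
      ((Over.pullback g).map (Over.homMk ι hsq : Over.mk (ξ ≫ t) ⟶ Over.mk f)).left
      ((Over.pullback g).map (Over.homMk ξ rfl : Over.mk (ξ ≫ t) ⟶ Over.mk t)).left
      ((Over.pullback g).map (Over.homMk a hap : Over.mk f ⟶ Over.mk p)).left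
      ((Over.pullback g).map (Over.homMk b hbp : Over.mk t ⟶ Over.mk p)).left := by
    refine K838.FerrBC.isPushout_baseChange h1 hW hX hY hZ hj ?_ ?_
    · rw [← Over.comp_left, ← Over.comp_left, ← Functor.map_comp, ← Functor.map_comp]
      congr 2
      ext
      exact hP.w
    · intro w
      obtain ⟨U, O, hOU, hU, hO, hwO, hinj⟩ := K838.Coker.exists_univInj f t ξ ι hsq hstd a b hP hv
        p hap hbp (Limits.pullback.fst p g w)
      have hg : g (Limits.pullback.snd p g w) ∈ U := by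
        rw [← Scheme.Hom.comp_apply, ← Limits.pullback.condition, Scheme.Hom.comp_apply]
        exact hOU hwO
      obtain ⟨U', hU', hwU', hUU'⟩ :=
        exists_isAffineOpen_mem_and_subset (U := g ⁻¹ᵁ U) (x := Limits.pullback.snd p g w) hg
      exact ⟨U, U', O, hUU', hOU, hU, hU', hO, ⟨hwO, hwU'⟩, hinj _ _⟩
  revert hX hY hZ hj sX sY sZ sZ' hpush
  generalize ((Over.pullback g).map (Over.homMk ι hsq : Over.mk (ξ ≫ t) ⟶ Over.mk f)).left = ι'
  generalize ((Over.pullback g).map (Over.homMk ξ rfl : Over.mk (ξ ≫ t) ⟶ Over.mk t)).left = ξ'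
  generalize ((Over.pullback g).map (Over.homMk a hap : Over.mk f ⟶ Over.mk p)).left = a'
  generalize ((Over.pullback g).map (Over.homMk b hbp : Over.mk t ⟶ Over.mk p)).left = b'
  intro hX hY hZ hj sX sY sZ sZ' hpush
  have i1 : IsClosedImmersion ι' :=
    MorphismProperty.of_isPullback (P := @IsClosedImmersion) hZ ‹_›
  have i2 : IsAffineHom a' := MorphismProperty.of_isPullback (P := @IsAffineHom) hX haff
  have i3 : IsAffineHom b' := MorphismProperty.of_isPullback (P := @IsAffineHom) hY haff'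
  have h' : IsFerr ι' ξ' a' b' := isFerr_of_isPushout hpush
  refine aux h1 hap hbp hpO het (isIntegral_appTop_of_universallyClosed f) ?_
    (Scheme.Hom.finite_appTop (ξ ≫ t)) (Coker.app_injective ξ ⊤) ?_ φ (Scheme.ΓSpecIso A).inv h'
    hZ.w.symm hj ?_ ?_ ?_
  · exact (Scheme.Hom.finite_appTop t).to_isIntegral
  · exact PureCat.projCoker_of _ _ t.appTop (Scheme.Hom.comp_appTop ξ t).symm
      (hv ⟨⊤, isAffineOpen_top Y⟩)
  · have e1 : a' ≫ pullback.snd p g = pullback.snd f g := sX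
    rw [e1]
    exact hcf.flip
  · have e1 : b' ≫ pullback.snd p g = pullback.snd t g := sY
    rw [e1]
    exact isPushout_affine t φ
  · have e1 : b' ≫ pullback.snd p g = pullback.snd t g := sY
    have e2 : ξ' ≫ pullback.snd t g = pullback.snd (ξ ≫ t) g := sZ'
    rw [e1, e2]
    exact isPushout_affine (ξ ≫ t) φ

end K838.CohFlat
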