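import Mathlib.RingTheory.Etale.Field
import Mathlib.Algebra.Polynomial.AlgebraMap
import Mathlib.Algebra.Polynomial.Eval.SMul

/-!
# Idempotents which are polynomials in a given element of a split algebra
-/

set_option autoImplicit false

open Polynomial

namespace K838.PolyIdem

theorem exists_poly_idem {K A : Type*} [Field K] [CommRing A] [Algebra K A] {S : Type*} [Finite S]
    (e : A ≃ₐ[K] (S → K)) (x : A) (hx : x ∉ Set.range (algebraMap K A)) :
    ∃ P : K[X], IsIdempotentElem (aeval x P) ∧ aeval x P ≠ 0 ∧ aeval x P ≠ 1 := by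
  classical
  have key : ∀ (P : K[X]) (s : S), e (aeval x P) s = P.eval (e x s) := by
    intro P s
    have h1 : e (aeval x P) = aeval (e x) P := (aeval_algHom_apply e.toAlgHom x P).symm
    have h2 := aeval_algHom_apply (Pi.evalAlgHom K (fun _ : S => K) s) (e x) P
    rw [h1]
    refine Eq.trans h2.symm ?_
    rw [coe_aeval_eq_eval]
    rfl
  have hS : Nonempty S := by
    by_contra hS
    rw [not_nonempty_iff] at hS
    exact hx ⟨0, e.injective (Subsingleton.elim _ _)⟩
  obtain ⟨s0⟩ := hS
  have h1 : ∃ s1, e x s1 ≠ e x s0 := by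
    by_contra! h
    refine hx ⟨e x s0, e.injective ?_⟩
    rw [e.commutes]
    funext s
    exact (h s).symm
  obtain ⟨s1, hs1⟩ := h1
  let F : Finset K := (Set.finite_range (e x)).toFinset.erase (e x s0)
  let P : K[X] := ∏ μ ∈ F, (C ((e x s0 - μ)⁻¹) * (X - C μ))
  have hP : ∀ s, e (aeval x P) s = if e x s = e x s0 then 1 else 0 := by
    intro s
    rw [key, eval_prod]
    split_ifs with h
    · refine Finset.prod_eq_one fun μ hμ => ?_
      have hμ' : e x s0 - μ ≠ 0 := sub_ne_zero.mpr (Finset.ne_of_mem_erase hμ).symm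
      rw [h]
      simp [hμ']
    · refine Finset.prod_eq_zero (i := e x s) ?_ (by simp)
      exact Finset.mem_erase.mpr ⟨h, (Set.Finite.mem_toFinset _).mpr ⟨s, rfl⟩⟩
  refine ⟨P, ?_, ?_, ?_⟩
  · apply e.injective
    funext s
    rw [map_mul, Pi.mul_apply, hP]
    split_ifs <;> simp
  · intro h
    have := hP s0
    rw [h, map_zero] at this
    simp at this
  · intro h
    have := hP s1
    rw [h, map_one, if_neg hs1] at this
    simp at this

end K838.PolyIdem
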