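import Groth.Agent.S0522
import Groth.Agent.Etalg.Milnor
import Groth.Agent.Pinch.K838.PolyIdem
import Mathlib.RingTheory.Etale.Basic
import Mathlib.RingTheory.Flat.Basic
import Mathlib.RingTheory.LocalRing.Module

/-!
# Fibre products over strictly henselian rings
-/

set_option autoImplicit false
universe u

open TensorProduct IsLocalRing Polynomial

namespace K838.HensFib

/-- extension of the maximal ideal -/
abbrev mx (R B : Type u) [CommRing R] [IsLocalRing R] [CommRing B] [Algebra R B] : Ideal B :=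
  (maximalIdeal R).map (algebraMap R B)

theorem one_tmul_eq_zero_iff {R B : Type u} [CommRing R] [IsLocalRing R] [CommRing B]
    [Algebra R B] (b : B) : (1 : ResidueField R) ⊗ₜ[R] b = 0 ↔ b ∈ mx R B := by
  have h := Groth.Agent.Etalg.Milnor.one_tmul_eq_zero_iff (S := ResidueField R)
    (IsLocalRing.residue_surjective (R := R)) b
  rw [h]
  have hk : RingHom.ker (algebraMap R (ResidueField R)) = maximalIdeal R :=
    IsLocalRing.ker_residue
  rw [hk, Ideal.smul_top_eq_map]
  rfl

variable {R B C E : Type u} [CommRing R] [HenselianLocalRing R] [IsSepClosed (ResidueField R)]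
  [CommRing B] [CommRing C] [CommRing E] [Algebra R B] [Algebra R C] [Algebra R E]
  [Algebra.IsIntegral R B] [Algebra.IsIntegral R C] [Algebra.IsIntegral R E]
  [Algebra.FormallyEtale R B] [Algebra.FiniteType R B] (f : B →ₐ[R] E) (g : C →ₐ[R] E)
  (hfib : ∀ b c, f b = g c → ∃ r : R, algebraMap R B r = b ∧ algebraMap R C r = c)
  (hg : ∀ c : C, g c ∈ mx R E → c ∈ mx R C)

theorem map_mem {R B E : Type u} [CommRing R] [IsLocalRing R] [CommRing B] [CommRing E]
    [Algebra R B] [Algebra R E] (f : B →ₐ[R] E) {b : B} (hb : b ∈ mx R B) : f b ∈ mx R E := by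
  have h1 : (mx R B).map f.toRingHom ≤ mx R E := by
    rw [mx, Ideal.map_map]
    have : f.toRingHom.comp (algebraMap R B) = algebraMap R E := f.comp_algebraMap
    rw [this]
  exact h1 (Ideal.mem_map_of_mem _ hb)

include hfib hg in
theorem main (b : B) (c : C) (h : f b - g c ∈ mx R E) :
    ∃ r : R, b - algebraMap R B r ∈ mx R B := by
  classical
  let k := ResidueField R
  by_contra hno
  let x : k ⊗[R] B := (1 : k) ⊗ₜ[R] b
  have hx : x ∉ Set.range (algebraMap k (k ⊗[R] B)) := by
    rintro ⟨a, ha⟩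
    obtain ⟨r, rfl⟩ := IsLocalRing.residue_surjective a
    refine hno ⟨r, ?_⟩
    rw [← one_tmul_eq_zero_iff, TensorProduct.tmul_sub]
    have h1 : (1 : k) ⊗ₜ[R] (algebraMap R B r) = algebraMap k (k ⊗[R] B) (residue R r) := by
      rw [Algebra.TensorProduct.algebraMap_apply, Algebra.algebraMap_eq_smul_one,
        ← TensorProduct.smul_tmul, Algebra.smul_def, mul_one]
      rfl
    rw [h1, ha, sub_self]
  have : Finite (PrimeSpectrum (k ⊗[R] B)) := by
    have := Algebra.FormallyUnramified.finite_of_free k (k ⊗[R] B)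
    have : IsArtinianRing (k ⊗[R] B) := isArtinian_of_tower k inferInstance
    infer_instance
  obtain ⟨P, hP1, hP2, hP3⟩ := PolyIdem.exists_poly_idem
    (Algebra.FormallyEtale.equivPiOfIsSepClosed k (k ⊗[R] B)) x hx
  obtain ⟨Q, rfl⟩ := Polynomial.map_surjective (residue R) residue_surjective P
  have hA : HenselianRing R (maximalIdeal R) := inferInstance
  -- the element `b'`
  have h1 : (1 : k) ⊗ₜ[R] (aeval b Q) = aeval x (Q.map (residue R)) := by
    have h1 : aeval x (Q.map (algebraMap R k)) = aeval x Q := aeval_map_algebraMap k x Q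
    have h2 := aeval_algHom_apply (Algebra.TensorProduct.includeRight : B →ₐ[R] k ⊗[R] B) b Q
    exact h2.symm.trans h1.symm
  have h2 : f (aeval b Q) - g (aeval c Q) ∈ mx R E := by
    have h3 : f (aeval b Q) = aeval (f b) Q := (aeval_algHom_apply f b Q).symm
    have h4 : g (aeval c Q) = aeval (g c) Q := (aeval_algHom_apply g c Q).symm
    rw [h3, h4, aeval_def, aeval_def, eval₂_eq_eval_map, eval₂_eq_eval_map]
    exact Ideal.mem_of_dvd _ (sub_dvd_eval_sub _ _ _) h
  have h3 : aeval b Q * aeval b Q - aeval b Q ∈ mx R B := by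
    rw [← one_tmul_eq_zero_iff, TensorProduct.tmul_sub, sub_eq_zero, h1, ← hP1.eq, ← h1,
      Algebra.TensorProduct.tmul_mul_tmul, one_mul]
  obtain ⟨e, he, he'⟩ := (Groth.Agent.S0522.bijOn_of_henselianRing R (maximalIdeal R) hA B
    inferInstance).surjOn (a := Ideal.Quotient.mk _ (aeval b Q)) (by
      change Ideal.Quotient.mk _ (aeval b Q) * Ideal.Quotient.mk _ (aeval b Q) = _
      rw [← map_mul, Ideal.Quotient.eq]
      exact h3)
  have h4 : aeval c Q * aeval c Q - aeval c Q ∈ mx R C := by
    apply hg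
    rw [← Ideal.Quotient.eq_zero_iff_mem]
    have h5 : Ideal.Quotient.mk (mx R E) (g (aeval c Q)) =
        Ideal.Quotient.mk (mx R E) (f (aeval b Q)) := (Ideal.Quotient.eq.mpr h2).symm
    have h6 : Ideal.Quotient.mk (mx R E) (f (aeval b Q * aeval b Q - aeval b Q)) = 0 :=
      Ideal.Quotient.eq_zero_iff_mem.mpr (map_mem f h3)
    rw [map_sub, map_mul, map_sub, map_mul] at h6 ⊢
    rw [h5]
    exact h6
  obtain ⟨e', he1, he1'⟩ := (Groth.Agent.S0522.bijOn_of_henselianRing R (maximalIdeal R) hA C
    inferInstance).surjOn (a := Ideal.Quotient.mk _ (aeval c Q)) (by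
      change Ideal.Quotient.mk _ (aeval c Q) * Ideal.Quotient.mk _ (aeval c Q) = _
      rw [← map_mul, Ideal.Quotient.eq]
      exact h4)
  have h5 : f e = g e' := by
    refine (Groth.Agent.S0522.bijOn_of_henselianRing R (maximalIdeal R) hA E
      inferInstance).injOn (he.map f) (he1.map g) ?_
    have h6 : f (e - aeval b Q) ∈ mx R E := map_mem f (Ideal.Quotient.eq.mp he')
    have h7 : g (e' - aeval c Q) ∈ mx R E := map_mem g (Ideal.Quotient.eq.mp he1')
    rw [Ideal.Quotient.eq]
    have h8 : f e - g e' = f (e - aeval b Q) + (f (aeval b Q) - g (aeval c Q)) -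
        g (e' - aeval c Q) := by
      rw [map_sub, map_sub]
      ring
    rw [h8]
    exact sub_mem (add_mem h6 h2) h7
  obtain ⟨r, hr, -⟩ := hfib e e' h5
  have h6 : algebraMap k (k ⊗[R] B) (residue R r) = aeval x (Q.map (residue R)) := by
    have h7 : (1 : k) ⊗ₜ[R] (algebraMap R B r) = algebraMap k (k ⊗[R] B) (residue R r) := by
      rw [Algebra.TensorProduct.algebraMap_apply, Algebra.algebraMap_eq_smul_one,
        ← TensorProduct.smul_tmul, Algebra.smul_def, mul_one]
      rfl
    rw [← h7, ← h1, hr, ← sub_eq_zero, ← TensorProduct.tmul_sub, one_tmul_eq_zero_iff]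
    exact Ideal.Quotient.eq.mp he'
  have : Nontrivial (k ⊗[R] B) := ⟨_, _, hP2⟩
  have h7 : residue R r * residue R r = residue R r := by
    apply (algebraMap k (k ⊗[R] B)).injective
    rw [map_mul, h6]
    exact hP1.eq
  have h8 : residue R r = 0 ∨ residue R r = 1 := by
    have : residue R r * (residue R r - 1) = 0 := by rw [mul_sub, mul_one, h7, sub_self]
    rcases mul_eq_zero.mp this with h | h
    · exact Or.inl h
    · exact Or.inr (sub_eq_zero.mp h)
  rcases h8 with h | h
  · exact hP2 (by rw [← h6, h, map_zero])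
  · exact hP3 (by rw [← h6, h, map_one])


theorem one_tmul_eq_zero_iff' {R M : Type*} [CommRing R] [IsLocalRing R] [AddCommGroup M]
    [Module R M] (m : M) :
    (1 : ResidueField R) ⊗ₜ[R] m = 0 ↔ m ∈ maximalIdeal R • (⊤ : Submodule R M) := by
  have h := Groth.Agent.Etalg.Milnor.one_tmul_eq_zero_iff (S := ResidueField R)
    (IsLocalRing.residue_surjective (R := R)) m
  rw [h]
  have hk : RingHom.ker (algebraMap R (ResidueField R)) = maximalIdeal R :=
    IsLocalRing.ker_residue
  rw [hk]

theorem mem_mx_iff {R B : Type u} [CommRing R] [IsLocalRing R] [CommRing B] [Algebra R B] (b : B) :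
    b ∈ mx R B ↔ b ∈ maximalIdeal R • (⊤ : Submodule R B) := by
  rw [Ideal.smul_top_eq_map]
  rfl

include hfib in
/-- The map on the quotients is split injective. -/
theorem exists_split (hginj : Function.Injective g) [Module.Finite R B]
    {W V : Type u} [AddCommGroup W] [Module R W] [AddCommGroup V] [Module R V]
    [Module.Finite R V] [Module.Projective R V]
    (πW : B →ₗ[R] W) (hW : Function.Surjective πW)
    (hW' : ∀ b, πW b = 0 ↔ ∃ r : R, algebraMap R B r = b)
    (πV : E →ₗ[R] V) (hV : Function.Surjective πV) (hV' : ∀ e, πV e = 0 ↔ ∃ c, g c = e)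
    (j : W →ₗ[R] V) (hj : ∀ b, j (πW b) = πV (f b)) :
    ∃ s : V →ₗ[R] W, s ∘ₗ j = LinearMap.id := by
  have : Module.Finite R W := Module.Finite.of_surjective πW hW
  have : Module.Free R V := Module.free_of_flat_of_isLocalRing
  rw [IsLocalRing.split_injective_iff_lTensor_residueField_injective]
  have hg : ∀ c : C, g c ∈ mx R E → c ∈ mx R C := by
    intro c hc
    rw [← one_tmul_eq_zero_iff] at hc ⊢
    have h1 := LinearMap.lTensor_injective_of_exact_of_flat πV hV g.toLinearMap hginj (by
      intro e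
      rw [hV' e]
      rfl) (ResidueField R)
    apply h1
    rw [LinearMap.lTensor_tmul, map_zero]
    exact hc
  rw [injective_iff_map_eq_zero]
  intro x hx
  obtain ⟨w, rfl⟩ := Groth.Agent.Etalg.Milnor.one_tmul_surjective (S := ResidueField R)
    (IsLocalRing.residue_surjective (R := R)) x
  obtain ⟨b, rfl⟩ := hW w
  rw [LinearMap.lTensor_tmul, hj, one_tmul_eq_zero_iff'] at hx
  have h2 : maximalIdeal R • (⊤ : Submodule R V) =
      (maximalIdeal R • (⊤ : Submodule R E)).map πV := by
    rw [Submodule.map_smul'', Submodule.map_top, LinearMap.range_eq_top.mpr hV]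
  rw [h2] at hx
  obtain ⟨e, he, he'⟩ := hx
  obtain ⟨c, hc⟩ := (hV' (f b - e)).mp (by rw [map_sub, he', sub_self])
  obtain ⟨r, hr⟩ := main f g hfib hg b c (by
    rw [hc, sub_sub_cancel, mem_mx_iff]
    exact he)
  rw [one_tmul_eq_zero_iff']
  have h3 : πW b = πW (b - algebraMap R B r) := by
    rw [map_sub, (hW' (algebraMap R B r)).mpr ⟨r, rfl⟩, sub_zero]
  rw [h3]
  have h4 : (maximalIdeal R • (⊤ : Submodule R B)).map πW ≤ maximalIdeal R • ⊤ := by
    rw [Submodule.map_smul'']
    exact Submodule.smul_mono le_rfl le_top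
  exact h4 ⟨_, (mem_mx_iff _).mp hr, rfl⟩

end K838.HensFib
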