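import Groth.Agent.S2019
import Groth.Agent.S2021
import Mathlib.RingTheory.IsTensorProduct

/-!
# Milnor patching, in terms of base change maps
-/

set_option autoImplicit false
universe u

open TensorProduct

namespace K838.MilAlg

variable {B' B A' A : Type u} [CommRing B'] [CommRing B] [CommRing A'] [CommRing A]
    [Algebra B' B] [Algebra B' A'] [Algebra B A] [Algebra A' A] [Algebra B' A]
    [IsScalarTower B' B A] [IsScalarTower B' A' A]
    (hsq : EtMil.IsFibreSquare B' B A' A)
    {N M' K G : Type u} [AddCommGroup N] [Module B N] [Module B' N] [IsScalarTower B' B N]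
    [AddCommGroup M'] [Module A' M'] [Module B' M'] [IsScalarTower B' A' M']
    [AddCommGroup K] [Module A K] [Module B K] [IsScalarTower B A K] [Module A' K]
    [IsScalarTower A' A K] [AddCommGroup G] [Module B' G]
    {a : N →ₗ[B] K} (ha : IsBaseChange A a) {b : M' →ₗ[A'] K} (hb : IsBaseChange A b)
    (p₂ : G →ₗ[B'] N) (p₁ : G →ₗ[B'] M') (hw : ∀ g, a (p₂ g) = b (p₁ g))
    (hex : ∀ n m', a n = b m' → ∃ g, p₂ g = n ∧ p₁ g = m')
    (hext : ∀ g g', p₂ g = p₂ g' → p₁ g = p₁ g' → g = g')

/-- The gluing isomorphism. -/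
noncomputable def phi : A ⊗[B] N ≃ₗ[A] A ⊗[A'] M' := ha.equiv.trans hb.equiv.symm

theorem phi_iff (n : N) (m' : M') :
    phi ha hb ((1 : A) ⊗ₜ[B] n) = (1 : A) ⊗ₜ[A'] m' ↔ a n = b m' := by
  rw [phi, LinearEquiv.trans_apply, LinearEquiv.symm_apply_eq, IsBaseChange.equiv_tmul,
    IsBaseChange.equiv_tmul, one_smul, one_smul]

/-- The comparison. -/
noncomputable def comp (p₂ : G →ₗ[B'] N) (p₁ : G →ₗ[B'] M') (hw : ∀ g, a (p₂ g) = b (p₁ g)) :
    G →ₗ[B'] EtMil.glue B' (phi ha hb) :=
  LinearMap.codRestrict _ (p₂.prod p₁) (fun g => (phi_iff ha hb _ _).mpr (hw g))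

include hex hext in
theorem comp_bijective : Function.Bijective (comp ha hb p₂ p₁ hw) := by
  constructor
  · intro g g' h
    have h1 : (p₂ g, p₁ g) = (p₂ g', p₁ g') := congrArg Subtype.val h
    exact hext _ _ (congrArg Prod.fst h1) (congrArg Prod.snd h1)
  · rintro ⟨⟨n, m'⟩, h⟩
    obtain ⟨g, rfl, rfl⟩ := hex n m' ((phi_iff ha hb _ _).mp h)
    exact ⟨g, rfl⟩

include hsq ha hb hw hex hext in
theorem lift_bijective₂ : Function.Bijective (LinearMap.liftBaseChange B p₂) := by
  have h1 := (Groth.Agent.S2019.result B' B A' A hsq N M' (phi ha hb)).1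
  let e := LinearEquiv.ofBijective _ (comp_bijective ha hb p₂ p₁ hw hex hext)
  have h2 : Function.Bijective ((comp ha hb p₂ p₁ hw).baseChange B) :=
    (e.baseChange B' B _ _).bijective
  have h3 : LinearMap.liftBaseChange B p₂ =
      LinearMap.liftBaseChange B (EtMil.glueFst B' (phi ha hb)) ∘ₗ
        (comp ha hb p₂ p₁ hw).baseChange B := by
    ext g
    simp only [AlgebraTensorModule.curry_apply, LinearMap.restrictScalars_self, curry_apply,
      LinearMap.coe_restrictScalars, LinearMap.liftBaseChange_tmul, LinearMap.comp_apply,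
      LinearMap.baseChange_tmul]
    rfl
  rw [h3, LinearMap.coe_comp]
  exact h1.comp h2

include hsq ha hb hw hex hext in
theorem lift_bijective₁ : Function.Bijective (LinearMap.liftBaseChange A' p₁) := by
  have h1 := (Groth.Agent.S2019.result B' B A' A hsq N M' (phi ha hb)).2
  let e := LinearEquiv.ofBijective _ (comp_bijective ha hb p₂ p₁ hw hex hext)
  have h2 : Function.Bijective ((comp ha hb p₂ p₁ hw).baseChange A') :=
    (e.baseChange B' A' _ _).bijective
  have h3 : LinearMap.liftBaseChange A' p₁ =
      LinearMap.liftBaseChange A' (EtMil.glueSnd B' (phi ha hb)) ∘ₗ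
        (comp ha hb p₂ p₁ hw).baseChange A' := by
    ext g
    simp only [AlgebraTensorModule.curry_apply, LinearMap.restrictScalars_self, curry_apply,
      LinearMap.coe_restrictScalars, LinearMap.liftBaseChange_tmul, LinearMap.comp_apply,
      LinearMap.baseChange_tmul]
    rfl
  rw [h3, LinearMap.coe_comp]
  exact h1.comp h2

include hsq ha hb hw hex hext in
theorem finite_projective (h1 : Module.Finite B N) (h2 : Module.Projective B N)
    (h3 : Module.Finite A' M') (h4 : Module.Projective A' M') :
    Module.Finite B' G ∧ Module.Projective B' G := by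
  obtain ⟨h5, h6⟩ := (Groth.Agent.S2021.result B' B A' A hsq N M' (phi ha hb)).2 h1 h2 h3 h4
  let e := LinearEquiv.ofBijective _ (comp_bijective ha hb p₂ p₁ hw hex hext)
  exact ⟨Module.Finite.equiv e.symm, Module.Projective.of_equiv e.symm⟩

/-- A linear map out of a base change is bijective if the extension of scalars of its restriction is. -/
theorem bijective_of_lift {R S G P M : Type u} [CommRing R] [CommRing S] [Algebra R S]
    [AddCommGroup G] [Module R G] [AddCommGroup P] [Module S P] [Module R P] [IsScalarTower R S P]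
    [AddCommGroup M] [Module S M] [Module R M] [IsScalarTower R S M] {w : G →ₗ[R] P}
    (hw : IsBaseChange S w) (ψ : P →ₗ[S] M) (p : G →ₗ[R] M) (h : ∀ g, ψ (w g) = p g)
    (hp : Function.Bijective (LinearMap.liftBaseChange S p)) : Function.Bijective ψ := by
  have h1 : LinearMap.liftBaseChange S p = ψ ∘ₗ hw.equiv.toLinearMap := by
    ext g
    simp only [AlgebraTensorModule.curry_apply, LinearMap.restrictScalars_self, curry_apply,
      LinearMap.coe_restrictScalars, LinearMap.liftBaseChange_tmul, LinearMap.comp_apply,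
      LinearEquiv.coe_coe, IsBaseChange.equiv_tmul, one_smul, h]
  rw [h1, LinearMap.coe_comp] at hp
  exact (Function.Bijective.of_comp_iff _ hw.equiv.bijective).mp hp

end K838.MilAlg
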