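import Groth.Agent.S2019
import Groth.Agent.S2020
import Groth.Agent.S2021
import Mathlib.RingTheory.Flat.Stability
import Mathlib.LinearAlgebra.TensorProduct.Quotient
import Mathlib.RingTheory.Flat.Equalizer

/-!
# Modules over pinched rings
-/

set_option autoImplicit false
universe u

open TensorProduct

namespace K838.PinchAlg

/-- `R → C` is surjective with kernel `I`, `ker (R → A) ⊓ I = 0` and `I A` is the image of `I`. -/
structure IsPinch (R A C : Type u) [CommRing R] [CommRing A] [CommRing C] [Algebra R A]
    [Algebra R C] : Prop where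
  surj : Function.Surjective (algebraMap R C)
  inf : RingHom.ker (algebraMap R A) ⊓ RingHom.ker (algebraMap R C) = ⊥
  map : ∀ a ∈ Ideal.map (algebraMap R A) (RingHom.ker (algebraMap R C)),
    ∃ i ∈ RingHom.ker (algebraMap R C), algebraMap R A i = a

variable {R A C : Type u} [CommRing R] [CommRing A] [CommRing C] [Algebra R A] [Algebra R C]

/-- The map from the kernel of `R → C` to the ideal it generates in `A`. -/
def kerMap (R A C : Type u) [CommRing R] [CommRing A] [CommRing C] [Algebra R A] [Algebra R C] :
    (RingHom.ker (algebraMap R C)) →ₗ[R]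
      (Ideal.map (algebraMap R A) (RingHom.ker (algebraMap R C))) where
  toFun i := ⟨algebraMap R A i.1, Ideal.mem_map_of_mem _ i.2⟩
  map_add' x y := Subtype.ext (map_add _ _ _)
  map_smul' r x := Subtype.ext (by simp [Algebra.smul_def])

theorem IsPinch.bijective (h : IsPinch R A C) : Function.Bijective (kerMap R A C) := by
  constructor
  · intro x y hxy
    have h1 : algebraMap R A x = algebraMap R A y := congrArg Subtype.val hxy
    have h2 : (x - y : R) ∈ RingHom.ker (algebraMap R A) ⊓ RingHom.ker (algebraMap R C) :=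
      ⟨by rw [SetLike.mem_coe, RingHom.mem_ker, map_sub, h1, sub_self], sub_mem x.2 y.2⟩
    rw [h.inf] at h2
    exact Subtype.ext (sub_eq_zero.mp h2)
  · rintro ⟨a, ha⟩
    obtain ⟨i, hi, rfl⟩ := h.map a ha
    exact ⟨⟨i, hi⟩, rfl⟩

/-- The kernel of `R → C` is isomorphic to the ideal it generates in `A`. -/
noncomputable def IsPinch.equiv (h : IsPinch R A C) : (RingHom.ker (algebraMap R C)) ≃ₗ[R]
    (Ideal.map (algebraMap R A) (RingHom.ker (algebraMap R C))) :=
  LinearEquiv.ofBijective _ h.bijective

theorem IsPinch.subsingleton (h : IsPinch R A C) (M : Type*) [AddCommGroup M] [Module R M]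
    [Subsingleton (A ⊗[R] M)] [Subsingleton (C ⊗[R] M)] : Subsingleton M := by
  set I := RingHom.ker (algebraMap R C) with hI
  set J := Ideal.map (algebraMap R A) I with hJ
  -- `J ⊗ M = 0`
  have h1 : Subsingleton (J ⊗[R] M) :=
    (TensorProduct.AlgebraTensorModule.cancelBaseChange R A A J M).symm.toEquiv.subsingleton
  have h2 : Subsingleton (I ⊗[R] M) :=
    (TensorProduct.congr h.equiv (LinearEquiv.refl R M)).toEquiv.subsingleton
  have h3 : ∀ i ∈ I, ∀ m : M, i • m = 0 := by
    intro i hi m
    have : (⟨i, hi⟩ : I) ⊗ₜ[R] m = 0 := Subsingleton.elim _ _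
    have h4 := congrArg (TensorProduct.lift (LinearMap.lsmul R M ∘ₗ I.subtype)) this
    simpa using h4
  refine ⟨fun m m' => ?_⟩
  suffices H : ∀ m : M, m = 0 by rw [H m, H m']
  intro m
  let e : (R ⧸ I) ≃ₐ[R] C := Ideal.quotientKerAlgEquivOfSurjective (f := Algebra.ofId R C) h.surj
  have h5 : Subsingleton ((R ⧸ I) ⊗[R] M) :=
    (TensorProduct.congr e.toLinearEquiv (LinearEquiv.refl R M)).toEquiv.subsingleton
  have h6 : Subsingleton (M ⧸ (I • (⊤ : Submodule R M))) :=
    (TensorProduct.quotTensorEquivQuotSMul M I).symm.toEquiv.subsingleton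
  have h7 : m ∈ I • (⊤ : Submodule R M) := by
    rw [← Submodule.Quotient.mk_eq_zero]
    exact Subsingleton.elim _ _
  refine Submodule.smul_induction_on h7 (fun i hi m _ => h3 i hi m) (fun x y hx hy => ?_)
  rw [hx, hy, add_zero]


/-- A linear map with flat target which becomes bijective over `A` and over `C` is bijective. -/
theorem IsPinch.bijective_of (h : IsPinch R A C) {M N : Type*} [AddCommGroup M] [Module R M]
    [AddCommGroup N] [Module R N] [Module.Flat R N] (α : M →ₗ[R] N)
    (hA : Function.Bijective (α.lTensor A)) (hC : Function.Bijective (α.lTensor C)) :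
    Function.Bijective α := by
  have hs : Function.Surjective α := by
    have key : ∀ (K : Type u) [AddCommGroup K] [Module R K], Function.Surjective (α.lTensor K) →
        Subsingleton (K ⊗[R] (N ⧸ LinearMap.range α)) := by
      intro K _ _ hK
      have h1 : Function.Surjective ((LinearMap.range α).mkQ.lTensor K) :=
        LinearMap.lTensor_surjective K (Submodule.mkQ_surjective _)
      refine ⟨fun x y => ?_⟩
      suffices H : ∀ x : K ⊗[R] (N ⧸ LinearMap.range α), x = 0 by rw [H x, H y]
      intro x
      obtain ⟨y, rfl⟩ := h1 x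
      obtain ⟨z, rfl⟩ := hK y
      rw [← LinearMap.comp_apply, ← LinearMap.lTensor_comp]
      have : (LinearMap.range α).mkQ ∘ₗ α = 0 := LinearMap.range_mkQ_comp α
      rw [this, LinearMap.lTensor_zero, LinearMap.zero_apply]
    have := key A hA.2
    have := key C hC.2
    have := h.subsingleton (N ⧸ LinearMap.range α)
    rw [← LinearMap.range_eq_top]
    exact Submodule.Quotient.subsingleton_iff.mp this
  refine ⟨?_, hs⟩
  have key : ∀ (K : Type u) [AddCommGroup K] [Module R K], Function.Injective (α.lTensor K) →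
      Subsingleton (K ⊗[R] (LinearMap.ker α)) := by
    intro K _ _ hK
    have h1 := LinearMap.lTensor_injective_of_exact_of_flat α hs (LinearMap.ker α).subtype
      (Submodule.injective_subtype _) (LinearMap.exact_subtype_ker_map α) K
    refine ⟨fun x y => ?_⟩
    suffices H : ∀ x : K ⊗[R] (LinearMap.ker α), x = 0 by rw [H x, H y]
    intro x
    apply h1
    apply hK
    rw [map_zero, map_zero, ← LinearMap.comp_apply, ← LinearMap.lTensor_comp]
    have : α ∘ₗ (LinearMap.ker α).subtype = 0 := LinearMap.comp_ker_subtype α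
    rw [this, LinearMap.lTensor_zero, LinearMap.zero_apply]
  have := key A hA.1
  have := key C hC.1
  have := h.subsingleton (LinearMap.ker α)
  rw [← LinearMap.ker_eq_bot]
  exact Submodule.subsingleton_iff_eq_bot.mp this

section glue

/-- The quotient of `A` by the extension of the kernel of `R → C`. -/
abbrev D (R A C : Type u) [CommRing R] [CommRing A] [CommRing C] [Algebra R A] [Algebra R C] :
    Type u := A ⧸ Ideal.map (algebraMap R A) (RingHom.ker (algebraMap R C))

/-- The map from `C` to `D`. -/
noncomputable def IsPinch.cMap (h : IsPinch R A C) : C →+* D R A C :=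
  (Ideal.quotientMap (Ideal.map (algebraMap R A) (RingHom.ker (algebraMap R C)))
    (algebraMap R A) Ideal.le_comap_map).comp
    (RingHom.quotientKerEquivOfSurjective h.surj).symm.toRingHom

theorem IsPinch.cMap_apply (h : IsPinch R A C) (r : R) :
    h.cMap (algebraMap R C r) = Ideal.Quotient.mk _ (algebraMap R A r) := by
  have : (RingHom.quotientKerEquivOfSurjective h.surj).symm (algebraMap R C r) =
      Ideal.Quotient.mk _ r := by
    rw [RingEquiv.symm_apply_eq]
    rfl
  rw [IsPinch.cMap, RingHom.comp_apply]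
  exact (congrArg _ this).trans (Ideal.quotientMap_mk ..)

theorem IsPinch.isFibreSquare (h : IsPinch R A C) [Algebra C (D R A C)]
    [IsScalarTower R C (D R A C)]  :
    EtMil.IsFibreSquare R C A (D R A C) := by
  refine ⟨Ideal.Quotient.mk_surjective, fun c a hca => ?_⟩
  obtain ⟨r, rfl⟩ := h.surj c
  rw [← IsScalarTower.algebraMap_apply R C] at hca
  have h1 : a - algebraMap R A r ∈ Ideal.map (algebraMap R A) (RingHom.ker (algebraMap R C)) := by
    rw [← Ideal.Quotient.eq]
    exact hca.symm
  obtain ⟨i, hi, hi'⟩ := h.map _ h1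
  refine ⟨r + i, ⟨?_, ?_⟩, ?_⟩
  · rw [map_add, RingHom.mem_ker.mp hi, add_zero]
  · rw [map_add, hi', add_sub_cancel]
  · rintro r' ⟨h2, h3⟩
    have : r' - (r + i) ∈ RingHom.ker (algebraMap R A) ⊓ RingHom.ker (algebraMap R C) := by
      refine ⟨?_, ?_⟩
      · rw [SetLike.mem_coe, RingHom.mem_ker, map_sub, h3, map_add, hi', add_sub_cancel, sub_self]
      · rw [SetLike.mem_coe, RingHom.mem_ker, map_sub, h2, map_add, RingHom.mem_ker.mp hi, add_zero,
          sub_self]
    rw [h.inf] at this
    exact sub_eq_zero.mp this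


section

variable (h : IsPinch R A C) [Algebra C (D R A C)] [IsScalarTower R C (D R A C)]
  (M : Type u) [AddCommGroup M] [Module R M]

omit [Module R M] in
include h in
theorem glue_bijective [Module R M] {N M' : Type u} [AddCommGroup N] [Module C N] [Module R N]
    [IsScalarTower R C N]
    [AddCommGroup M'] [Module A M'] [Module R M'] [IsScalarTower R A M']
    (φ : (D R A C) ⊗[C] N ≃ₗ[D R A C] (D R A C) ⊗[A] M') (α : M →ₗ[R] EtMil.glue R φ)
    [Module.Flat R (EtMil.glue R φ)]
    (hA : Function.Bijective (α.lTensor A)) (hC : Function.Bijective (α.lTensor C)) :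
    Function.Bijective α := h.bijective_of α hA hC

/-- The gluing datum of a module. -/
noncomputable def phi : (D R A C) ⊗[C] (C ⊗[R] M) ≃ₗ[D R A C] (D R A C) ⊗[A] (A ⊗[R] M) :=
  (TensorProduct.AlgebraTensorModule.cancelBaseChange R C (D R A C) (D R A C) M).trans
    (TensorProduct.AlgebraTensorModule.cancelBaseChange R A (D R A C) (D R A C) M).symm

/-- The comparison map with the glued module. -/
noncomputable def alpha : M →ₗ[R] EtMil.glue R (phi (R := R) (A := A) (C := C) M) :=
  LinearMap.codRestrict _ ((TensorProduct.mk R C M 1).prod (TensorProduct.mk R A M 1)) (fun m => by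
    change phi (R := R) (A := A) (C := C) M ((1 : D R A C) ⊗ₜ[C] ((1 : C) ⊗ₜ[R] m)) =
      (1 : D R A C) ⊗ₜ[A] ((1 : A) ⊗ₜ[R] m)
    rw [phi, LinearEquiv.trans_apply, LinearEquiv.symm_apply_eq]
    simp)

include h in
theorem alpha_bijective_C : Function.Bijective ((alpha (R := R) (A := A) (C := C) M).lTensor C) := by
  have h1 := (Groth.Agent.S2019.result R C A (D R A C) h.isFibreSquare (C ⊗[R] M) (A ⊗[R] M)
    (phi M)).1
  have h2 : ∀ x, LinearMap.liftBaseChange C (EtMil.glueFst R (phi (R := R) (A := A) (C := C) M))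
      ((alpha (R := R) (A := A) (C := C) M).lTensor C x) = x := by
    intro x
    induction x with
    | zero => rw [map_zero, map_zero]
    | add x y hx hy => rw [map_add, map_add, hx, hy]
    | tmul c m =>
      rw [LinearMap.lTensor_tmul, LinearMap.liftBaseChange_tmul]
      change c • ((1 : C) ⊗ₜ[R] m) = _
      rw [TensorProduct.smul_tmul', smul_eq_mul, mul_one]
  constructor
  · intro x y hxy
    rw [← h2 x, ← h2 y, hxy]
  · intro y
    refine ⟨LinearMap.liftBaseChange C (EtMil.glueFst R (phi (R := R) (A := A) (C := C) M)) y, ?_⟩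
    apply h1.1
    rw [h2]

include h in
theorem alpha_bijective_A : Function.Bijective ((alpha (R := R) (A := A) (C := C) M).lTensor A) := by
  have h1 := (Groth.Agent.S2019.result R C A (D R A C) h.isFibreSquare (C ⊗[R] M) (A ⊗[R] M)
    (phi M)).2
  have h2 : ∀ x, LinearMap.liftBaseChange A (EtMil.glueSnd R (phi (R := R) (A := A) (C := C) M))
      ((alpha (R := R) (A := A) (C := C) M).lTensor A x) = x := by
    intro x
    induction x with
    | zero => rw [map_zero, map_zero]
    | add x y hx hy => rw [map_add, map_add, hx, hy]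
    | tmul c m =>
      rw [LinearMap.lTensor_tmul, LinearMap.liftBaseChange_tmul]
      change c • ((1 : A) ⊗ₜ[R] m) = _
      rw [TensorProduct.smul_tmul', smul_eq_mul, mul_one]
  constructor
  · intro x y hxy
    rw [← h2 x, ← h2 y, hxy]
  · intro y
    refine ⟨LinearMap.liftBaseChange A (EtMil.glueSnd R (phi (R := R) (A := A) (C := C) M)) y, ?_⟩
    apply h1.1
    rw [h2]

end


section

variable (h : IsPinch R A C) [Algebra C (D R A C)] [IsScalarTower R C (D R A C)]
  (M : Type u) [AddCommGroup M] [Module R M]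

include h in
theorem alpha_bijective [Module.Flat R (EtMil.glue R (phi (R := R) (A := A) (C := C) M))] :
    Function.Bijective (alpha (R := R) (A := A) (C := C) M) :=
  glue_bijective h M (phi (R := R) (A := A) (C := C) M) (alpha (R := R) (A := A) (C := C) M)
    (alpha_bijective_A h M) (alpha_bijective_C h M)

include h in
theorem flat_aux [Module.Flat A (A ⊗[R] M)] [Module.Flat C (C ⊗[R] M)] : Module.Flat R M := by
  have hfl : Module.Flat R (EtMil.glue R (phi (R := R) (A := A) (C := C) M)) :=
    (Groth.Agent.S2020.result R C A (D R A C) h.isFibreSquare).1 (C ⊗[R] M) (A ⊗[R] M) (phi M)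
      inferInstance inferInstance
  exact Module.Flat.of_linearEquiv (LinearEquiv.ofBijective _ (alpha_bijective h M))

include h in
theorem finite_projective_aux
    [Module.Finite A (A ⊗[R] M)] [Module.Projective A (A ⊗[R] M)] [Module.Finite C (C ⊗[R] M)]
    [Module.Projective C (C ⊗[R] M)] :
    Module.Finite R M ∧ Module.Projective R M := by
  obtain ⟨h1, h2⟩ := (Groth.Agent.S2021.result R C A (D R A C) h.isFibreSquare (C ⊗[R] M)
    (A ⊗[R] M) (phi M)).2 inferInstance inferInstance inferInstance inferInstance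
  have hfl : Module.Flat R (EtMil.glue R (phi (R := R) (A := A) (C := C) M)) :=
    Module.Flat.of_projective
  let e := LinearEquiv.ofBijective _ (alpha_bijective h M)
  exact ⟨Module.Finite.equiv e.symm, Module.Projective.of_equiv e.symm⟩

end

end glue

/-- Descent of flatness. -/
theorem IsPinch.flat (h : IsPinch R A C) (M : Type u) [AddCommGroup M] [Module R M]
    [Module.Flat A (A ⊗[R] M)] [Module.Flat C (C ⊗[R] M)] : Module.Flat R M := by
  let _ : Algebra C (D R A C) := h.cMap.toAlgebra
  have : IsScalarTower R C (D R A C) := IsScalarTower.of_algebraMap_eq fun r =>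
    (h.cMap_apply r).symm
  exact flat_aux h M

/-- Descent of finite projectivity. -/
theorem IsPinch.finite_projective (h : IsPinch R A C) (M : Type u) [AddCommGroup M] [Module R M]
    [Module.Finite A (A ⊗[R] M)] [Module.Projective A (A ⊗[R] M)] [Module.Finite C (C ⊗[R] M)]
    [Module.Projective C (C ⊗[R] M)] :
    Module.Finite R M ∧ Module.Projective R M := by
  let _ : Algebra C (D R A C) := h.cMap.toAlgebra
  have : IsScalarTower R C (D R A C) := IsScalarTower.of_algebraMap_eq fun r =>
    (h.cMap_apply r).symm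
  exact finite_projective_aux h M

theorem exists_fg (K : Type u) [CommRing K] [Algebra R K] (M : Type*) [AddCommGroup M] [Module R M]
    [Module.Finite K (K ⊗[R] M)] :
    ∃ N : Submodule R M, N.FG ∧ ∀ N', N ≤ N' → Subsingleton (K ⊗[R] (M ⧸ N')) := by
  classical
  have h1 : Submodule.span K (Set.range (fun m : M => (1 : K) ⊗ₜ[R] m)) = ⊤ := by
    rw [eq_top_iff]
    rintro x -
    induction x with
    | zero => exact zero_mem _
    | add x y hx hy => exact add_mem hx hy
    | tmul c m =>
      have : (c ⊗ₜ[R] m : K ⊗[R] M) = c • ((1 : K) ⊗ₜ[R] m) := by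
        rw [TensorProduct.smul_tmul', smul_eq_mul, mul_one]
      rw [this]
      exact Submodule.smul_mem _ _ (Submodule.subset_span ⟨m, rfl⟩)
  have h2 : (Submodule.span K (Set.range (fun m : M => (1 : K) ⊗ₜ[R] m))).FG := by
    rw [h1]
    exact Module.Finite.fg_top
  obtain ⟨s, hs, hs'⟩ := (Submodule.fg_span_iff_fg_span_finset_subset _).mp h2
  rw [← Set.image_univ, Finset.subset_set_image_iff] at hs
  obtain ⟨t, -, rfl⟩ := hs
  refine ⟨Submodule.span R t, ⟨t, rfl⟩, fun N' hN' => ⟨fun x y => ?_⟩⟩
  suffices H : ∀ x : K ⊗[R] (M ⧸ N'), x = 0 by rw [H x, H y]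
  have h3 : N'.mkQ.baseChange K = 0 := by
    have : (⊤ : Submodule K (K ⊗[R] M)) ≤ LinearMap.ker (N'.mkQ.baseChange K) := by
      rw [← h1, hs', Submodule.span_le]
      intro x hx
      obtain ⟨m, hm, rfl⟩ := Finset.mem_image.mp hx
      rw [SetLike.mem_coe, LinearMap.mem_ker, LinearMap.baseChange_tmul]
      have : N'.mkQ m = 0 := by
        rw [Submodule.mkQ_apply, Submodule.Quotient.mk_eq_zero]
        exact hN' (Submodule.subset_span hm)
      rw [this, TensorProduct.tmul_zero]
    ext x
    exact this (Submodule.mem_top (x := (1 : K) ⊗ₜ[R] x))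
  intro x
  obtain ⟨y, rfl⟩ := LinearMap.lTensor_surjective K (Submodule.mkQ_surjective N') x
  exact LinearMap.congr_fun h3 y

/-- Descent of finiteness. -/
theorem IsPinch.finite (h : IsPinch R A C) (M : Type*) [AddCommGroup M] [Module R M]
    [Module.Finite A (A ⊗[R] M)] [Module.Finite C (C ⊗[R] M)] : Module.Finite R M := by
  obtain ⟨N₁, h1, h2⟩ := exists_fg (R := R) A M
  obtain ⟨N₂, h3, h4⟩ := exists_fg (R := R) C M
  have := h2 (N₁ ⊔ N₂) le_sup_left
  have := h4 (N₁ ⊔ N₂) le_sup_right
  have := h.subsingleton (M ⧸ (N₁ ⊔ N₂))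
  refine ⟨?_⟩
  rw [← Submodule.Quotient.subsingleton_iff.mp this]
  exact h1.sup h3

end K838.PinchAlg
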