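import Groth.Agent.Pinch.K838.PinchPt
import Mathlib.Tactic.LinearCombination

/-!
# Derivations of the pinch point
-/

set_option autoImplicit false
universe u

namespace K838.PinchPt

open MvPolynomial

variable (K : Type u) [Field K]

theorem agree_of_gens (δ : Derivation K (R K) (MvPolynomial (Fin 2) K))
    (D : Derivation K (MvPolynomial (Fin 2) K) (MvPolynomial (Fin 2) K))
    (h0 : D (X 0 ^ 2) = δ ⟨X 0 ^ 2, x2_mem K⟩) (h1 : D (X 0 * X 1) = δ ⟨X 0 * X 1, xy_mem K⟩)
    (h2 : D (X 1) = δ ⟨X 1, y_mem K⟩) (r : R K) : D (r : MvPolynomial (Fin 2) K) = δ r := by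
  obtain ⟨r, hr⟩ := r
  change D r = δ ⟨r, hr⟩
  induction hr using Algebra.adjoin_induction with
  | mem x hx =>
    have hx' := hx
    simp only [Set.mem_insert_iff, Set.mem_singleton_iff] at hx'
    rcases hx' with rfl | rfl | rfl
    · exact h0
    · exact h1
    · exact h2
  | algebraMap r =>
    rw [D.map_algebraMap]
    exact (δ.map_algebraMap r).symm
  | add x y hx' hy' hx hy =>
    rw [map_add, hx, hy, ← map_add]
    rfl
  | mul x y hx' hy' hx hy =>
    have : (⟨x * y, mul_mem hx' hy'⟩ : R K) = ⟨x, hx'⟩ * ⟨y, hy'⟩ := rfl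
    rw [this, Derivation.leibniz, Derivation.leibniz, hx, hy]
    rfl

theorem two_ne [NeZero (2 : K)] : (2 : MvPolynomial (Fin 2) K) ≠ 0 := by
  have h : (2 : MvPolynomial (Fin 2) K) = C (2 : K) := (map_ofNat C 2).symm
  rw [h, Ne, C_eq_zero]
  exact NeZero.ne (2 : K)

theorem existsUnique_extension [NeZero (2 : K)] (δ : Derivation K (R K) (MvPolynomial (Fin 2) K)) :
    ∃! D : Derivation K (MvPolynomial (Fin 2) K) (MvPolynomial (Fin 2) K),
      ∀ r : R K, D (r : MvPolynomial (Fin 2) K) = δ r := by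
  let u : R K := ⟨X 0 * X 1, xy_mem K⟩
  let v : R K := ⟨X 1, y_mem K⟩
  let w : R K := ⟨X 0 ^ 2, x2_mem K⟩
  have hX1 : (X 1 : MvPolynomial (Fin 2) K) ≠ 0 := X_ne_zero _
  have rel : u * u = v * v * w := Subtype.ext (by
    change (X 0 * X 1 : MvPolynomial (Fin 2) K) * (X 0 * X 1) = X 1 * X 1 * X 0 ^ 2
    ring)
  have h1 : δ (u * u) = δ (v * v * w) := by rw [rel]
  rw [Derivation.leibniz, Derivation.leibniz, Derivation.leibniz] at h1
  have h2 : X 0 * X 1 * δ u + X 0 * X 1 * δ u =
      X 1 * X 1 * δ w + X 0 ^ 2 * (X 1 * δ v + X 1 * δ v) := h1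
  have h3 : 2 * X 0 * δ u = X 1 * δ w + 2 * X 0 ^ 2 * δ v := by
    apply mul_left_cancel₀ hX1
    linear_combination h2
  have h4 : 2 * (X 0 * (δ u - X 0 * δ v)) = X 1 * δ w := by linear_combination h3
  have h5 : X 1 ∣ δ u - X 0 * δ v := by
    have h6 : X 1 ∣ X 0 * (δ u - X 0 * δ v) := by
      refine ⟨C (2 : K)⁻¹ * δ w, ?_⟩
      apply mul_left_cancel₀ (two_ne K)
      rw [h4]
      have h7 : (2 : MvPolynomial (Fin 2) K) * C (2 : K)⁻¹ = 1 := by
        have h : (2 : MvPolynomial (Fin 2) K) = C (2 : K) := (map_ofNat C 2).symm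
        rw [h, ← C_mul, mul_inv_cancel₀ (NeZero.ne (2 : K)), C_1]
      linear_combination (-X 1 * δ w) * h7
    rw [X_dvd_mul_iff] at h6
    refine h6.resolve_left ?_
    rw [X_dvd_X]
    decide
  obtain ⟨s, hs⟩ := h5
  have h8 : 2 * X 0 * s = δ w := by
    apply mul_left_cancel₀ hX1
    linear_combination h4 - 2 * X 0 * hs
  have hD0 : (mkDerivation K (![s, δ v] : Fin 2 → MvPolynomial (Fin 2) K)) (X 0) = s := by
    rw [mkDerivation_X]; rfl
  have hD1 : (mkDerivation K (![s, δ v] : Fin 2 → MvPolynomial (Fin 2) K)) (X 1) = δ v := by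
    rw [mkDerivation_X]; rfl
  refine ⟨mkDerivation K ![s, δ v], ?_, ?_⟩
  · apply agree_of_gens
    · have e := (mkDerivation K (![s, δ v] : Fin 2 → MvPolynomial (Fin 2) K)).leibniz (X 0) (X 0)
      rw [hD0, ← pow_two] at e
      refine e.trans ?_
      change X 0 * s + X 0 * s = δ w
      linear_combination h8
    · rw [Derivation.leibniz, hD0, hD1]
      change X 0 * δ v + X 1 * s = δ u
      linear_combination -hs
    · exact hD1
  · intro D' hD'
    have e1 : D' (X 1) = δ v := hD' v
    have e2 : D' (X 0 * X 1) = δ u := hD' u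
    rw [Derivation.leibniz] at e2
    have e3 : X 0 * D' (X 1) + X 1 * D' (X 0) = δ u := e2
    apply derivation_ext
    intro i
    fin_cases i
    · simp only [Fin.zero_eta]
      rw [hD0]
      apply mul_left_cancel₀ hX1
      linear_combination e3 - X 0 * e1 + hs
    · simp only [Fin.mk_one]
      rw [hD1]
      exact e1

/-- Coefficients in odd degree of an even polynomial vanish. -/
theorem coeff_odd_eq_zero {p : Polynomial K} (hp : ∃ q : Polynomial K, p = Polynomial.expand K 2 q)
    (n : ℕ) : p.coeff (2 * n + 1) = 0 := by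
  obtain ⟨q, rfl⟩ := hp
  rw [Polynomial.coeff_expand (by norm_num), if_neg]
  omega

theorem even_of_coeff {p : Polynomial K} (hp : ∀ n, p.coeff (2 * n + 1) = 0) :
    ∃ q : Polynomial K, p = Polynomial.expand K 2 q := by
  refine ⟨Polynomial.contract 2 p, ?_⟩
  ext n
  rw [Polynomial.coeff_expand (by norm_num)]
  split_ifs with h
  · obtain ⟨k, rfl⟩ := h
    rw [Nat.mul_div_cancel_left _ (by norm_num), Polynomial.coeff_contract (by norm_num), mul_comm]
  · obtain ⟨k, rfl⟩ : ∃ k, n = 2 * k + 1 := ⟨n / 2, by omega⟩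
    exact hp k

theorem maps_iff [NeZero (2 : K)]
    (D : Derivation K (MvPolynomial (Fin 2) K) (MvPolynomial (Fin 2) K)) :
    (∀ r ∈ R K, D r ∈ R K) ↔
      (D (X 1) ∈ Ideal.span {(X 1 : MvPolynomial (Fin 2) K)} ∧
        ∃ (s : MvPolynomial (Fin 2) K) (p : Polynomial K),
          D (X 0) = X 1 * s + X 0 * Polynomial.aeval ((X 0 : MvPolynomial (Fin 2) K) ^ 2) p) := by
  constructor
  · intro h
    have h1 : D (X 1) ∈ R K := h _ (y_mem K)
    have h2 : D (X 0 * X 1) ∈ R K := h _ (xy_mem K)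
    have h3 : D (X 0 ^ 2) ∈ R K := h _ (x2_mem K)
    rw [Derivation.leibniz] at h2
    have h2 : X 0 * D (X 1) + X 1 * D (X 0) ∈ R K := h2
    have h4 : X 0 * D (X 1) ∈ R K := by
      have := sub_mem h2 (y_mul_mem K (D (X 0))).1
      rwa [add_sub_cancel_right] at this
    have hy : ev K (D (X 1)) = 0 := by
      rw [mem_iff_ev] at h1 h4
      ext n
      rw [Polynomial.coeff_zero]
      rcases Nat.even_or_odd' n with ⟨k, rfl | rfl⟩
      · have := coeff_odd_eq_zero K h4 k
        rw [map_mul, ev_X0, Polynomial.coeff_X_mul] at this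
        exact this
      · exact coeff_odd_eq_zero K h1 k
    rw [ev_eq_zero_iff] at hy
    refine ⟨Ideal.mem_span_singleton.mpr hy, ?_⟩
    rw [pow_two, Derivation.leibniz] at h3
    have h3 : X 0 * D (X 0) + X 0 * D (X 0) ∈ R K := h3
    have h5 : X 0 * D (X 0) ∈ R K := by
      have := (R K).smul_mem h3 (2 : K)⁻¹
      rw [← two_mul, MvPolynomial.smul_eq_C_mul, ← mul_assoc] at this
      have h7 : C (2 : K)⁻¹ * (2 : MvPolynomial (Fin 2) K) = 1 := by
        have h : (2 : MvPolynomial (Fin 2) K) = C (2 : K) := (map_ofNat C 2).symm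
        rw [h, ← C_mul, inv_mul_cancel₀ (NeZero.ne (2 : K)), C_1]
      rwa [h7, one_mul] at this
    rw [mem_iff_ev] at h5
    -- the value at `y = 0` of `D x` is odd
    have hodd : ∀ n, (ev K (D (X 0))).coeff (2 * n) = 0 := by
      intro n
      have := coeff_odd_eq_zero K h5 n
      rw [map_mul, ev_X0, Polynomial.coeff_X_mul] at this
      exact this
    obtain ⟨q, hq⟩ := even_of_coeff K (p := (ev K (D (X 0))).divX) (fun n => by
      rw [Polynomial.coeff_divX]
      exact hodd (n + 1))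
    obtain ⟨s, hs⟩ := decomp K (D (X 0))
    refine ⟨s, q, ?_⟩
    rw [hs]
    congr 1
    have h6 : ev K (D (X 0)) = Polynomial.X * Polynomial.expand K 2 q := by
      rw [← hq]
      conv_lhs => rw [← Polynomial.divX_mul_X_add (ev K (D (X 0)))]
      have : (ev K (D (X 0))).coeff 0 = 0 := hodd 0
      rw [this, map_zero, add_zero, mul_comm]
    rw [h6, map_mul, Polynomial.aeval_X, Polynomial.expand_eq_comp_X_pow,
      Polynomial.comp_eq_aeval, ← Polynomial.aeval_algHom_apply, map_pow, Polynomial.aeval_X]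
  · rintro ⟨h1, s, p, h2⟩
    obtain ⟨b, hb⟩ := Ideal.mem_span_singleton.mp h1
    intro r hr
    induction hr using Algebra.adjoin_induction with
    | mem x hx =>
      simp only [Set.mem_insert_iff, Set.mem_singleton_iff] at hx
      rcases hx with rfl | rfl | rfl
      · rw [pow_two, Derivation.leibniz, h2]
        have e : ((X 0 : MvPolynomial (Fin 2) K) • (X 1 * s + X 0 *
            Polynomial.aeval ((X 0 : MvPolynomial (Fin 2) K) ^ 2) p)) =
            X 1 * (X 0 * s) + X 0 ^ 2 * Polynomial.aeval ((X 0 : MvPolynomial (Fin 2) K) ^ 2) p := by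
          rw [smul_eq_mul]; ring
        rw [e]
        have := add_mem (y_mul_mem K (X 0 * s)).1 (mul_mem (x2_mem K) (aeval_mem K p))
        exact add_mem this this
      · rw [Derivation.leibniz, hb, smul_eq_mul, smul_eq_mul]
        have : X 0 * (X 1 * b) + X 1 * D (X 0) = X 1 * (X 0 * b + D (X 0)) := by ring
        rw [this]
        exact (y_mul_mem K _).1
      · rw [hb]
        exact (y_mul_mem K _).1
    | algebraMap r =>
      rw [D.map_algebraMap]
      exact zero_mem _
    | add x y _ _ hx hy =>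
      rw [map_add]
      exact add_mem hx hy
    | mul x y hx' hy' hx hy =>
      rw [Derivation.leibniz]
      exact add_mem (mul_mem hx' hy) (mul_mem hy' hx)

end K838.PinchPt
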