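import Mathlib.RingTheory.Derivation.Basic
import Mathlib.RingTheory.MvPolynomial.Basic
import Mathlib.Algebra.MvPolynomial.CommRing
import Mathlib.Algebra.MvPolynomial.Derivation
import Mathlib.Algebra.MvPolynomial.Division
import Mathlib.RingTheory.Adjoin.Basic
import Mathlib.RingTheory.Polynomial.Basic
import Mathlib.Algebra.MvPolynomial.Equiv
import Mathlib.Algebra.Polynomial.Expand

/-!
# The pinch point subalgebra `K[x², xy, y] ⊆ K[x, y]`
-/

set_option autoImplicit false
universe u

namespace K838.PinchPt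

open MvPolynomial

variable (K : Type u) [Field K]

/-- the pinch point subalgebra -/
noncomputable abbrev R : Subalgebra K (MvPolynomial (Fin 2) K) :=
  Algebra.adjoin K {(X 0 : MvPolynomial (Fin 2) K) ^ 2, X 0 * X 1, X 1}

theorem x2_mem : (X 0 : MvPolynomial (Fin 2) K) ^ 2 ∈ R K := Algebra.subset_adjoin (by simp)
theorem xy_mem : (X 0 * X 1 : MvPolynomial (Fin 2) K) ∈ R K := Algebra.subset_adjoin (by simp)
theorem y_mem : (X 1 : MvPolynomial (Fin 2) K) ∈ R K := Algebra.subset_adjoin (by simp)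

theorem y_mul_mem (s : MvPolynomial (Fin 2) K) : X 1 * s ∈ R K ∧ X 0 * X 1 * s ∈ R K := by
  induction s using MvPolynomial.induction_on with
  | C a =>
    have : (C a : MvPolynomial (Fin 2) K) ∈ R K := Subalgebra.algebraMap_mem (R K) a
    exact ⟨mul_mem (y_mem K) this, mul_mem (xy_mem K) this⟩
  | add p q hp hq =>
    rw [mul_add, mul_add]
    exact ⟨add_mem hp.1 hq.1, add_mem hp.2 hq.2⟩
  | mul_X p i hp =>
    fin_cases i
    · refine ⟨?_, ?_⟩
      · have : X 1 * (p * X 0) = X 0 * X 1 * p := by ring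
        simp only [Fin.zero_eta]
        rw [this]
        exact hp.2
      · have : X 0 * X 1 * (p * X 0) = X 0 ^ 2 * (X 1 * p) := by ring
        simp only [Fin.zero_eta]
        rw [this]
        exact mul_mem (x2_mem K) hp.1
    · refine ⟨?_, ?_⟩
      · have : X 1 * (p * X 1) = X 1 * (X 1 * p) := by ring
        simp only [Fin.mk_one]
        rw [this]
        exact mul_mem (y_mem K) hp.1
      · have : X 0 * X 1 * (p * X 1) = X 0 * X 1 * p * X 1 := by ring
        simp only [Fin.mk_one]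
        rw [this]
        exact mul_mem hp.2 (y_mem K)

theorem aeval_mem (p : Polynomial K) :
    Polynomial.aeval ((X 0 : MvPolynomial (Fin 2) K) ^ 2) p ∈ R K :=
  by
  rw [Polynomial.aeval_eq_sum_range]
  exact sum_mem fun i _ => (R K).smul_mem (pow_mem (x2_mem K) _) _

theorem mem_iff (F : MvPolynomial (Fin 2) K) : F ∈ R K ↔
    ∃ (s : MvPolynomial (Fin 2) K) (p : Polynomial K),
      F = X 1 * s + Polynomial.aeval ((X 0 : MvPolynomial (Fin 2) K) ^ 2) p := by
  constructor
  · intro hF
    induction hF using Algebra.adjoin_induction with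
    | mem x hx =>
      simp only [Set.mem_insert_iff, Set.mem_singleton_iff] at hx
      rcases hx with rfl | rfl | rfl
      · exact ⟨0, Polynomial.X, by simp⟩
      · exact ⟨X 0, 0, by simp [mul_comm]⟩
      · exact ⟨1, 0, by simp⟩
    | algebraMap r => exact ⟨0, Polynomial.C r, by simp [MvPolynomial.algebraMap_eq]⟩
    | add x y _ _ hx hy =>
      obtain ⟨s, p, rfl⟩ := hx
      obtain ⟨s', p', rfl⟩ := hy
      exact ⟨s + s', p + p', by rw [map_add]; ring⟩
    | mul x y _ _ hx hy =>
      obtain ⟨s, p, rfl⟩ := hx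
      obtain ⟨s', p', rfl⟩ := hy
      refine ⟨X 1 * s * s' + s * Polynomial.aeval ((X 0 : MvPolynomial (Fin 2) K) ^ 2) p' +
        s' * Polynomial.aeval ((X 0 : MvPolynomial (Fin 2) K) ^ 2) p, p * p', ?_⟩
      rw [map_mul]
      ring
  · rintro ⟨s, p, rfl⟩
    exact add_mem (y_mul_mem K s).1 (aeval_mem K p)

/-- evaluation at `y = 0` -/
noncomputable def ev : MvPolynomial (Fin 2) K →ₐ[K] Polynomial K :=
  MvPolynomial.aeval ![Polynomial.X, 0]

theorem ev_X0 : ev K (X 0) = Polynomial.X := by simp [ev]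
theorem ev_X1 : ev K (X 1) = 0 := by simp [ev]

theorem ev_aeval (p : Polynomial K) : ev K (Polynomial.aeval (X 0) p) = p := by
  rw [← Polynomial.aeval_algHom_apply, ev_X0, Polynomial.aeval_X_left_apply]

theorem ev_aeval_sq (p : Polynomial K) : ev K (Polynomial.aeval (X 0 ^ 2) p) =
    Polynomial.expand K 2 p := by
  rw [← Polynomial.aeval_algHom_apply, map_pow, ev_X0, Polynomial.expand_eq_comp_X_pow,
    Polynomial.comp_eq_aeval]

theorem decomp (F : MvPolynomial (Fin 2) K) :
    ∃ s : MvPolynomial (Fin 2) K, F = X 1 * s + Polynomial.aeval (X 0) (ev K F) := by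
  induction F using MvPolynomial.induction_on with
  | C a =>
    refine ⟨0, ?_⟩
    have : ev K (C a) = Polynomial.C a := by simp [ev]
    rw [this, Polynomial.aeval_C]
    simp [MvPolynomial.algebraMap_eq]
  | add p q hp hq =>
    obtain ⟨s, hs⟩ := hp
    obtain ⟨s', hs'⟩ := hq
    refine ⟨s + s', ?_⟩
    rw [map_add, map_add]
    nth_rewrite 1 [hs]
    nth_rewrite 1 [hs']
    ring
  | mul_X p i hp =>
    obtain ⟨s, hs⟩ := hp
    fin_cases i
    · refine ⟨s * X 0, ?_⟩
      simp only [Fin.zero_eta]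
      rw [map_mul, ev_X0, map_mul, Polynomial.aeval_X]
      nth_rewrite 1 [hs]
      ring
    · refine ⟨p, ?_⟩
      simp only [Fin.mk_one]
      rw [map_mul, ev_X1, mul_zero, map_zero, add_zero]
      ring

theorem ev_eq_zero_iff (F : MvPolynomial (Fin 2) K) : ev K F = 0 ↔ X 1 ∣ F := by
  constructor
  · intro h
    obtain ⟨s, hs⟩ := decomp K F
    rw [h, map_zero, add_zero] at hs
    exact ⟨s, hs⟩
  · rintro ⟨s, rfl⟩
    rw [map_mul, ev_X1, zero_mul]

theorem mem_iff_ev (F : MvPolynomial (Fin 2) K) : F ∈ R K ↔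
    ∃ p : Polynomial K, ev K F = Polynomial.expand K 2 p := by
  rw [mem_iff]
  constructor
  · rintro ⟨s, p, rfl⟩
    exact ⟨p, by rw [map_add, map_mul, ev_X1, zero_mul, zero_add, ev_aeval_sq]⟩
  · rintro ⟨p, hp⟩
    obtain ⟨s, hs⟩ := decomp K F
    refine ⟨s, p, ?_⟩
    rw [hp] at hs
    rw [hs]
    congr 1
    rw [Polynomial.expand_eq_comp_X_pow, Polynomial.comp_eq_aeval, ← Polynomial.aeval_algHom_apply,
      map_pow, Polynomial.aeval_X]

end K838.PinchPt
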