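import Groth.Agent.Pinch.K838.PinchAlg
import Groth.Agent.VarietyB.PullSec

/-!
# Sections of quasi-coherent modules over pinching squares
-/

set_option autoImplicit false
universe u

open CategoryTheory CategoryTheory.Limits AlgebraicGeometry TopologicalSpace
open scoped TensorProduct
open K838.PinchAlg

namespace K838.PinchSec

/-- The sections of the pullback of a quasi-coherent module. -/
theorem exists_equiv {X Y : Scheme.{u}} (f : X ⟶ Y) (G : Y.Modules) (hG : Coh.IsQCoh G)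
    {V : Y.Opens} (hV : IsAffineOpen V) (hfV : IsAffineOpen (f ⁻¹ᵁ V))
    [i : Algebra Γ(Y, V) Γ(X, f ⁻¹ᵁ V)] (hi : algebraMap Γ(Y, V) Γ(X, f ⁻¹ᵁ V) = (f.app V).hom) :
    Nonempty (Γ(X, f ⁻¹ᵁ V) ⊗[Γ(Y, V)] Γ(G, V) ≃ₗ[Γ(X, f ⁻¹ᵁ V)]
      Γ((Scheme.Modules.pullback f).obj G, f ⁻¹ᵁ V)) := by
  have h1 : i = (f.appLE V (f ⁻¹ᵁ V) le_rfl).hom.toAlgebra := by
    refine Algebra.algebra_ext _ _ fun r => ?_
    rw [hi, Scheme.Hom.app_eq_appLE]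
    rfl
  subst h1
  letI : Algebra Γ(Y, V) Γ(X, f ⁻¹ᵁ V) := (f.appLE V (f ⁻¹ᵁ V) le_rfl).hom.toAlgebra
  let := Groth.Agent.VarietyB.PullSec.secModule f G (le_rfl : f ⁻¹ᵁ V ≤ f ⁻¹ᵁ V)
  have : IsScalarTower Γ(Y, V) Γ(X, f ⁻¹ᵁ V) Γ((Scheme.Modules.pullback f).obj G, f ⁻¹ᵁ V) :=
      ⟨fun a b c => by rw [Algebra.smul_def, mul_smul]; rfl⟩
  have hbc : IsBaseChange Γ(X, f ⁻¹ᵁ V) (Groth.Agent.VarietyB.PullSec.secₗ f G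
      (le_rfl : f ⁻¹ᵁ V ≤ f ⁻¹ᵁ V)) :=
    Groth.Agent.VarietyB.PullSec.isBaseChange_secₗ f G le_rfl hG hV hfV
  exact ⟨hbc.equiv⟩

/-- Everything we need over an affine open of a pinching square. -/
theorem master {X Y Y' : Scheme.{u}} (f : X ⟶ Y) (u : Y' ⟶ Y) [IsAffineHom f]
    [IsClosedImmersion u]
    (hM : ∀ V ∈ Y.affineOpens,
      RingHom.ker (f.app V).hom ⊓ RingHom.ker (u.app V).hom = ⊥ ∧
      ∀ a ∈ Ideal.map (f.app V).hom (RingHom.ker (u.app V).hom),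
        ∃ i ∈ RingHom.ker (u.app V).hom, (f.app V).hom i = a)
    (G : Y.Modules) (hG : Coh.IsQCoh G) {V : Y.Opens} (hV : IsAffineOpen V) :
    ∃ (i₁ : Algebra Γ(Y, V) Γ(X, f ⁻¹ᵁ V)) (i₂ : Algebra Γ(Y, V) Γ(Y', u ⁻¹ᵁ V)),
      IsPinch Γ(Y, V) Γ(X, f ⁻¹ᵁ V) Γ(Y', u ⁻¹ᵁ V) ∧
      Nonempty (Γ(X, f ⁻¹ᵁ V) ⊗[Γ(Y, V)] Γ(G, V) ≃ₗ[Γ(X, f ⁻¹ᵁ V)]
        Γ((Scheme.Modules.pullback f).obj G, f ⁻¹ᵁ V)) ∧
      Nonempty (Γ(Y', u ⁻¹ᵁ V) ⊗[Γ(Y, V)] Γ(G, V) ≃ₗ[Γ(Y', u ⁻¹ᵁ V)]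
        Γ((Scheme.Modules.pullback u).obj G, u ⁻¹ᵁ V)) := by
  refine ⟨(f.app V).hom.toAlgebra, (u.app V).hom.toAlgebra, ?_, ?_, ?_⟩
  · exact @IsPinch.mk _ _ _ _ _ _ (f.app V).hom.toAlgebra (u.app V).hom.toAlgebra
      (u.app_surjective V hV) (hM V hV).1 (hM V hV).2
  · let := (f.app V).hom.toAlgebra
    exact exists_equiv f G hG hV (hV.preimage f) rfl
  · let := (u.app V).hom.toAlgebra
    exact exists_equiv u G hG hV (hV.preimage u) rfl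

end K838.PinchSec
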