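import Mathlib.RingTheory.Flat.Basic
import Mathlib.RingTheory.Flat.Stability
import Mathlib.LinearAlgebra.TensorProduct.Tower
import Mathlib.RingTheory.Ideal.Maximal

/-!
# Descent of universal injectivity
-/

set_option autoImplicit false
universe u

open TensorProduct

namespace K838.PureDesc

variable {R : Type u} [CommRing R]

/-- If `1 ⊗ x = 0` in `R' ⊗ M` with `R'` flat then the annihilator of `x` generates the unit ideal
of `R'`. -/
theorem map_ker_eq_top {R' : Type u} [CommRing R'] [Algebra R R'] [Module.Flat R R'] {M : Type u}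
    [AddCommGroup M] [Module R M] (x : M) (hx : (1 : R') ⊗ₜ[R] x = 0) (J : Ideal R)
    (hJ : ∀ r : R, r • x = 0 → r ∈ J) : J.map (algebraMap R R') = ⊤ := by
  let t := LinearMap.toSpanSingleton R M x
  have hex : Function.Exact (LinearMap.ker t).subtype t := LinearMap.exact_subtype_ker_map t
  have hex' := Module.Flat.lTensor_exact R' hex
  obtain ⟨y, hy⟩ := (hex' ((1 : R') ⊗ₜ[R] (1 : R))).mp (by
    rw [LinearMap.lTensor_tmul, LinearMap.toSpanSingleton_apply, one_smul, hx])
  rw [Ideal.eq_top_iff_one]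
  have key : ∀ y : R' ⊗[R] (LinearMap.ker t),
      TensorProduct.rid R R' ((LinearMap.ker t).subtype.lTensor R' y) ∈
        J.map (algebraMap R R') := by
    intro y
    induction y with
    | zero => rw [map_zero, map_zero]; exact zero_mem _
    | add a b ha hb => rw [map_add, map_add]; exact add_mem ha hb
    | tmul a b =>
      rw [LinearMap.lTensor_tmul, TensorProduct.rid_tmul, Algebra.smul_def]
      refine Ideal.mul_mem_right _ _ (Ideal.mem_map_of_mem _ (hJ _ ?_))
      exact b.2
  have h1 := key y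
  rw [hy, TensorProduct.rid_tmul, one_smul] at h1
  exact h1

/-- Descent of universal injectivity. -/
theorem lTensor_injective {M N : Type u} [AddCommGroup M] [Module R M] [AddCommGroup N] [Module R N]
    (l : M →ₗ[R] N)
    (H : ∀ p : Ideal R, p.IsMaximal → ∃ (R' : Type u) (_ : CommRing R') (_ : Algebra R R'),
      Module.Flat R R' ∧ p.map (algebraMap R R') ≠ ⊤ ∧
      ∀ (A' : Type u) [AddCommGroup A'] [Module R' A'],
        Function.Injective ((l.baseChange R').lTensor A'))
    (A : Type u) [AddCommGroup A] [Module R A] : Function.Injective (l.lTensor A) := by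
  rw [injective_iff_map_eq_zero]
  intro x hx
  by_contra hx0
  let I : Ideal R := LinearMap.ker (LinearMap.toSpanSingleton R (A ⊗[R] M) x)
  have hI : I ≠ ⊤ := by
    intro h
    have : (1 : R) ∈ I := by rw [h]; trivial
    have h2 : (1 : R) • x = 0 := this
    rw [one_smul] at h2
    exact hx0 h2
  obtain ⟨p, hp, hIp⟩ := Ideal.exists_le_maximal I hI
  obtain ⟨R', _, _, hfl, hpR, hinj⟩ := H p hp
  refine hpR (map_ker_eq_top x ?_ p (fun r hr => hIp hr))
  have key : ∀ z : A ⊗[R] M, (l.baseChange R').lTensor (R' ⊗[R] A)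
      (AlgebraTensorModule.distribBaseChange R R' A M ((1 : R') ⊗ₜ[R] z)) =
      AlgebraTensorModule.distribBaseChange R R' A N ((1 : R') ⊗ₜ[R] (l.lTensor A z)) := by
    intro z
    induction z with
    | zero => simp only [map_zero, TensorProduct.tmul_zero]
    | add a b ha hb => simp only [map_add, TensorProduct.tmul_add, ha, hb]
    | tmul a b =>
      rw [LinearMap.lTensor_tmul]
      have d1 : AlgebraTensorModule.distribBaseChange R R' A M ((1 : R') ⊗ₜ[R] (a ⊗ₜ[R] b)) =
        ((1 : R') ⊗ₜ[R] a) ⊗ₜ[R'] ((1 : R') ⊗ₜ[R] b) := rfl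
      have d2 : AlgebraTensorModule.distribBaseChange R R' A N ((1 : R') ⊗ₜ[R] (a ⊗ₜ[R] l b)) =
        ((1 : R') ⊗ₜ[R] a) ⊗ₜ[R'] ((1 : R') ⊗ₜ[R] l b) := rfl
      rw [d1, d2, LinearMap.lTensor_tmul, LinearMap.baseChange_tmul]
  have h1 := key x
  rw [hx, TensorProduct.tmul_zero, map_zero] at h1
  have h2 := (injective_iff_map_eq_zero _).mp (hinj (R' ⊗[R] A)) _ h1
  exact (AlgebraTensorModule.distribBaseChange R R' A M).map_eq_zero_iff.mp h2

end K838.PureDesc
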