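import Groth.Agent.Pinch.K838.HensFib
import Groth.Agent.Pinch.K838.PureDesc
import Groth.Agent.S0537
import Groth.Agent.S0539
import Mathlib.RingTheory.Flat.Localization
import Mathlib.RingTheory.Flat.Equalizer

/-!
# Fibre products `R = B ×_E C` with `B` finite etale and `E / C` projective are universal
-/

set_option autoImplicit false
universe u

open TensorProduct IsLocalRing

namespace K838.PurePB

/-- strict henselizations at maximal ideals -/
theorem exists_sh {R : Type u} [CommRing R] (p : Ideal R) (hp : p.IsMaximal) :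
    ∃ (R' : Type u) (_ : CommRing R') (_ : Algebra R R') (_ : HenselianLocalRing R')
      (_ : IsSepClosed (ResidueField R')), Module.Flat R R' ∧ p.map (algebraMap R R') ≠ ⊤ := by
  obtain ⟨S, _, _, _, _, hS⟩ := Groth.Agent.S0537.result (Localization.AtPrime p)
  have hens := hS.henselian
  have h1 := hS.isSepClosure.sep_closed
  have h2 : Module.FaithfullyFlat (Localization.AtPrime p) S :=
    Groth.Agent.S0539.result (Localization.AtPrime p) S
  letI : Algebra R S := ((algebraMap (Localization.AtPrime p) S).comp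
    (algebraMap R (Localization.AtPrime p))).toAlgebra
  have : IsScalarTower R (Localization.AtPrime p) S := IsScalarTower.of_algebraMap_eq' rfl
  refine ⟨S, inferInstance, inferInstance, hens, h1, ?_, ?_⟩
  · have : Module.Flat R (Localization.AtPrime p) := IsLocalization.flat _ p.primeCompl
    exact Module.Flat.trans R (Localization.AtPrime p) S
  · intro h
    have h3 : p.map (algebraMap R S) ≤ maximalIdeal S := by
      rw [Ideal.map_le_iff_le_comap]
      intro x hx
      rw [Ideal.mem_comap, IsScalarTower.algebraMap_apply R (Localization.AtPrime p) S]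
      apply map_nonunit
      rw [← Localization.AtPrime.map_eq_maximalIdeal]
      exact Ideal.mem_map_of_mem _ hx
    rw [h, top_le_iff] at h3
    exact Ideal.IsPrime.ne_top' h3

variable {R B C E : Type u} [CommRing R] [CommRing B] [CommRing C] [CommRing E]
  [Algebra R B] [Algebra R C] [Algebra R E]
  [Module.Finite R B] [Algebra.FormallyEtale R B] [Algebra.IsIntegral R C]
  [Algebra.IsIntegral R E] (f : B →ₐ[R] E) (g : C →ₐ[R] E)
  (hfib : ∀ b c, f b = g c → ∃ r : R, algebraMap R B r = b ∧ algebraMap R C r = c)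
  (hginj : Function.Injective g)
  {W V : Type u} [AddCommGroup W] [Module R W] [AddCommGroup V] [Module R V]
  [Module.Finite R V] [Module.Projective R V]
  (πW : B →ₗ[R] W) (hW : Function.Surjective πW)
  (hW' : ∀ b, πW b = 0 ↔ ∃ r : R, algebraMap R B r = b)
  (πV : E →ₗ[R] V) (hV : Function.Surjective πV) (hV' : ∀ e, πV e = 0 ↔ ∃ c, g c = e)
  (j : W →ₗ[R] V) (hj : ∀ b, j (πW b) = πV (f b))

/-- the base changed fibre product -/
theorem hfib_baseChange (R' : Type u) [CommRing R'] [Algebra R R'] [Module.Flat R R']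
    (hfib : ∀ b c, f b = g c → ∃ r : R, algebraMap R B r = b ∧ algebraMap R C r = c)
    (b : R' ⊗[R] B) (c : R' ⊗[R] C)
    (h : Algebra.TensorProduct.map (AlgHom.id R' R') f b =
      Algebra.TensorProduct.map (AlgHom.id R' R') g c) :
    ∃ r : R', algebraMap R' (R' ⊗[R] B) r = b ∧ algebraMap R' (R' ⊗[R] C) r = c := by
  let d : R →ₗ[R] B × C := (Algebra.linearMap R B).prod (Algebra.linearMap R C)
  let s : B × C →ₗ[R] E := f.toLinearMap ∘ₗ LinearMap.fst R B C - g.toLinearMap ∘ₗ LinearMap.snd R B C
  have hex : Function.Exact d s := by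
    rintro ⟨x, y⟩
    constructor
    · intro h
      obtain ⟨r, h1, h2⟩ := hfib x y (sub_eq_zero.mp h)
      exact ⟨r, Prod.ext h1 h2⟩
    · rintro ⟨r, hr⟩
      rw [← hr]
      change f (algebraMap R B r) - g (algebraMap R C r) = 0
      rw [f.commutes, g.commutes, sub_self]
  have hex' := Module.Flat.lTensor_exact R' hex
  let z : R' ⊗[R] (B × C) := (LinearMap.inl R B C).lTensor R' b + (LinearMap.inr R B C).lTensor R' c
  have hs1 : s ∘ₗ LinearMap.inl R B C = f.toLinearMap := by
    ext x; simp [s]
  have hs2 : s ∘ₗ LinearMap.inr R B C = -g.toLinearMap := by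
    ext x; simp [s]
  have hfl : ∀ b : R' ⊗[R] B, Algebra.TensorProduct.map (AlgHom.id R' R') f b =
      f.toLinearMap.lTensor R' b := fun b => rfl
  have hgl : ∀ c : R' ⊗[R] C, Algebra.TensorProduct.map (AlgHom.id R' R') g c =
      g.toLinearMap.lTensor R' c := fun b => rfl
  obtain ⟨y, hy⟩ := (hex' z).mp (by
    rw [map_add, ← LinearMap.comp_apply, ← LinearMap.comp_apply, ← LinearMap.lTensor_comp,
      ← LinearMap.lTensor_comp, hs1, hs2, LinearMap.lTensor_neg, LinearMap.neg_apply, ← hfl, ← hgl,
      h, add_neg_cancel])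
  obtain ⟨r, rfl⟩ : ∃ r : R', r ⊗ₜ[R] (1 : R) = y :=
    ⟨TensorProduct.rid R R' y, (TensorProduct.rid R R').injective (by
      rw [TensorProduct.rid_tmul, one_smul])⟩
  refine ⟨r, ?_, ?_⟩
  · have h1 : (LinearMap.fst R B C).lTensor R' z = b := by
      rw [map_add, ← LinearMap.comp_apply, ← LinearMap.comp_apply, ← LinearMap.lTensor_comp,
        ← LinearMap.lTensor_comp, LinearMap.fst_comp_inl, LinearMap.fst_comp_inr,
        LinearMap.lTensor_id, LinearMap.lTensor_zero, LinearMap.id_apply, LinearMap.zero_apply,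
        add_zero]
    rw [← h1, ← hy, LinearMap.lTensor_tmul, LinearMap.lTensor_tmul]
    change _ = r ⊗ₜ[R] (algebraMap R B 1)
    rw [map_one]
    rfl
  · have h1 : (LinearMap.snd R B C).lTensor R' z = c := by
      rw [map_add, ← LinearMap.comp_apply, ← LinearMap.comp_apply, ← LinearMap.lTensor_comp,
        ← LinearMap.lTensor_comp, LinearMap.snd_comp_inl, LinearMap.snd_comp_inr,
        LinearMap.lTensor_id, LinearMap.lTensor_zero, LinearMap.id_apply, LinearMap.zero_apply,
        zero_add]
    rw [← h1, ← hy, LinearMap.lTensor_tmul, LinearMap.lTensor_tmul]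
    change _ = r ⊗ₜ[R] (algebraMap R C 1)
    rw [map_one]
    rfl

include hfib hginj hW hW' hV hV' hj in
theorem exists_split (R' : Type u) [CommRing R'] [Algebra R R'] [Module.Flat R R']
    [HenselianLocalRing R'] [IsSepClosed (ResidueField R')] :
    ∃ s : R' ⊗[R] V →ₗ[R'] R' ⊗[R] W, s ∘ₗ j.baseChange R' = LinearMap.id := by
  refine HensFib.exists_split (R := R') (Algebra.TensorProduct.map (AlgHom.id R' R') f)
    (Algebra.TensorProduct.map (AlgHom.id R' R') g) (hfib_baseChange f g R' hfib) ?_
    (πW.baseChange R') ?_ ?_ (πV.baseChange R') ?_ ?_ _ ?_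
  · exact Module.Flat.lTensor_preserves_injective_linearMap g.toLinearMap hginj
  · exact LinearMap.lTensor_surjective R' hW
  · intro b
    have hex : Function.Exact (Algebra.linearMap R B) πW := fun b => hW' b
    have hex' := lTensor_exact R' hex hW
    rw [show (πW.baseChange R') b = πW.lTensor R' b from rfl, hex' b]
    constructor
    · rintro ⟨y, hy⟩
      refine ⟨TensorProduct.rid R R' y, ?_⟩
      obtain ⟨r, rfl⟩ : ∃ r : R', r ⊗ₜ[R] (1 : R) = y :=
        ⟨TensorProduct.rid R R' y, (TensorProduct.rid R R').injective (by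
          rw [TensorProduct.rid_tmul, one_smul])⟩
      rw [← hy, TensorProduct.rid_tmul, one_smul, LinearMap.lTensor_tmul]
      change _ = r ⊗ₜ[R] (algebraMap R B 1)
      rw [map_one]
      rfl
    · rintro ⟨r, hr⟩
      refine ⟨r ⊗ₜ 1, ?_⟩
      rw [← hr, LinearMap.lTensor_tmul]
      change r ⊗ₜ[R] (algebraMap R B 1) = _
      rw [map_one]
      rfl
  · exact LinearMap.lTensor_surjective R' hV
  · have hex : Function.Exact g.toLinearMap πV := fun e => hV' e
    have hex' := lTensor_exact R' hex hV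
    intro e
    exact hex' e
  · intro b
    have h1 : j ∘ₗ πW = πV ∘ₗ f.toLinearMap := LinearMap.ext hj
    change (j.lTensor R') (πW.lTensor R' b) = πV.lTensor R' (f.toLinearMap.lTensor R' b)
    rw [← LinearMap.comp_apply, ← LinearMap.lTensor_comp, h1, LinearMap.lTensor_comp]
    rfl

include hfib hginj hW hW' hV hV' hj in
theorem inj_W (A : Type u) [AddCommGroup A] [Module R A] : Function.Injective (j.lTensor A) := by
  apply PureDesc.lTensor_injective
  intro p hp
  obtain ⟨R', _, _, _, _, hfl, hp'⟩ := exists_sh p hp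
  refine ⟨R', inferInstance, inferInstance, hfl, hp', ?_⟩
  intro A' _ _
  obtain ⟨s, hs⟩ := exists_split f g hfib hginj πW hW hW' πV hV hV' j hj R'
  apply Function.LeftInverse.injective (g := s.lTensor A')
  intro x
  rw [← LinearMap.comp_apply, ← LinearMap.lTensor_comp, hs, LinearMap.lTensor_id]
  rfl

include hfib hginj hW hW' hV hV' hj in
theorem inj_B (hR : ∀ r : R, algebraMap R B r = 0 → r = 0) (A : Type u) [AddCommGroup A]
    [Module R A] : Function.Injective ((Algebra.linearMap R B).lTensor A) := by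
  apply PureDesc.lTensor_injective
  intro p hp
  obtain ⟨R', _, _, _, _, hfl, hp'⟩ := exists_sh p hp
  refine ⟨R', inferInstance, inferInstance, hfl, hp', ?_⟩
  intro A' _ _
  obtain ⟨s, hs⟩ := exists_split f g hfib hginj πW hW hW' πV hV hV' j hj R'
  have : Module.Projective R' (R' ⊗[R] W) := Module.Projective.of_split _ _ hs
  have hinj : Function.Injective ((Algebra.linearMap R B).baseChange R') :=
    Module.Flat.lTensor_preserves_injective_linearMap (Algebra.linearMap R B)
      ((injective_iff_map_eq_zero _).mpr hR)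
  have hex : Function.Exact (Algebra.linearMap R B) πW := fun b => hW' b
  have hex' := lTensor_exact R' hex hW
  exact LinearMap.lTensor_injective_of_exact_of_flat (πW.baseChange R')
    (LinearMap.lTensor_surjective R' hW) _ hinj hex' A'

include hginj hW hW' hV hV' hj in
/-- The fibre product is universal. -/
theorem exists_of_eq (A : Type u) [AddCommGroup A] [Module R A]
    (hjA : Function.Injective (j.lTensor A))
    (x : A ⊗[R] B) (y : A ⊗[R] C)
    (h : f.toLinearMap.lTensor A x = g.toLinearMap.lTensor A y) :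
    ∃ a : A, a ⊗ₜ[R] (1 : B) = x ∧ a ⊗ₜ[R] (1 : C) = y := by
  have hexV : Function.Exact g.toLinearMap πV := fun e => hV' e
  have hexW : Function.Exact (Algebra.linearMap R B) πW := fun b => hW' b
  have hexV' := lTensor_exact A hexV hV
  have hexW' := lTensor_exact A hexW hW
  have h1 : j ∘ₗ πW = πV ∘ₗ f.toLinearMap := LinearMap.ext hj
  have h2 : j.lTensor A (πW.lTensor A x) = 0 := by
    rw [← LinearMap.comp_apply, ← LinearMap.lTensor_comp, h1, LinearMap.lTensor_comp,
      LinearMap.comp_apply, h]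
    exact (hexV' _).mpr ⟨y, rfl⟩
  obtain ⟨z, hz⟩ := (hexW' x).mp ((injective_iff_map_eq_zero _).mp hjA _ h2)
  obtain ⟨a, rfl⟩ : ∃ a : A, a ⊗ₜ[R] (1 : R) = z :=
    ⟨TensorProduct.rid R A z, (TensorProduct.rid R A).injective (by
      rw [TensorProduct.rid_tmul, one_smul])⟩
  have hx : a ⊗ₜ[R] (1 : B) = x := by
    rw [← hz, LinearMap.lTensor_tmul]
    change _ = a ⊗ₜ[R] (algebraMap R B 1)
    rw [map_one]
  refine ⟨a, hx, ?_⟩
  apply LinearMap.lTensor_injective_of_exact_of_flat πV hV g.toLinearMap hginj hexV A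
  rw [← h, ← hx, LinearMap.lTensor_tmul, LinearMap.lTensor_tmul]
  change a ⊗ₜ[R] (g 1) = a ⊗ₜ[R] (f 1)
  rw [map_one, map_one]

include hfib hginj hV hV' in
/-- The fibre product `R = B ×_E C` is universal. -/
theorem bij (hR : ∀ r : R, algebraMap R B r = 0 → r = 0) (A : Type u) [CommRing A] [Algebra R A] :
    (∀ a : A, a ⊗ₜ[R] (1 : B) = 0 → a = 0) ∧
    ∀ (x : A ⊗[R] B) (y : A ⊗[R] C), Algebra.TensorProduct.map (AlgHom.id A A) f x =
      Algebra.TensorProduct.map (AlgHom.id A A) g y →
      ∃ a : A, a ⊗ₜ[R] (1 : B) = x ∧ a ⊗ₜ[R] (1 : C) = y := by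
  let NW : Submodule R B := LinearMap.range (Algebra.linearMap R B)
  have hle : NW ≤ LinearMap.ker (πV ∘ₗ f.toLinearMap) := by
    rintro _ ⟨r, rfl⟩
    change πV (f (algebraMap R B r)) = 0
    rw [hV']
    exact ⟨algebraMap R C r, by rw [f.commutes, g.commutes]⟩
  let j : (B ⧸ NW) →ₗ[R] V := NW.liftQ (πV ∘ₗ f.toLinearMap) hle
  have hW' : ∀ b, NW.mkQ b = 0 ↔ ∃ r : R, algebraMap R B r = b := by
    intro b
    rw [Submodule.mkQ_apply, Submodule.Quotient.mk_eq_zero]
    rfl
  have hj : ∀ b, j (NW.mkQ b) = πV (f b) := fun b => rfl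
  constructor
  · intro a ha
    have h1 := inj_B f g hfib hginj NW.mkQ NW.mkQ_surjective hW' πV hV hV' j hj hR A
    have h2 : (a ⊗ₜ[R] (1 : R) : A ⊗[R] R) = 0 := by
      apply (injective_iff_map_eq_zero _).mp h1
      rw [LinearMap.lTensor_tmul]
      change a ⊗ₜ[R] (algebraMap R B 1) = 0
      rw [map_one, ha]
    have h3 := congrArg (TensorProduct.rid R A) h2
    rwa [TensorProduct.rid_tmul, one_smul, map_zero] at h3
  · intro x y h
    exact exists_of_eq f g hginj NW.mkQ NW.mkQ_surjective hW' πV hV hV' j hj A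
      (inj_W f g hfib hginj NW.mkQ NW.mkQ_surjective hW' πV hV hV' j hj A) x y h

end K838.PurePB
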