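import Groth.Agent.Pinch.K838.RSConv
import Groth.Agent.Pinch.K838.FerrBC
import Groth.Agent.Pinch.K838.OverPull

/-!
# Base change of Ferrand squares of schemes over a base
-/

set_option autoImplicit false
universe u

open AlgebraicGeometry CategoryTheory CategoryTheory.Limits
open K838.Ferr

namespace K838.RSBC

variable {S X Z Z' X' : Scheme.{u}}
    (fX : X ⟶ S) (fZ' : Z' ⟶ S) (fX' : X' ⟶ S) (ι : Z ⟶ X) (q : Z ⟶ Z') (π : X ⟶ X') (ι' : Z' ⟶ X')
    (hq : q ≫ fZ' = ι ≫ fX) (hπ : π ≫ fX' = fX) (hι' : ι' ≫ fX' = fZ')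

include hq hπ hι' in
theorem isFerr_baseChange (h : IsFerr ι q π ι') [Flat (ι ≫ fX)] {T : Scheme.{u}} (g : T ⟶ S) :
    IsFerr
      ((Over.pullback g).map (Over.homMk ι rfl : Over.mk (ι ≫ fX) ⟶ Over.mk fX)).left
      ((Over.pullback g).map (Over.homMk q hq : Over.mk (ι ≫ fX) ⟶ Over.mk fZ')).left
      ((Over.pullback g).map (Over.homMk π hπ : Over.mk fX ⟶ Over.mk fX')).left
      ((Over.pullback g).map (Over.homMk ι' hι' : Over.mk fZ' ⟶ Over.mk fX')).left := by
  have := h.closed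
  have := h.affine_left
  have := h.affine_right
  have hW : IsPullback (pullback.fst fX' g) (pullback.snd fX' g) fX' g :=
    IsPullback.of_hasPullback _ _
  have hX := OverPull.isPullback_map g (Over.homMk π hπ : Over.mk fX ⟶ Over.mk fX')
  have hY := OverPull.isPullback_map g (Over.homMk ι' hι' : Over.mk fZ' ⟶ Over.mk fX')
  have hZ := OverPull.isPullback_map g (Over.homMk ι rfl : Over.mk (ι ≫ fX) ⟶ Over.mk fX)
  have hj := OverPull.fst_map g (Over.homMk q hq : Over.mk (ι ≫ fX) ⟶ Over.mk fZ')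
  have hw : ((Over.pullback g).map (Over.homMk ι rfl : Over.mk (ι ≫ fX) ⟶ Over.mk fX)).left ≫
      ((Over.pullback g).map (Over.homMk π hπ : Over.mk fX ⟶ Over.mk fX')).left =
      ((Over.pullback g).map (Over.homMk q hq : Over.mk (ι ≫ fX) ⟶ Over.mk fZ')).left ≫
      ((Over.pullback g).map (Over.homMk ι' hι' : Over.mk fZ' ⟶ Over.mk fX')).left := by
    rw [← Over.comp_left, ← Over.comp_left, ← Functor.map_comp, ← Functor.map_comp]
    congr 2
    ext1
    exact h.w
  have : Flat (ι ≫ π ≫ fX') := by rwa [hπ]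
  have h1 : IsClosedImmersion
      ((Over.pullback g).map (Over.homMk ι rfl : Over.mk (ι ≫ fX) ⟶ Over.mk fX)).left :=
    MorphismProperty.of_isPullback (P := @IsClosedImmersion) hZ ‹_›
  have h2 : IsAffineHom ((Over.pullback g).map (Over.homMk π hπ : Over.mk fX ⟶ Over.mk fX')).left :=
    MorphismProperty.of_isPullback (P := @IsAffineHom) hX ‹_›
  have h3 : IsAffineHom
      ((Over.pullback g).map (Over.homMk ι' hι' : Over.mk fZ' ⟶ Over.mk fX')).left :=
    MorphismProperty.of_isPullback (P := @IsAffineHom) hY ‹_›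
  exact isFerr_of_isPushout (FerrBC.isPushout_baseChange_of_flat h hW hX hY hZ hj hw)

end K838.RSBC
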