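import Mathlib.Topology.Category.TopCat.Limits.Basic
import Mathlib.CategoryTheory.Limits.Shapes.Pullback.IsPullback.Basic

set_option autoImplicit false
universe u

open CategoryTheory CategoryTheory.Limits TopologicalSpace Opposite

namespace K838.TopPush

theorem isPushout {X Y Z W : TopCat.{u}} {i : Z ⟶ X} {j : Z ⟶ Y} {a : X ⟶ W} {b : Y ⟶ W}
    (w : i ≫ a = j ≫ b) (S : ∀ w : W, (∃ x, a x = w) ∨ ∃ y, b y = w)
    (E1 : ∀ y y', b y = b y' → y = y') (E2 : ∀ x y, a x = b y → ∃ z, i z = x ∧ j z = y)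
    (E3 : ∀ x x', a x = a x' → x = x' ∨ ∃ y, b y = a x)
    (Q : ∀ O : Set W, IsOpen (a ⁻¹' O) → IsOpen (b ⁻¹' O) → IsOpen O) :
    IsPushout i j a b := by
  classical
  have w' : ∀ z, a (i z) = b (j z) := fun z => by
    rw [← TopCat.comp_app, w, TopCat.comp_app]
  have key : ∀ (T : TopCat.{u}) (f : X ⟶ T) (g : Y ⟶ T), i ≫ f = j ≫ g → 
      ∃ φ : W ⟶ T, a ≫ φ = f ∧ b ≫ φ = g := by
    intro T f g hfg
    have hfg' : ∀ z, f (i z) = g (j z) := fun z => by
      rw [← TopCat.comp_app, hfg, TopCat.comp_app]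
    have : ∀ w : W, ∃ t : T, (∀ x, a x = w → f x = t) ∧ (∀ y, b y = w → g y = t) := by
      intro w
      rcases S w with ⟨x, rfl⟩ | ⟨y, rfl⟩
      · refine ⟨f x, fun x' hx' => ?_, fun y hy => ?_⟩
        · rcases E3 x x' hx'.symm with rfl | ⟨y, hy⟩
          · rfl
          · obtain ⟨z, rfl, rfl⟩ := E2 x y hy.symm
            obtain ⟨z', rfl, hz'⟩ := E2 x' (j z) (hx'.trans hy.symm)
            rw [hfg', hfg', hz']
        · obtain ⟨z, rfl, rfl⟩ := E2 x y hy.symm
          rw [hfg']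
      · refine ⟨g y, fun x' hx' => ?_, fun y' hy' => ?_⟩
        · obtain ⟨z, rfl, rfl⟩ := E2 x' y hx'
          rw [hfg']
        · rw [E1 _ _ hy']
    choose φ h1 h2 using this
    have h1' : ∀ x, φ (a x) = f x := fun x => (h1 _ _ rfl).symm
    have h2' : ∀ y, φ (b y) = g y := fun y => (h2 _ _ rfl).symm
    refine ⟨TopCat.ofHom ⟨φ, ?_⟩, ?_, ?_⟩
    · refine ⟨fun O hO => Q _ ?_ ?_⟩
      · have : a ⁻¹' (φ ⁻¹' O) = f ⁻¹' O := by
          ext x
          simp [h1']
        rw [this]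
        exact hO.preimage f.hom.continuous
      · have : b ⁻¹' (φ ⁻¹' O) = g ⁻¹' O := by
          ext x
          simp [h2']
        rw [this]
        exact hO.preimage g.hom.continuous
    · ext x
      exact h1' x
    · ext x
      exact h2' x
  refine ⟨⟨w⟩, ⟨PushoutCocone.IsColimit.mk w 
    (fun s => (key s.pt s.inl s.inr s.condition).choose)
    (fun s => (key s.pt s.inl s.inr s.condition).choose_spec.1)
    (fun s => (key s.pt s.inl s.inr s.condition).choose_spec.2) ?_⟩⟩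
  intro s m h1 h2
  have k1 := (key s.pt s.inl s.inr s.condition).choose_spec.1
  have k2 := (key s.pt s.inl s.inr s.condition).choose_spec.2
  ext w
  rcases S w with ⟨x, rfl⟩ | ⟨y, rfl⟩
  · rw [← TopCat.comp_app, ← TopCat.comp_app, h1, k1]
  · rw [← TopCat.comp_app, ← TopCat.comp_app, h2, k2]

end K838.TopPush
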