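import Groth.Agent.Pinch.K838.RSPush
import Groth.Agent.Pinch.K838.TopPush
import Groth.Agent.FlatB.PushPair
import Mathlib.AlgebraicGeometry.PullbackCarrier

set_option autoImplicit false
universe u

open AlgebraicGeometry CategoryTheory CategoryTheory.Limits TopologicalSpace Opposite
open Groth.Agent.FlatB.PushRing Groth.Agent.FlatB.PushPair
open K838.Ferr

/-!
# Ferrand squares are pushouts of ringed spaces
-/

namespace K838.RSConv

variable {X Y Z W : Scheme.{u}} {i : Z ⟶ X} {j : Z ⟶ Y} {a : X ⟶ W} {b : Y ⟶ W}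

/-- A Ferrand square is a pushout of schemes. -/
theorem _root_.K838.Ferr.IsFerr.isPushout (h : IsFerr i j a b) : IsPushout i j a b := by
  have := h.closed
  have := h.affine_left
  have := h.affine_right
  refine isPushout_of_cover h.w fun x => ?_
  obtain ⟨O, hO, hx, -⟩ := exists_isAffineOpen_mem_and_subset (U := ⊤) (x := x) trivial
  exact ⟨O, hx, hO, h.sec O⟩

/-- The adapted pair attached to an affine open of the corner. -/
def pair (h : IsFerr i j a b) {O : W.Opens} (hO : IsAffineOpen O) : Pair i j where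
  U := a ⁻¹ᵁ O
  V := b ⁻¹ᵁ O
  W := i ⁻¹ᵁ a ⁻¹ᵁ O
  hU := by
    have := h.affine_left
    exact hO.preimage a
  hV := by
    have := h.affine_right
    exact hO.preimage b
  hWU := rfl
  hWV := (preimage_eq h.w O).symm

theorem exists_section (h : IsFerr i j a b) {O : W.Opens} (hO : IsAffineOpen O)
    (c : (pair h hO).R) : ∃ r : Γ(W, O), a.app O r = c.1.1 ∧ b.app O r = c.1.2 := by
  refine ((secSq_iff h.w O).mp (h.sec O)).1 c.1.1 c.1.2 ?_
  have := eqL_prop c
  rw [Scheme.Hom.app_eq_appLE]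
  exact this

theorem isPushout_base (h : IsFerr i j a b) :
    IsPushout (RSPush.RS.map i).hom.base (RSPush.RS.map j).hom.base (RSPush.RS.map a).hom.base
      (RSPush.RS.map b).hom.base := by
  have hcl := h.closed
  have haff := h.affine_left
  have haff' := h.affine_right
  obtain ⟨-, hpb, hb, -, hsurj, -⟩ := props_of_isPushout (Adapted.of_affine h.w) h.isPushout
  have E2 : ∀ (x : X) (y : Y), a x = b y → ∃ z, i z = x ∧ j z = y := by
    intro x y hxy
    obtain ⟨z, h1, h2⟩ := Scheme.Pullback.exists_preimage_pullback (f := a) (g := b) x y hxy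
    refine ⟨hpb.isoPullback.inv z, ?_, ?_⟩
    · rw [← Scheme.Hom.comp_apply, hpb.isoPullback_inv_fst, h1]
    · rw [← Scheme.Hom.comp_apply, hpb.isoPullback_inv_snd, h2]
  have hw : ∀ z : Z, a (i z) = b (j z) := fun z => by
    rw [← Scheme.Hom.comp_apply, h.w, Scheme.Hom.comp_apply]
  have aux : ∀ (x x' : X), a x = a x' → (¬ ∃ y, b y = a x) → ∀ U1 : X.Opens, x ∈ U1 →
      x' ∈ U1 := by
    intro x x' hxx' hno U1 hxU1
    obtain ⟨O, hO, hx, -⟩ := exists_isAffineOpen_mem_and_subset (U := ⊤) (x := a x) trivial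
    let Z' : X.Opens := ⟨(Set.range i)ᶜ, i.isClosedEmbedding.isClosed_range.isOpen_compl⟩
    have hxZ : x ∈ Z' := by
      rintro ⟨z, rfl⟩
      exact hno ⟨j z, (hw z).symm⟩
    obtain ⟨c, hc1, hc2, hc3⟩ := (pair h hO).exists_basic_left (U1 ⊓ Z') ⊥ (by
      ext z
      constructor
      · intro hz
        exact absurd ⟨z, rfl⟩ hz.2
      · intro hz
        exact hz.elim) x ⟨hxU1, hxZ⟩ hx
    obtain ⟨r, hr1, hr2⟩ := exists_section h hO c
    have h1 : x ∈ a ⁻¹ᵁ W.basicOpen r := by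
      rw [Scheme.preimage_basicOpen, hr1]
      exact hc1
    have h2 : x' ∈ a ⁻¹ᵁ W.basicOpen r := by
      change a x' ∈ W.basicOpen r
      rw [← hxx']
      exact h1
    rw [Scheme.preimage_basicOpen, hr1] at h2
    exact (hc2 h2).1
  have E3 : ∀ x x' : X, a x = a x' → x = x' ∨ ∃ y, b y = a x := by
    intro x x' hxx'
    by_cases hy : ∃ y, b y = a x
    · exact Or.inr hy
    · left
      have hy' : ¬ ∃ y, b y = a x' := by rwa [← hxx']
      refine Inseparable.eq ?_
      rw [inseparable_iff_forall_isOpen]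
      intro s hs
      exact ⟨aux x x' hxx' hy ⟨s, hs⟩, aux x' x hxx'.symm hy' ⟨s, hs⟩⟩
  have Q : ∀ O : Set W, IsOpen (a ⁻¹' O) → IsOpen (b ⁻¹' O) → IsOpen O := by
    intro O h1 h2
    rw [isOpen_iff_forall_mem_open]
    intro w hwO
    obtain ⟨O1, hO1, hw1, -⟩ := exists_isAffineOpen_mem_and_subset (U := ⊤) (x := w) trivial
    let U' : X.Opens := ⟨a ⁻¹' O, h1⟩
    let V' : Y.Opens := ⟨b ⁻¹' O, h2⟩
    have hUV : i ⁻¹ᵁ U' = j ⁻¹ᵁ V' := by
      ext z
      change a (i z) ∈ O ↔ b (j z) ∈ O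
      rw [hw]
    have : ∃ c : (pair h hO1).R, ∀ r : Γ(W, O1), a.app O1 r = c.1.1 → b.app O1 r = c.1.2 →
        w ∈ W.basicOpen r ∧ X.basicOpen c.1.1 ≤ U' ∧ Y.basicOpen c.1.2 ≤ V' := by
      rcases hsurj w with ⟨x, rfl⟩ | ⟨y, rfl⟩
      · obtain ⟨c, hc1, hc2, hc3⟩ := (pair h hO1).exists_basic_left U' V' hUV x hwO hw1
        refine ⟨c, fun r hr1 hr2 => ⟨?_, hc2, hc3⟩⟩
        change x ∈ a ⁻¹ᵁ W.basicOpen r
        rw [Scheme.preimage_basicOpen, hr1]
        exact hc1
      · obtain ⟨c, hc1, hc2, hc3⟩ := (pair h hO1).exists_basic_right U' V' hUV y hwO hw1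
        refine ⟨c, fun r hr1 hr2 => ⟨?_, hc2, hc3⟩⟩
        change y ∈ b ⁻¹ᵁ W.basicOpen r
        rw [Scheme.preimage_basicOpen, hr2]
        exact hc1
    obtain ⟨c, hc⟩ := this
    obtain ⟨r, hr1, hr2⟩ := exists_section h hO1 c
    obtain ⟨hc1, hc2, hc3⟩ := hc r hr1 hr2
    refine ⟨W.basicOpen r, ?_, (W.basicOpen r).2, hc1⟩
    have e1 : a ⁻¹ᵁ W.basicOpen r = X.basicOpen (a.app O1 r) := Scheme.preimage_basicOpen _ _
    have e2 : b ⁻¹ᵁ W.basicOpen r = Y.basicOpen (b.app O1 r) := Scheme.preimage_basicOpen _ _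
    have hc2' : a ⁻¹ᵁ W.basicOpen r ≤ U' := by rw [e1, hr1]; exact hc2
    have hc3' : b ⁻¹ᵁ W.basicOpen r ≤ V' := by rw [e2, hr2]; exact hc3
    intro w' hw'
    rcases hsurj w' with ⟨x, rfl⟩ | ⟨y, rfl⟩
    · exact hc2' hw'
    · exact hc3' hw'
  refine TopPush.isPushout ?_ hsurj (fun y y' hyy' => b.isClosedEmbedding.injective hyy') E2 E3 Q
  ext z
  exact hw z

theorem isIso_c_app {P : SheafedSpace.{_, _, u} CommRingCat.{u}} {X' Y' Z' W' : 
    SheafedSpace.{_, _, u} CommRingCat.{u}} {i : Z' ⟶ X'} {j : Z' ⟶ Y'} {l : X' ⟶ P} {r : Y' ⟶ P}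
    (hP : IsPushout i j l r) (φ : P ⟶ W') (O : Opens W')
    (h : RSPush.PSq i.hom j.hom (l ≫ φ).hom (r ≫ φ).hom O) : IsIso (φ.hom.c.app (op O)) := by
  obtain ⟨k, H⟩ := h
  obtain ⟨k', H'⟩ := RSPush.psq_of_isPushout_sheafed hP ((Opens.map φ.hom.base).obj O)
  have hk : k = k' := Subsingleton.elim _ _
  subst hk
  exact isIso_of_isPullback_comp H' (φ.hom.c.app (op O)) H

theorem isPushout_RS (h : IsFerr i j a b) : IsPushout (RSPush.RS.map i) (RSPush.RS.map j)
    (RSPush.RS.map a) (RSPush.RS.map b) := by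
  have w : RSPush.RS.map i ≫ RSPush.RS.map a = RSPush.RS.map j ≫ RSPush.RS.map b := by
    rw [← Functor.map_comp, ← Functor.map_comp, h.w]
  have hP := IsPushout.of_hasPushout (RSPush.RS.map i) (RSPush.RS.map j)
  let φ := pushout.desc _ _ w
  have e1 : pushout.inl _ _ ≫ φ = RSPush.RS.map a := pushout.inl_desc _ _ _
  have e2 : pushout.inr _ _ ≫ φ = RSPush.RS.map b := pushout.inr_desc _ _ _
  have hW := isPushout_base h
  have hP' := hP.map (SheafedSpace.forget CommRingCat.{u})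
  have hbase : IsIso φ.hom.base := by
    have : φ.hom.base = (hP'.isoIsPushout _ _ hW).hom := by
      apply hP'.hom_ext
      · rw [IsPushout.inl_isoIsPushout_hom]
        exact congrArg (fun t => PresheafedSpace.Hom.base (InducedCategory.Hom.hom t)) e1
      · rw [IsPushout.inr_isoIsPushout_hom]
        exact congrArg (fun t => PresheafedSpace.Hom.base (InducedCategory.Hom.hom t)) e2
    rw [this]
    infer_instance
  have hc : ∀ O, IsIso (φ.hom.c.app O) := by
    rintro ⟨O⟩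
    refine isIso_c_app hP φ O ?_
    rw [e1, e2]
    obtain ⟨k, H⟩ := h.sec O
    exact ⟨homOfLE k, H⟩
  have hc' : IsIso φ.hom.c := NatIso.isIso_of_isIso_app _
  have hφ : IsIso φ.hom := PresheafedSpace.isIso_of_components _
  have hφ' : IsIso φ := by
    have : IsIso (SheafedSpace.forgetToPresheafedSpace.map φ) := hφ
    exact isIso_of_reflects_iso φ SheafedSpace.forgetToPresheafedSpace
  exact IsPushout.of_iso hP (Iso.refl _) (Iso.refl _) (Iso.refl _) (asIso φ) (by simp) (by simp)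
    (by rw [Iso.refl_hom, Category.id_comp, ← e1]; rfl)
    (by rw [Iso.refl_hom, Category.id_comp, ← e2]; rfl)

end K838.RSConv
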