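import Mathlib.Geometry.RingedSpace.PresheafedSpace.HasColimits
import Mathlib.Geometry.RingedSpace.LocallyRingedSpace.HasColimits
import Mathlib.AlgebraicGeometry.Scheme
import Groth.Agent.Pinch.K838.Ferr

set_option autoImplicit false
universe u

open AlgebraicGeometry CategoryTheory CategoryTheory.Limits TopologicalSpace Opposite

/-!
# Ferrand squares and pushouts of ringed spaces
-/

namespace K838.RSPush

/-- The square of sections over an open set of the corner is a fibre square. -/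
def PSq {X Y Z W : PresheafedSpace.{_, _, u} CommRingCat.{u}} (i : Z ⟶ X) (j : Z ⟶ Y) (a : X ⟶ W)
    (b : Y ⟶ W) (O : Opens W) : Prop :=
  ∃ h : (Opens.map i.base).obj ((Opens.map a.base).obj O) ⟶
      (Opens.map j.base).obj ((Opens.map b.base).obj O),
    IsPullback (a.c.app (op O)) (b.c.app (op O)) (i.c.app (op ((Opens.map a.base).obj O)))
      (j.c.app (op ((Opens.map b.base).obj O)) ≫ Z.presheaf.map h.op)

theorem pre_eq {X Y Z W : PresheafedSpace.{_, _, u} CommRingCat.{u}} {i : Z ⟶ X} {j : Z ⟶ Y}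
    {a : X ⟶ W} {b : Y ⟶ W} (w : i ≫ a = j ≫ b) (O : Opens W) :
    (Opens.map i.base).obj ((Opens.map a.base).obj O) =
      (Opens.map j.base).obj ((Opens.map b.base).obj O) := by
  have := congrArg PresheafedSpace.Hom.base w
  rw [PresheafedSpace.comp_base, PresheafedSpace.comp_base] at this
  rw [← Opens.map_comp_obj, ← Opens.map_comp_obj, this]

theorem transport {P P' X Y Z Z' : CommRingCat.{u}} {fst : P ⟶ X} {snd : P ⟶ Y} {f : X ⟶ Z}
    {g : Y ⟶ Z} (H : IsPullback fst snd f g) (e : P' ⟶ P) [IsIso e] (z : Z ≅ Z')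
    {fst' : P' ⟶ X} {snd' : P' ⟶ Y} {f' : X ⟶ Z'} {g' : Y ⟶ Z'} (h1 : e ≫ fst = fst')
    (h2 : e ≫ snd = snd') (h3 : f ≫ z.hom = f') (h4 : g ≫ z.hom = g') : IsPullback fst' snd' f' g' := by
  subst h1 h2 h3 h4
  exact IsPullback.of_iso H (asIso e).symm (Iso.refl _) (Iso.refl _) z (by simp) (by simp)
    (by simp) (by simp)

theorem isPullback_of_isLimit {G : WalkingSpanᵒᵖ ⥤ CommRingCat.{u}} {c : Cone G} (hc : IsLimit c) :
    IsPullback (c.π.app (op WalkingSpan.left)) (c.π.app (op WalkingSpan.right))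
      (G.map WalkingSpan.Hom.fst.op) (G.map WalkingSpan.Hom.snd.op) :=
  IsPullback.of_isLimit_cone (IsLimit.whiskerEquivalence hc walkingSpanOpEquiv.symm)

theorem psq_colimit {X Y Z : PresheafedSpace.{_, _, u} CommRingCat.{u}} (i : Z ⟶ X) (j : Z ⟶ Y)
    (O : Opens (pushout i j : PresheafedSpace.{_, _, u} CommRingCat.{u})) :
    PSq i j (pushout.inl i j) (pushout.inr i j) O := by
  have hw := (pushout.condition (f := i) (g := j))
  have e := pre_eq hw O
  refine ⟨eqToHom e, ?_⟩
  have key := isPullback_of_isLimit (limit.isLimit (PresheafedSpace.componentwiseDiagram (span i j) O))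
  have e0 : (Opens.map i.base).obj ((Opens.map (pushout.inl i j).base).obj O) = 
      (Opens.map (colimit.ι (span i j) WalkingSpan.zero).base).obj O := by
    have := congrArg PresheafedSpace.Hom.base (colimit.w (span i j) WalkingSpan.Hom.fst)
    rw [PresheafedSpace.comp_base] at this
    rw [← Opens.map_comp_obj, ← this]
    rfl
  refine transport key (PresheafedSpace.colimitPresheafObjIsoComponentwiseLimit (span i j) O).hom
    (Z.presheaf.mapIso (eqToIso (congrArg op e0.symm))) ?_ ?_ ?_ ?_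
  · exact PresheafedSpace.colimitPresheafObjIsoComponentwiseLimit_hom_π (span i j) O
      WalkingSpan.left
  · exact PresheafedSpace.colimitPresheafObjIsoComponentwiseLimit_hom_π (span i j) O
      WalkingSpan.right
  · refine (Category.assoc _ _ _).trans ?_
    refine (congrArg (fun t => i.c.app _ ≫ t) (?_ : _ = 𝟙 _)).trans (Category.comp_id _)
    refine (Z.presheaf.map_comp _ _).symm.trans ?_
    exact Z.presheaf.map_id _
  · refine (Category.assoc _ _ _).trans ?_
    refine congrArg (fun t => j.c.app _ ≫ t) ?_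
    exact (Z.presheaf.map_comp _ _).symm

theorem PSq.comp_iso {X Y Z W W' : PresheafedSpace.{_, _, u} CommRingCat.{u}} {i : Z ⟶ X}
    {j : Z ⟶ Y} {a : X ⟶ W} {b : Y ⟶ W} (e : W ≅ W') {O : Opens W'}
    (h : PSq i j a b ((Opens.map e.hom.base).obj O)) : PSq i j (a ≫ e.hom) (b ≫ e.hom) O := by
  obtain ⟨k, H⟩ := h
  have : IsIso (e.hom.c.app (op O)) :=
    @NatIso.isIso_app_of_isIso _ _ _ _ _ _ e.hom.c (PresheafedSpace.c_isIso_of_iso e.hom) _
  exact ⟨k, transport H (e.hom.c.app (op O)) (Iso.refl _) rfl rfl (Category.comp_id _)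
    (Category.comp_id _)⟩

theorem psq_of_isPushout {X Y Z W : PresheafedSpace.{_, _, u} CommRingCat.{u}} {i : Z ⟶ X}
    {j : Z ⟶ Y} {a : X ⟶ W} {b : Y ⟶ W} (h : IsPushout i j a b) (O : Opens W) :
    PSq i j a b O := by
  let e : pushout i j ≅ W := (IsPushout.of_hasPushout i j).isoIsPushout _ _ h
  have ea : pushout.inl i j ≫ e.hom = a := (IsPushout.of_hasPushout i j).inl_isoIsPushout_hom _ _ h
  have eb : pushout.inr i j ≫ e.hom = b := (IsPushout.of_hasPushout i j).inr_isoIsPushout_hom _ _ h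
  rw [← ea, ← eb]
  exact PSq.comp_iso e (psq_colimit i j _)

theorem psq_of_isPushout_sheafed {X Y Z W : SheafedSpace.{_, _, u} CommRingCat.{u}} {i : Z ⟶ X}
    {j : Z ⟶ Y} {a : X ⟶ W} {b : Y ⟶ W} (h : IsPushout i j a b) (O : Opens W) :
    PSq i.hom j.hom a.hom b.hom O := 
  psq_of_isPushout (h.map SheafedSpace.forgetToPresheafedSpace) O

/-- The functor from schemes to ringed spaces. -/
abbrev RS : Scheme.{u} ⥤ SheafedSpace.{_, _, u} CommRingCat.{u} :=
  Scheme.forgetToLocallyRingedSpace ⋙ LocallyRingedSpace.forgetToSheafedSpace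

theorem secSq_of_isPushout {X Y Z W : Scheme.{u}} {i : Z ⟶ X}
    {j : Z ⟶ Y} {a : X ⟶ W} {b : Y ⟶ W} (h : IsPushout (RS.map i) (RS.map j) (RS.map a) (RS.map b))
    (O : W.Opens) : K838.Ferr.SecSq i j a b O := by
  obtain ⟨k, H⟩ := psq_of_isPushout_sheafed h O
  exact ⟨leOfHom k, H⟩

theorem w_of_RS {X Y Z W : Scheme.{u}} {i : Z ⟶ X}
    {j : Z ⟶ Y} {a : X ⟶ W} {b : Y ⟶ W} (h : RS.map i ≫ RS.map a = RS.map j ≫ RS.map b) :
    i ≫ a = j ≫ b := by
  rw [← Functor.map_comp, ← Functor.map_comp] at h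
  exact RS.map_injective h

theorem isFerr_of_isPushout_RS {X Y Z W : Scheme.{u}} {i : Z ⟶ X}
    {j : Z ⟶ Y} {a : X ⟶ W} {b : Y ⟶ W} [IsClosedImmersion i] [IsAffineHom a] [IsAffineHom b]
    (h : IsPushout (RS.map i) (RS.map j) (RS.map a) (RS.map b)) : K838.Ferr.IsFerr i j a b where
  closed := inferInstance
  affine_left := inferInstance
  affine_right := inferInstance
  w := w_of_RS h.w
  sec := secSq_of_isPushout h

end K838.RSPush
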