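import Mathlib.RingTheory.Flat.Equalizer
import Mathlib.LinearAlgebra.TensorProduct.Prod

/-!
# Fibre squares of modules and tensor products
-/

set_option autoImplicit false
universe u v

open TensorProduct

namespace K838.RingSq

/-- The kernel of a surjection of flat modules is flat. -/
theorem flat_of_exact {R : Type u} [CommRing R] {M N P : Type v} [AddCommGroup M] [Module R M]
    [AddCommGroup N] [Module R N] [AddCommGroup P] [Module R P] [Module.Flat R N] [Module.Flat R P]
    (g : M →ₗ[R] N) (f : N →ₗ[R] P) (hf : Function.Surjective f) (hg : Function.Injective g)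
    (H : Function.Exact g f) : Module.Flat R M := by
  rw [Module.Flat.iff_rTensor_preserves_injective_linearMap]
  intro A B _ _ _ _ i hi
  have h1 := LinearMap.lTensor_injective_of_exact_of_flat f hf g hg H A
  have h2 := Module.Flat.rTensor_preserves_injective_linearMap (M := N) i hi
  have h3 : (g.lTensor B) ∘ₗ (i.rTensor M) = (i.rTensor N) ∘ₗ (g.lTensor A) := by
    rw [LinearMap.lTensor_comp_rTensor, LinearMap.rTensor_comp_lTensor]
  have h4 : Function.Injective ((g.lTensor B) ∘ₗ (i.rTensor M)) := by
    rw [h3]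
    exact h2.comp h1
  exact Function.Injective.of_comp (f := g.lTensor B) h4

theorem flat_prod {R : Type u} [CommRing R] {A B : Type v} [AddCommGroup A] [Module R A]
    [AddCommGroup B] [Module R B]
    [Module.Flat R A] [Module.Flat R B] : Module.Flat R (A × B) := by
  rw [Module.Flat.iff_rTensor_preserves_injective_linearMap]
  intro N P _ _ _ _ f hf
  have h1 : (TensorProduct.prodRight R R P A B).toLinearMap ∘ₗ (f.rTensor (A × B)) =
      ((f.rTensor A).prodMap (f.rTensor B)) ∘ₗ (TensorProduct.prodRight R R N A B).toLinearMap := by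
    apply TensorProduct.ext'
    intro x y
    rfl
  have h2 : Function.Injective
      ((TensorProduct.prodRight R R P A B).toLinearMap ∘ₗ (f.rTensor (A × B))) := by
    rw [h1]
    have h3 : Function.Injective ((f.rTensor A).prodMap (f.rTensor B)) :=
      Prod.map_injective.mpr ⟨Module.Flat.rTensor_preserves_injective_linearMap f hf,
        Module.Flat.rTensor_preserves_injective_linearMap f hf⟩
    exact h3.comp (TensorProduct.prodRight R R N A B).injective
  exact Function.Injective.of_comp (f := (TensorProduct.prodRight R R P A B)) h2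

section

variable {R : Type*} [CommRing R] {E M N Q : Type*} [AddCommGroup E] [Module R E]
  [AddCommGroup M] [Module R M] [AddCommGroup N] [Module R N] [AddCommGroup Q] [Module R Q]
  (e₁ : E →ₗ[R] M) (e₂ : E →ₗ[R] N) (f : M →ₗ[R] Q) (g : N →ₗ[R] Q)

/-- A fibre square of modules. -/
structure IsFib : Prop where
  w : f ∘ₗ e₁ = g ∘ₗ e₂
  lift : ∀ m n, f m = g n → ∃ e, e₁ e = m ∧ e₂ e = n
  ext : ∀ e, e₁ e = 0 → e₂ e = 0 → e = 0

variable {e₁ e₂ f g}

theorem IsFib.exact (h : IsFib e₁ e₂ f g) : Function.Exact (e₁.prod e₂) (f.coprod (-g)) := by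
  intro x
  constructor
  · intro hx
    obtain ⟨m, n⟩ := x
    have : f m = g n := by
      rw [LinearMap.coprod_apply, LinearMap.neg_apply, ← sub_eq_add_neg, sub_eq_zero] at hx
      exact hx
    obtain ⟨e, h1, h2⟩ := h.lift m n this
    exact ⟨e, by rw [LinearMap.prod_apply, Function.prod, h1, h2]⟩
  · rintro ⟨e, rfl⟩
    rw [LinearMap.prod_apply, LinearMap.coprod_apply]
    have := LinearMap.congr_fun h.w e
    simp only [LinearMap.comp_apply] at this
    simp only [Function.prod, LinearMap.neg_apply, this, add_neg_cancel]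

theorem IsFib.injective (h : IsFib e₁ e₂ f g) : Function.Injective (e₁.prod e₂) := by
  rw [injective_iff_map_eq_zero]
  intro e he
  rw [LinearMap.prod_apply, Function.prod, Prod.mk_eq_zero] at he
  exact h.ext e he.1 he.2

theorem IsFib.of_exact (hex : Function.Exact (e₁.prod e₂) (f.coprod (-g)))
    (hinj : Function.Injective (e₁.prod e₂)) : IsFib e₁ e₂ f g where
  w := by
    ext e
    have : (f.coprod (-g)) (e₁.prod e₂ e) = 0 := (hex _).mpr ⟨e, rfl⟩
    rw [LinearMap.prod_apply, LinearMap.coprod_apply] at this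
    simp only [Function.prod, LinearMap.neg_apply, ← sub_eq_add_neg, sub_eq_zero] at this
    exact this
  lift m n hmn := by
    obtain ⟨e, he⟩ := (hex (m, n)).mp (by
      rw [LinearMap.coprod_apply]
      simp only [LinearMap.neg_apply, hmn, add_neg_cancel])
    exact ⟨e, congrArg Prod.fst he, congrArg Prod.snd he⟩
  ext e h1 h2 := hinj (by rw [map_zero]; exact Prod.ext h1 h2)

theorem coprod_surjective (hg : Function.Surjective g) :
    Function.Surjective (f.coprod (-g)) := by
  intro q
  obtain ⟨n, hn⟩ := hg (-q)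
  refine ⟨(0, n), ?_⟩
  rw [LinearMap.coprod_apply]
  simp [hn]

/-- A fibre square with one edge surjective whose short exact sequence is universally injective stays
a fibre square after tensoring. -/
theorem IsFib.lTensor_of_injective (h : IsFib e₁ e₂ f g) (hg : Function.Surjective g)
    (K : Type*) [AddCommGroup K] [Module R K]
    (hinj : Function.Injective ((e₁.prod e₂).lTensor K)) :
    IsFib (e₁.lTensor K) (e₂.lTensor K) (f.lTensor K) (g.lTensor K) := by
  have hex := lTensor_exact K h.exact (coprod_surjective hg)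
  let I₁ : M →ₗ[R] M × N := LinearMap.inl R M N
  let I₂ : N →ₗ[R] M × N := LinearMap.inr R M N
  let P₁ : M × N →ₗ[R] M := LinearMap.fst R M N
  let P₂ : M × N →ₗ[R] N := LinearMap.snd R M N
  have c1 : ∀ x, (f.coprod (-g)).lTensor K (I₁.lTensor K x) = f.lTensor K x := fun x => by
    rw [← LinearMap.comp_apply, ← LinearMap.lTensor_comp, LinearMap.coprod_inl]
  have c2 : ∀ x, (f.coprod (-g)).lTensor K (I₂.lTensor K x) = - g.lTensor K x := fun x => by
    rw [← LinearMap.comp_apply, ← LinearMap.lTensor_comp, LinearMap.coprod_inr,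
      LinearMap.lTensor_neg, LinearMap.neg_apply]
  have d1 : ∀ z, P₁.lTensor K ((e₁.prod e₂).lTensor K z) = e₁.lTensor K z := fun z => by
    rw [← LinearMap.comp_apply, ← LinearMap.lTensor_comp, LinearMap.fst_prod]
  have d2 : ∀ z, P₂.lTensor K ((e₁.prod e₂).lTensor K z) = e₂.lTensor K z := fun z => by
    rw [← LinearMap.comp_apply, ← LinearMap.lTensor_comp, LinearMap.snd_prod]
  have p11 : ∀ x, P₁.lTensor K (I₁.lTensor K x) = x := fun x => by
    rw [← LinearMap.comp_apply, ← LinearMap.lTensor_comp, LinearMap.fst_comp_inl,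
      LinearMap.lTensor_id, LinearMap.id_apply]
  have p12 : ∀ x, P₁.lTensor K (I₂.lTensor K x) = 0 := fun x => by
    rw [← LinearMap.comp_apply, ← LinearMap.lTensor_comp, LinearMap.fst_comp_inr,
      LinearMap.lTensor_zero, LinearMap.zero_apply]
  have p21 : ∀ x, P₂.lTensor K (I₁.lTensor K x) = 0 := fun x => by
    rw [← LinearMap.comp_apply, ← LinearMap.lTensor_comp, LinearMap.snd_comp_inl,
      LinearMap.lTensor_zero, LinearMap.zero_apply]
  have p22 : ∀ x, P₂.lTensor K (I₂.lTensor K x) = x := fun x => by
    rw [← LinearMap.comp_apply, ← LinearMap.lTensor_comp, LinearMap.snd_comp_inr,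
      LinearMap.lTensor_id, LinearMap.id_apply]
  have hsum : ∀ w : K ⊗[R] (M × N), I₁.lTensor K (P₁.lTensor K w) +
      I₂.lTensor K (P₂.lTensor K w) = w := fun w => by
    rw [← LinearMap.comp_apply, ← LinearMap.lTensor_comp, ← LinearMap.comp_apply,
      ← LinearMap.lTensor_comp, ← LinearMap.add_apply, ← LinearMap.lTensor_add]
    have : I₁ ∘ₗ P₁ + I₂ ∘ₗ P₂ = LinearMap.id := by
      apply LinearMap.ext
      rintro ⟨m, n⟩
      simp [I₁, I₂, P₁, P₂]
    rw [this, LinearMap.lTensor_id, LinearMap.id_apply]
  refine ⟨?_, ?_, ?_⟩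
  · rw [← LinearMap.lTensor_comp, ← LinearMap.lTensor_comp, h.w]
  · intro x y hxy
    obtain ⟨z, hz⟩ := (hex (I₁.lTensor K x + I₂.lTensor K y)).mp (by
      rw [map_add, c1, c2, hxy, add_neg_cancel])
    refine ⟨z, ?_, ?_⟩
    · rw [← d1, hz, map_add, p11, p12, add_zero]
    · rw [← d2, hz, map_add, p21, p22, zero_add]
  · intro z h1 h2
    apply hinj
    rw [map_zero, ← hsum ((e₁.prod e₂).lTensor K z), d1, d2, h1, h2, map_zero, map_zero, add_zero]

/-- Tensoring a fibre square with flat target. -/
theorem IsFib.lTensor_of_flat (h : IsFib e₁ e₂ f g) (hg : Function.Surjective g)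
    [Module.Flat R Q] (K : Type*) [AddCommGroup K] [Module R K] :
    IsFib (e₁.lTensor K) (e₂.lTensor K) (f.lTensor K) (g.lTensor K) :=
  h.lTensor_of_injective hg K
    (LinearMap.lTensor_injective_of_exact_of_flat _ (coprod_surjective hg) _ h.injective h.exact K)

/-- Tensoring a fibre square with a flat module. -/
theorem IsFib.lTensor_flat (h : IsFib e₁ e₂ f g) (hg : Function.Surjective g)
    (K : Type*) [AddCommGroup K] [Module R K] [Module.Flat R K] :
    IsFib (e₁.lTensor K) (e₂.lTensor K) (f.lTensor K) (g.lTensor K) :=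
  h.lTensor_of_injective hg K (Module.Flat.lTensor_preserves_injective_linearMap _ h.injective)

end

theorem IsFib.flat {R : Type u} [CommRing R] {E M N Q : Type v} [AddCommGroup E] [Module R E]
    [AddCommGroup M] [Module R M] [AddCommGroup N] [Module R N] [AddCommGroup Q] [Module R Q]
    {e₁ : E →ₗ[R] M} {e₂ : E →ₗ[R] N} {f : M →ₗ[R] Q} {g : N →ₗ[R] Q}
    (h : IsFib e₁ e₂ f g) (hg : Function.Surjective g)
    [Module.Flat R M] [Module.Flat R N] [Module.Flat R Q] : Module.Flat R E :=
  have := flat_prod (R := R) (A := M) (B := N)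
  flat_of_exact _ _ (coprod_surjective hg) h.injective h.exact

end K838.RingSq
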