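import Groth.Agent.Pinch.K838.Ferr
import Groth.Agent.VarietyB.PullLoc
import Groth.Agent.VarietyB.TensCoh
import Groth.Agent.Krr.H484.PullExt

/-!
# Finite locally free modules over squares with fibre squares of sections
-/

set_option autoImplicit false
universe u

open CategoryTheory CategoryTheory.Limits AlgebraicGeometry TopologicalSpace Opposite
open Groth.Agent.Fdesc.LocGen
open Groth.Agent.VarietyB.TensLoc (IsBasis)
open Groth.Agent.VarietyB.PullLoc (isBasis_pullSec)
open Groth.Agent.Krr.H484.PullExt (congr_pullSec ext1 ext2)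
open K838.Ferr

namespace K838.SqMod

variable {X Y Z T : Scheme.{u}} {fX : Z ⟶ X} {fY : Z ⟶ Y} {gX : X ⟶ T} {gY : Y ⟶ T}
  (hw : fX ≫ gX = fY ≫ gY)

/-- The canonical isomorphism between the two iterated pullbacks. -/
noncomputable def xi (P : T.Modules) :
    (Scheme.Modules.pullback fX).obj ((Scheme.Modules.pullback gX).obj P) ≅
      (Scheme.Modules.pullback fY).obj ((Scheme.Modules.pullback gY).obj P) :=
  (Scheme.Modules.pullbackComp fX gX).app P ≪≫ (Scheme.Modules.pullbackCongr hw).app P ≪≫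
    ((Scheme.Modules.pullbackComp fY gY).app P).symm

include hw in
theorem pre_le (V : T.Opens) : fX ⁻¹ᵁ gX ⁻¹ᵁ V ≤ fY ⁻¹ᵁ gY ⁻¹ᵁ V := (preimage_eq hw V).le

theorem xi_pullSec {P : T.Modules} {U : T.Opens} (m : Γ(P, U)) :
    (xi hw P).hom.app (fX ⁻¹ᵁ gX ⁻¹ᵁ U) (pullSec fX (pullSec gX m)) =
      res _ (pre_le hw U) (pullSec fY (pullSec gY m)) := by
  have h1 := pullSec_comp' fX gX m
  have h2 := congr_pullSec hw m
  have h3 := pullSec_comp fY gY m
  have h4 := app_res ((Scheme.Modules.pullbackComp fY gY).inv.app P) (pre_le hw U)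
    (pullSec (fY ≫ gY) m)
  refine (congrArg (((Scheme.Modules.pullbackComp fY gY).inv.app P).app _)
    ((congrArg (((Scheme.Modules.pullbackCongr hw).hom.app P).app _) h1).trans h2)).trans ?_
  refine Eq.trans ?_ (congrArg (res _ (pre_le hw U)) h3)
  exact h4


theorem basis_ext {M : X.Modules} {U : X.Opens} {n : ℕ} {e : Fin n → Γ(M, U)}
    (he : IsBasis M U e) {V : X.Opens} (hV : V ≤ U) {r r' : Fin n → Γ(X, V)}
    (h : ∑ i, r i • res M hV (e i) = ∑ i, r' i • res M hV (e i)) : r = r' :=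
  (he V hV).1 h

theorem basis_exists {M : X.Modules} {U : X.Opens} {n : ℕ} {e : Fin n → Γ(M, U)}
    (he : IsBasis M U e) {V : X.Opens} (hV : V ≤ U) (m : Γ(M, V)) :
    ∃ r : Fin n → Γ(X, V), m = ∑ i, r i • res M hV (e i) := by
  obtain ⟨r, hr⟩ := (he V hV).2 m
  exact ⟨r, hr.symm⟩

theorem pullSec_sum (f : X ⟶ Y) {M : Y.Modules} {U V : Y.Opens} (hV : V ≤ U) {n : ℕ}
    (r : Fin n → Γ(Y, V)) (e : Fin n → Γ(M, U)) :
    pullSec f (∑ i, r i • res M hV (e i)) = ∑ i, (f.app V (r i) : Γ(X, f ⁻¹ᵁ V)) •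
      res _ (f.preimage_mono hV) (pullSec f (e i)) := by
  refine (map_sum (((Scheme.Modules.pullbackPushforwardAdjunction f).unit.app M).app V).hom
    _ _).trans ?_
  refine Finset.sum_congr rfl fun i _ => ?_
  refine (pullSec_smul f (r i) _).trans ?_
  rw [res_pullSec]

/-- Uniqueness. -/
theorem local_unique (hsec : ∀ O, SecSq fX fY gX gY O) {N : T.Modules} {U : T.Opens} {n : ℕ}
    {e : Fin n → Γ(N, U)} (he : IsBasis N U e) {V : T.Opens} (hV : V ≤ U) {m m' : Γ(N, V)}
    (h1 : pullSec gX m = pullSec gX m') (h2 : pullSec gY m = pullSec gY m') : m = m' := by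
  obtain ⟨r, rfl⟩ := basis_exists he hV m
  obtain ⟨r', rfl⟩ := basis_exists he hV m'
  rw [pullSec_sum, pullSec_sum] at h1 h2
  have h3 := basis_ext (isBasis_pullSec gX he) (gX.preimage_mono hV) h1
  have h4 := basis_ext (isBasis_pullSec gY he) (gY.preimage_mono hV) h2
  have : r = r' := by
    funext i
    obtain ⟨_, H⟩ := hsec V
    exact (RingPB.isPullback_iff.mp H).2.2 _ _ (congrFun h3 i) (congrFun h4 i)
  rw [this]

/-- Existence. -/
theorem local_exists (hsec : ∀ O, SecSq fX fY gX gY O) {N : T.Modules} {U : T.Opens} {n : ℕ}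
    {e : Fin n → Γ(N, U)} (he : IsBasis N U e) {V : T.Opens} (hV : V ≤ U)
    (s : Γ((Scheme.Modules.pullback gX).obj N, gX ⁻¹ᵁ V))
    (t : Γ((Scheme.Modules.pullback gY).obj N, gY ⁻¹ᵁ V))
    (hst : (xi hw N).hom.app (fX ⁻¹ᵁ gX ⁻¹ᵁ V) (pullSec fX s) = res _ (pre_le hw V) (pullSec fY t)) :
    ∃ m : Γ(N, V), pullSec gX m = s ∧ pullSec gY m = t := by
  obtain ⟨r, rfl⟩ := basis_exists (isBasis_pullSec gX he) (gX.preimage_mono hV) s
  obtain ⟨r', rfl⟩ := basis_exists (isBasis_pullSec gY he) (gY.preimage_mono hV) t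
  have hZ := isBasis_pullSec fY (isBasis_pullSec gY he)
  rw [pullSec_sum, pullSec_sum] at hst
  have key : (fun i => fX.app _ (r i)) = (fun i => fY.appLE (gY ⁻¹ᵁ V) (fX ⁻¹ᵁ gX ⁻¹ᵁ V)
      (pre_le hw V) (r' i)) := by
    refine basis_ext hZ ((pre_le hw V).trans (fY.preimage_mono (gY.preimage_mono hV))) ?_
    refine Eq.trans ?_ (hst.trans ?_)
    · rw [map_sum]
      refine Finset.sum_congr rfl fun i _ => ?_
      refine Eq.symm (Eq.trans (Scheme.Modules.Hom.app_smul (xi hw N).hom _ _) ?_)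
      congr 1
      refine (app_res (xi hw N).hom _ _).trans ?_
      rw [xi_pullSec, res_res]
    · rw [map_sum]
      refine Finset.sum_congr rfl fun i _ => ?_
      rw [res_smul, res_res]
      rfl
  obtain ⟨_, H⟩ := hsec V
  have H' := (RingPB.isPullback_iff.mp H).2.1
  choose ρ h1 h2 using fun i => H' (r i) (r' i) (congrFun key i)
  refine ⟨∑ i, ρ i • res N hV (e i), ?_, ?_⟩
  · rw [pullSec_sum]
    exact Finset.sum_congr rfl fun i _ => by rw [h1]
  · rw [pullSec_sum]
    exact Finset.sum_congr rfl fun i _ => by rw [h2]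


theorem exists_cover {N : T.Modules} (hN : Groth.Agent.VarietyB.TensCoh.HasBases N) (V : T.Opens) :
    ∃ (W : T → T.Opens), (∀ x, W x ≤ V) ∧ V ≤ ⨆ x, W x ∧
      ∀ x, ∃ (U : T.Opens) (n : ℕ) (e : Fin n → Γ(N, U)), IsBasis N U e ∧ W x ≤ U := by
  choose n U hxU e he using hN
  refine ⟨fun x => V ⊓ U x, fun x => inf_le_left, fun x hx => ?_, fun x =>
    ⟨U x, n x, e x, he x, inf_le_right⟩⟩
  exact Opens.mem_iSup.mpr ⟨x, hx, hxU x⟩

/-- Uniqueness. -/
theorem global_unique (hsec : ∀ O, SecSq fX fY gX gY O) {N : T.Modules}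
    (hN : Groth.Agent.VarietyB.TensCoh.HasBases N) {V : T.Opens} {m m' : Γ(N, V)}
    (h1 : pullSec gX m = pullSec gX m') (h2 : pullSec gY m = pullSec gY m') : m = m' := by
  obtain ⟨W, hWV, hVW, hW⟩ := exists_cover hN V
  refine res_ext N W hWV hVW fun x => ?_
  obtain ⟨U, n, e, he, hWU⟩ := hW x
  refine local_unique hsec he hWU ?_ ?_
  · rw [← res_pullSec, ← res_pullSec, h1]
  · rw [← res_pullSec, ← res_pullSec, h2]

/-- Existence. -/
theorem global_exists (hsec : ∀ O, SecSq fX fY gX gY O) {N : T.Modules}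
    (hN : Groth.Agent.VarietyB.TensCoh.HasBases N) {V : T.Opens}
    (s : Γ((Scheme.Modules.pullback gX).obj N, gX ⁻¹ᵁ V))
    (t : Γ((Scheme.Modules.pullback gY).obj N, gY ⁻¹ᵁ V))
    (hst : (xi hw N).hom.app (fX ⁻¹ᵁ gX ⁻¹ᵁ V) (pullSec fX s) = res _ (pre_le hw V) (pullSec fY t)) :
    ∃ m : Γ(N, V), pullSec gX m = s ∧ pullSec gY m = t := by
  obtain ⟨W, hWV, hVW, hW⟩ := exists_cover hN V
  have key : ∀ (V' : T.Opens) (hV' : V' ≤ V),
      (xi hw N).hom.app (fX ⁻¹ᵁ gX ⁻¹ᵁ V') (pullSec fX (res _ (gX.preimage_mono hV') s)) =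
        res _ (pre_le hw V') (pullSec fY (res _ (gY.preimage_mono hV') t)) := by
    intro V' hV'
    have h1 := res_pullSec fX (gX.preimage_mono hV') s
    have h2 := res_pullSec fY (gY.preimage_mono hV') t
    rw [← h1, ← h2]
    refine (app_res (xi hw N).hom _ _).trans ?_
    rw [hst, res_res, res_res]
  have loc : ∀ x, ∃ m : Γ(N, W x), pullSec gX m = res _ (gX.preimage_mono (hWV x)) s ∧
      pullSec gY m = res _ (gY.preimage_mono (hWV x)) t := by
    intro x
    obtain ⟨U, n, e, he, hWU⟩ := hW x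
    exact local_exists hw hsec he hWU _ _ (key (W x) (hWV x))
  choose m hm1 hm2 using loc
  obtain ⟨m₀, hm₀⟩ := res_glue N W hWV hVW m (fun x y => by
    refine global_unique hsec hN ?_ ?_
    · rw [← res_pullSec, ← res_pullSec, hm1, hm1, res_res, res_res]
    · rw [← res_pullSec, ← res_pullSec, hm2, hm2, res_res, res_res])
  refine ⟨m₀, ?_, ?_⟩
  · refine res_ext _ (fun x => gX ⁻¹ᵁ W x) (fun x => gX.preimage_mono (hWV x)) ?_ fun x => ?_
    · intro x hx
      obtain ⟨i, hi⟩ := Opens.mem_iSup.mp (hVW hx)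
      exact Opens.mem_iSup.mpr ⟨i, hi⟩
    · rw [res_pullSec gX (hWV x), hm₀, hm1]
  · refine res_ext _ (fun x => gY ⁻¹ᵁ W x) (fun x => gY.preimage_mono (hWV x)) ?_ fun x => ?_
    · intro x hx
      obtain ⟨i, hi⟩ := Opens.mem_iSup.mp (hVW hx)
      exact Opens.mem_iSup.mpr ⟨i, hi⟩
    · rw [res_pullSec gY (hWV x), hm₀, hm2]

/-- Faithfulness. -/
theorem faithful (hsec : ∀ O, SecSq fX fY gX gY O) {M N : T.Modules}
    (hN : Groth.Agent.VarietyB.TensCoh.HasBases N) {φ ψ : M ⟶ N}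
    (h1 : (Scheme.Modules.pullback gX).map φ = (Scheme.Modules.pullback gX).map ψ)
    (h2 : (Scheme.Modules.pullback gY).map φ = (Scheme.Modules.pullback gY).map ψ) : φ = ψ := by
  apply Scheme.Modules.hom_ext
  intro V
  ext m
  refine global_unique hsec hN ?_ ?_
  · rw [← pullback_map_pullSec, ← pullback_map_pullSec, h1]
  · rw [← pullback_map_pullSec, ← pullback_map_pullSec, h2]

/-- Fullness. -/
theorem full (hsec : ∀ O, SecSq fX fY gX gY O) {M N : T.Modules}
    (hN : Groth.Agent.VarietyB.TensCoh.HasBases N)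
    (a : (Scheme.Modules.pullback gX).obj M ⟶ (Scheme.Modules.pullback gX).obj N)
    (b : (Scheme.Modules.pullback gY).obj M ⟶ (Scheme.Modules.pullback gY).obj N)
    (hab : (Scheme.Modules.pullback fX).map a ≫ (xi hw N).hom =
      (xi hw M).hom ≫ (Scheme.Modules.pullback fY).map b) :
    ∃ φ : M ⟶ N, (Scheme.Modules.pullback gX).map φ = a ∧
      (Scheme.Modules.pullback gY).map φ = b := by
  have key : ∀ (V : T.Opens) (m : Γ(M, V)), ∃ m' : Γ(N, V),
      pullSec gX m' = a.app _ (pullSec gX m) ∧ pullSec gY m' = b.app _ (pullSec gY m) := by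
    intro V m
    refine global_exists hw hsec hN _ _ ?_
    have h1 := pullback_map_pullSec fX a (pullSec gX m)
    have h2 := pullback_map_pullSec fY b (pullSec gY m)
    rw [← h1, ← h2]
    have h3 := congr(($(hab).app (fX ⁻¹ᵁ gX ⁻¹ᵁ V)) (pullSec fX (pullSec gX m)))
    refine h3.trans ?_
    refine (congrArg (((Scheme.Modules.pullback fY).map b).app _) (xi_pullSec hw m)).trans ?_
    exact app_res _ _ _
  choose f hf1 hf2 using key
  have hadd : ∀ V (m m' : Γ(M, V)), f V (m + m') = f V m + f V m' := by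
    intro V m m'
    refine global_unique hsec hN ?_ ?_
    · rw [hf1, pullSec_add, pullSec_add, hf1, hf1]
      exact map_add (a.app _).hom _ _
    · rw [hf2, pullSec_add, pullSec_add, hf2, hf2]
      exact map_add (b.app _).hom _ _
  refine ⟨mkHom (fun V => AddMonoidHom.mk' (f V) (hadd V)) ?_ ?_, ?_, ?_⟩
  · intro V r m
    refine global_unique hsec hN ?_ ?_
    · change pullSec gX (f V (r • m)) = pullSec gX (r • f V m)
      rw [hf1, pullSec_smul, pullSec_smul, hf1]
      exact Scheme.Modules.Hom.app_smul a _ _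
    · change pullSec gY (f V (r • m)) = pullSec gY (r • f V m)
      rw [hf2, pullSec_smul, pullSec_smul, hf2]
      exact Scheme.Modules.Hom.app_smul b _ _
  · intro U V h m
    refine global_unique hsec hN ?_ ?_
    · change pullSec gX (f V (res M h m)) = pullSec gX (res N h (f U m))
      rw [hf1, ← res_pullSec, ← res_pullSec, hf1]
      exact app_res a _ _
    · change pullSec gY (f V (res M h m)) = pullSec gY (res N h (f U m))
      rw [hf2, ← res_pullSec, ← res_pullSec, hf2]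
      exact app_res b _ _
  · apply ext1
    intro V m
    rw [pullback_map_pullSec]
    exact hf1 V m
  · apply ext1
    intro V m
    rw [pullback_map_pullSec]
    exact hf2 V m

end K838.SqMod
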