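import Groth.Agent.Pinch.K838.SqMod
import Groth.Agent.CohqB.FiniteType2

/-!
# Glueing modules over squares with fibre squares of sections: the glued module
-/

set_option autoImplicit false
universe u

open CategoryTheory CategoryTheory.Limits AlgebraicGeometry TopologicalSpace Opposite
open Groth.Agent.Fdesc.LocGen
open Groth.Agent.Krr.H484.PullExt (congr_pullSec ext1 ext2)
open K838.Ferr K838.SqMod

namespace K838.VBGlue

theorem sec_pullback_exists {X : Scheme.{u}} {A B C : X.Modules} (f : A ⟶ C) (g : B ⟶ C)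
    (U : X.Opens) (a : Γ(A, U)) (b : Γ(B, U)) (h : f.app U a = g.app U b) :
    ∃ m : Γ((Limits.pullback f g : X.Modules), U), (pullback.fst f g).app U m = a ∧
      (pullback.snd f g).app U m = b := by
  have H := ((IsPullback.of_hasPullback f g).map
    (Groth.Agent.CohqB.FiniteType2.sectionsFunctor U)).map (forget AddCommGrpCat.{u})
  exact Types.exists_of_isPullback H a b h

theorem sec_pullback_ext {X : Scheme.{u}} {A B C : X.Modules} (f : A ⟶ C) (g : B ⟶ C)
    (U : X.Opens) {m m' : Γ((Limits.pullback f g : X.Modules), U)}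
    (h1 : (pullback.fst f g).app U m = (pullback.fst f g).app U m')
    (h2 : (pullback.snd f g).app U m = (pullback.snd f g).app U m') : m = m' := by
  have H := ((IsPullback.of_hasPullback f g).map
    (Groth.Agent.CohqB.FiniteType2.sectionsFunctor U)).map (forget AddCommGrpCat.{u})
  exact Types.ext_of_isPullback H h1 h2

variable {X Y Z T : Scheme.{u}} {fX : Z ⟶ X} {fY : Z ⟶ Y} {gX : X ⟶ T} {gY : Y ⟶ T}
  (hw : fX ≫ gX = fY ≫ gY)
  {LX : X.Modules} {LY : Y.Modules}
  (σ : (Scheme.Modules.pullback fX).obj LX ≅ (Scheme.Modules.pullback fY).obj LY)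


variable (gX) in
/-- The first map of the gluing. -/
noncomputable def alpha : (Scheme.Modules.pushforward gX).obj LX ⟶
    (Scheme.Modules.pushforward (fX ≫ gX)).obj ((Scheme.Modules.pullback fY).obj LY) :=
  mkHom (fun U => (σ.hom.app (fX ⁻¹ᵁ gX ⁻¹ᵁ U)).hom.comp
      (((Scheme.Modules.pullbackPushforwardAdjunction fX).unit.app LX).app (gX ⁻¹ᵁ U)).hom)
    (fun U a m => by
      change σ.hom.app (fX ⁻¹ᵁ gX ⁻¹ᵁ U) (pullSec fX ((gX.app U a : Γ(X, gX ⁻¹ᵁ U)) •
        (show Γ(LX, gX ⁻¹ᵁ U) from m))) = _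
      rw [pullSec_smul]
      exact Scheme.Modules.Hom.app_smul σ.hom _ _)
    (fun U V h m => by
      change σ.hom.app (fX ⁻¹ᵁ gX ⁻¹ᵁ V) (pullSec fX (res LX (gX.preimage_mono h) m)) = _
      rw [← res_pullSec]
      exact app_res σ.hom _ _)

theorem alpha_app {U : T.Opens} (s : Γ(LX, gX ⁻¹ᵁ U)) :
    (alpha gX σ).app U s = σ.hom.app (fX ⁻¹ᵁ gX ⁻¹ᵁ U) (pullSec fX s) := rfl

/-- The second map of the gluing. -/
noncomputable def beta (LY : Y.Modules) : (Scheme.Modules.pushforward gY).obj LY ⟶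
    (Scheme.Modules.pushforward (fX ≫ gX)).obj ((Scheme.Modules.pullback fY).obj LY) :=
  mkHom (fun U => (res ((Scheme.Modules.pullback fY).obj LY) (pre_le hw U)).comp
      (((Scheme.Modules.pullbackPushforwardAdjunction fY).unit.app LY).app (gY ⁻¹ᵁ U)).hom)
    (fun U a m => by
      change res _ (pre_le hw U) (pullSec fY ((gY.app U a : Γ(Y, gY ⁻¹ᵁ U)) •
        (show Γ(LY, gY ⁻¹ᵁ U) from m))) = _
      rw [pullSec_smul, res_smul]
      have h1 : ores (pre_le hw U) (fY.app (gY ⁻¹ᵁ U) (gY.app U a)) =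
          fX.app (gX ⁻¹ᵁ U) (gX.app U a) := by
        have h2 := ConcreteCategory.congr_hom (sec_w hw U (pre_le hw U)) a
        exact h2.symm
      rw [h1]
      rfl)
    (fun U V h m => by
      change res _ (pre_le hw V) (pullSec fY (res LY (gY.preimage_mono h) m)) = _
      rw [← res_pullSec, res_res]
      exact (res_res _ _ _ _).symm)

theorem beta_app {U : T.Opens} (t : Γ(LY, gY ⁻¹ᵁ U)) :
    (beta hw LY).app U t = res _ (pre_le hw U) (pullSec fY t) := rfl

/-- The glued module. -/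
noncomputable def glued : T.Modules := Limits.pullback (alpha gX σ) (beta hw LY)

/-- The first projection. -/
noncomputable def gfst : glued hw σ ⟶ (Scheme.Modules.pushforward gX).obj LX := pullback.fst _ _

/-- The second projection. -/
noncomputable def gsnd : glued hw σ ⟶ (Scheme.Modules.pushforward gY).obj LY := pullback.snd _ _

/-- The first component of a section of the glued module. -/
noncomputable def s₁ {U : T.Opens} (m : Γ(glued hw σ, U)) : Γ(LX, gX ⁻¹ᵁ U) := (gfst hw σ).app U m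

/-- The second component of a section of the glued module. -/
noncomputable def s₂ {U : T.Opens} (m : Γ(glued hw σ, U)) : Γ(LY, gY ⁻¹ᵁ U) := (gsnd hw σ).app U m

theorem glued_w {U : T.Opens} (m : Γ(glued hw σ, U)) :
    σ.hom.app (fX ⁻¹ᵁ gX ⁻¹ᵁ U) (pullSec fX (s₁ hw σ m)) =
      res _ (pre_le hw U) (pullSec fY (s₂ hw σ m)) := by
  have h := pullback.condition (f := alpha gX σ) (g := beta hw LY)
  exact congr(($(h).app U) m)

theorem glued_exists {U : T.Opens} (s : Γ(LX, gX ⁻¹ᵁ U)) (t : Γ(LY, gY ⁻¹ᵁ U))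
    (h : σ.hom.app (fX ⁻¹ᵁ gX ⁻¹ᵁ U) (pullSec fX s) = res _ (pre_le hw U) (pullSec fY t)) :
    ∃ m : Γ(glued hw σ, U), s₁ hw σ m = s ∧ s₂ hw σ m = t :=
  sec_pullback_exists (alpha gX σ) (beta hw LY) U s t h

theorem glued_ext {U : T.Opens} {m m' : Γ(glued hw σ, U)} (h1 : s₁ hw σ m = s₁ hw σ m')
    (h2 : s₂ hw σ m = s₂ hw σ m') : m = m' :=
  sec_pullback_ext (alpha gX σ) (beta hw LY) U h1 h2

/-- The map `gX^* M ⟶ LX`. -/
noncomputable def eX : (Scheme.Modules.pullback gX).obj (glued hw σ) ⟶ LX :=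
  ((Scheme.Modules.pullbackPushforwardAdjunction gX).homEquiv _ _).symm (gfst hw σ)

/-- The map `gY^* M ⟶ LY`. -/
noncomputable def eY : (Scheme.Modules.pullback gY).obj (glued hw σ) ⟶ LY :=
  ((Scheme.Modules.pullbackPushforwardAdjunction gY).homEquiv _ _).symm (gsnd hw σ)

theorem eX_pullSec {U : T.Opens} (m : Γ(glued hw σ, U)) :
    (eX hw σ).app (gX ⁻¹ᵁ U) (pullSec gX m) = s₁ hw σ m := by
  rw [← homEquiv_app, eX, Equiv.apply_symm_apply]
  rfl

theorem eY_pullSec {U : T.Opens} (m : Γ(glued hw σ, U)) :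
    (eY hw σ).app (gY ⁻¹ᵁ U) (pullSec gY m) = s₂ hw σ m := by
  rw [← homEquiv_app, eY, Equiv.apply_symm_apply]
  rfl

/-- The compatibility. -/
theorem compat : (xi hw (glued hw σ)).hom ≫ (Scheme.Modules.pullback fY).map (eY hw σ) =
    (Scheme.Modules.pullback fX).map (eX hw σ) ≫ σ.hom := by
  apply ext2
  intro U m
  have h1 := pullback_map_pullSec fX (eX hw σ) (pullSec gX m)
  have h2 := pullback_map_pullSec fY (eY hw σ) (pullSec gY m)
  rw [eX_pullSec] at h1
  rw [eY_pullSec] at h2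
  refine (congrArg (((Scheme.Modules.pullback fY).map (eY hw σ)).app _) (xi_pullSec hw m)).trans ?_
  refine (app_res _ _ _).trans ?_
  refine Eq.trans ?_ (congrArg (σ.hom.app _) h1.symm)
  rw [glued_w]
  exact congrArg _ h2

end K838.VBGlue
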