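import Groth.Agent.Pinch.K838.VBGlue
import Groth.Agent.Pinch.K838.MilAlg
import Groth.Agent.VarietyB.PullSec
import Groth.Agent.Props.K592.Extend
import Groth.Agent.Ega1.QcqsPush

/-!
# Glueing modules over Ferrand squares: sections over affine opens
-/

set_option autoImplicit false
universe u

open CategoryTheory CategoryTheory.Limits AlgebraicGeometry TopologicalSpace Opposite
open Groth.Agent.Fdesc.LocGen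
open K838.Ferr K838.SqMod K838.VBGlue

namespace K838.VBGlue2

variable {X Y Z T : Scheme.{u}} {fX : Z ⟶ X} {fY : Z ⟶ Y} {gX : X ⟶ T} {gY : Y ⟶ T}
  (hw : fX ≫ gX = fY ≫ gY)
  {LX : X.Modules} {LY : Y.Modules}
  (σ : (Scheme.Modules.pullback fX).obj LX ≅ (Scheme.Modules.pullback fY).obj LY)

theorem isQCoh_glued [IsAffineHom gX] [IsAffineHom gY] [IsAffineHom fX] (hLX : Coh.IsQCoh LX)
    (hLY : Coh.IsQCoh LY) : Coh.IsQCoh (glued hw σ) := by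
  refine K592.Extend.isQCoh_pullback' _ _ ?_ ?_ ?_
  · exact Groth.Agent.Ega1.QcqsPush.isQCoh_pushforward gX _ hLX
  · exact Groth.Agent.Ega1.QcqsPush.isQCoh_pushforward gY _ hLY
  · exact Groth.Agent.Ega1.QcqsPush.isQCoh_pushforward (fX ≫ gX) _
      (Groth.Agent.VarietyB.PullSec.isQCoh_pullback fY LY hLY)

section

variable {V : T.Opens}

theorem main [IsClosedImmersion fX] [IsAffineHom gX] [IsAffineHom gY] (hsec : SecSq fX fY gX gY V)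
    (hLX : Coh.IsQCoh LX)
    (hLY : Coh.IsQCoh LY) (hV : IsAffineOpen V) :
    Function.Bijective ((eX hw σ).app (gX ⁻¹ᵁ V)) ∧
      Function.Bijective ((eY hw σ).app (gY ⁻¹ᵁ V)) ∧
      (Module.Finite Γ(Y, gY ⁻¹ᵁ V) Γ(LY, gY ⁻¹ᵁ V) →
        Module.Projective Γ(Y, gY ⁻¹ᵁ V) Γ(LY, gY ⁻¹ᵁ V) →
        Module.Finite Γ(X, gX ⁻¹ᵁ V) Γ(LX, gX ⁻¹ᵁ V) →
        Module.Projective Γ(X, gX ⁻¹ᵁ V) Γ(LX, gX ⁻¹ᵁ V) →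
        Module.Finite Γ(T, V) Γ(glued hw σ, V) ∧ Module.Projective Γ(T, V) Γ(glued hw σ, V)) := by
  obtain ⟨hle, hpb⟩ := hsec
  obtain ⟨hcomm, hex, huniq⟩ := RingPB.isPullback_iff.mp hpb
  have hsurj := fX.app_surjective (gX ⁻¹ᵁ V) (hV.preimage gX)
  -- algebra structures
  letI i₁ : Algebra Γ(T, V) Γ(Y, gY ⁻¹ᵁ V) := (gY.appLE V (gY ⁻¹ᵁ V) le_rfl).hom.toAlgebra
  letI i₂ : Algebra Γ(T, V) Γ(X, gX ⁻¹ᵁ V) := (gX.appLE V (gX ⁻¹ᵁ V) le_rfl).hom.toAlgebra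
  letI i₃ : Algebra Γ(Y, gY ⁻¹ᵁ V) Γ(Z, fX ⁻¹ᵁ gX ⁻¹ᵁ V) :=
    (fY.appLE (gY ⁻¹ᵁ V) (fX ⁻¹ᵁ gX ⁻¹ᵁ V) (pre_le hw V)).hom.toAlgebra
  letI i₄ : Algebra Γ(X, gX ⁻¹ᵁ V) Γ(Z, fX ⁻¹ᵁ gX ⁻¹ᵁ V) :=
    (fX.appLE (gX ⁻¹ᵁ V) (fX ⁻¹ᵁ gX ⁻¹ᵁ V) le_rfl).hom.toAlgebra
  letI i₅ : Algebra Γ(T, V) Γ(Z, fX ⁻¹ᵁ gX ⁻¹ᵁ V) :=
    ((algebraMap Γ(X, gX ⁻¹ᵁ V) Γ(Z, fX ⁻¹ᵁ gX ⁻¹ᵁ V)).comp
      (algebraMap Γ(T, V) Γ(X, gX ⁻¹ᵁ V))).toAlgebra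
  have e₁ : ∀ r, algebraMap Γ(T, V) Γ(Y, gY ⁻¹ᵁ V) r = gY.app V r := fun r => by
    rw [RingHom.algebraMap_toAlgebra, Scheme.Hom.appLE_eq_app]
  have e₂ : ∀ r, algebraMap Γ(T, V) Γ(X, gX ⁻¹ᵁ V) r = gX.app V r := fun r => by
    rw [RingHom.algebraMap_toAlgebra, Scheme.Hom.appLE_eq_app]
  have e₄ : ∀ r, algebraMap Γ(X, gX ⁻¹ᵁ V) Γ(Z, fX ⁻¹ᵁ gX ⁻¹ᵁ V) r = fX.app _ r := fun r => by
    rw [RingHom.algebraMap_toAlgebra, Scheme.Hom.appLE_eq_app]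
  have t₁ : IsScalarTower Γ(T, V) Γ(X, gX ⁻¹ᵁ V) Γ(Z, fX ⁻¹ᵁ gX ⁻¹ᵁ V) :=
    IsScalarTower.of_algebraMap_eq fun _ => rfl
  have t₂ : IsScalarTower Γ(T, V) Γ(Y, gY ⁻¹ᵁ V) Γ(Z, fX ⁻¹ᵁ gX ⁻¹ᵁ V) :=
    IsScalarTower.of_algebraMap_eq fun r => by
      have h := ConcreteCategory.congr_hom hcomm r
      rw [t₁.algebraMap_apply, e₁, e₂, e₄]
      exact h
  have hsq : EtMil.IsFibreSquare Γ(T, V) Γ(Y, gY ⁻¹ᵁ V) Γ(X, gX ⁻¹ᵁ V)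
    Γ(Z, fX ⁻¹ᵁ gX ⁻¹ᵁ V) := by
    refine ⟨fun z => ?_, fun y x hyx => ?_⟩
    · obtain ⟨x, hx⟩ := hsurj z
      exact ⟨x, by rw [e₄]; exact hx⟩
    · rw [e₄] at hyx
      obtain ⟨r, hr1, hr2⟩ := hex x y hyx.symm
      refine ⟨r, ⟨by rw [e₁]; exact hr2, by rw [e₂]; exact hr1⟩, ?_⟩
      rintro r' ⟨h1, h2⟩
      rw [e₁] at h1
      rw [e₂] at h2
      exact huniq _ _ (h2.trans hr1.symm) (h1.trans hr2.symm)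
  -- module structures
  letI m₁ : Module Γ(T, V) Γ(LY, gY ⁻¹ᵁ V) := Module.compHom _ (algebraMap Γ(T, V) Γ(Y, gY ⁻¹ᵁ V))
  letI m₂ : Module Γ(T, V) Γ(LX, gX ⁻¹ᵁ V) := Module.compHom _ (algebraMap Γ(T, V) Γ(X, gX ⁻¹ᵁ V))
  have t₃ : IsScalarTower Γ(T, V) Γ(Y, gY ⁻¹ᵁ V) Γ(LY, gY ⁻¹ᵁ V) :=
    ⟨fun a b c => by rw [Algebra.smul_def, mul_smul]; rfl⟩
  have t₄ : IsScalarTower Γ(T, V) Γ(X, gX ⁻¹ᵁ V) Γ(LX, gX ⁻¹ᵁ V) :=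
    ⟨fun a b c => by rw [Algebra.smul_def, mul_smul]; rfl⟩
  -- the corner
  letI m₃ := Groth.Agent.VarietyB.PullSec.secModule fY LY (pre_le hw V)
  have t₅ : IsScalarTower Γ(Y, gY ⁻¹ᵁ V) Γ(Z, fX ⁻¹ᵁ gX ⁻¹ᵁ V)
      Γ((Scheme.Modules.pullback fY).obj LY, fX ⁻¹ᵁ gX ⁻¹ᵁ V) :=
    ⟨fun a b c => by rw [Algebra.smul_def, mul_smul]; rfl⟩
  have hZ : IsAffineOpen (fX ⁻¹ᵁ gX ⁻¹ᵁ V) := (hV.preimage gX).preimage fX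
  have ha : IsBaseChange Γ(Z, fX ⁻¹ᵁ gX ⁻¹ᵁ V)
      (Groth.Agent.VarietyB.PullSec.secₗ fY LY (pre_le hw V)) :=
    Groth.Agent.VarietyB.PullSec.isBaseChange_secₗ fY LY (pre_le hw V) hLY (hV.preimage gY) hZ
  letI m₄ := Groth.Agent.VarietyB.PullSec.secModule fX LX
    (le_rfl : fX ⁻¹ᵁ gX ⁻¹ᵁ V ≤ fX ⁻¹ᵁ gX ⁻¹ᵁ V)
  have t₆ : IsScalarTower Γ(X, gX ⁻¹ᵁ V) Γ(Z, fX ⁻¹ᵁ gX ⁻¹ᵁ V)
      Γ((Scheme.Modules.pullback fX).obj LX, fX ⁻¹ᵁ gX ⁻¹ᵁ V) :=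
    ⟨fun a b c => by rw [Algebra.smul_def, mul_smul]; rfl⟩
  have hb0 : IsBaseChange Γ(Z, fX ⁻¹ᵁ gX ⁻¹ᵁ V)
      (Groth.Agent.VarietyB.PullSec.secₗ fX LX (le_rfl : fX ⁻¹ᵁ gX ⁻¹ᵁ V ≤ fX ⁻¹ᵁ gX ⁻¹ᵁ V)) :=
    Groth.Agent.VarietyB.PullSec.isBaseChange_secₗ fX LX le_rfl hLX (hV.preimage gX) hZ
  letI m₅ : Module Γ(X, gX ⁻¹ᵁ V) Γ((Scheme.Modules.pullback fY).obj LY, fX ⁻¹ᵁ gX ⁻¹ᵁ V) :=
    Module.compHom _ (algebraMap Γ(X, gX ⁻¹ᵁ V) Γ(Z, fX ⁻¹ᵁ gX ⁻¹ᵁ V))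
  have t₇ : IsScalarTower Γ(X, gX ⁻¹ᵁ V) Γ(Z, fX ⁻¹ᵁ gX ⁻¹ᵁ V)
      Γ((Scheme.Modules.pullback fY).obj LY, fX ⁻¹ᵁ gX ⁻¹ᵁ V) :=
    ⟨fun a b c => by rw [Algebra.smul_def, mul_smul]; rfl⟩
  let σl : Γ((Scheme.Modules.pullback fX).obj LX, fX ⁻¹ᵁ gX ⁻¹ᵁ V) →ₗ[Γ(Z, fX ⁻¹ᵁ gX ⁻¹ᵁ V)]
      Γ((Scheme.Modules.pullback fY).obj LY, fX ⁻¹ᵁ gX ⁻¹ᵁ V) :=
    { toFun := fun s => σ.hom.app (fX ⁻¹ᵁ gX ⁻¹ᵁ V) s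
      map_add' := fun s t => map_add (σ.hom.app (fX ⁻¹ᵁ gX ⁻¹ᵁ V)).hom s t
      map_smul' := fun r s => Scheme.Modules.Hom.app_smul σ.hom r s }
  have hσl : Function.Bijective σl := by
    have : IsIso (σ.hom.app (fX ⁻¹ᵁ gX ⁻¹ᵁ V)) := inferInstance
    exact (ConcreteCategory.isIso_iff_bijective _).mp this
  let σe := LinearEquiv.ofBijective σl hσl
  have hb := hb0.comp (IsBaseChange.ofEquiv σe)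
  let p₂ : Γ(glued hw σ, V) →ₗ[Γ(T, V)] Γ(LY, gY ⁻¹ᵁ V) :=
    { toFun := s₂ hw σ
      map_add' := fun m m' => map_add ((gsnd hw σ).app V).hom m m'
      map_smul' := fun r m => by
        refine (Scheme.Modules.Hom.app_smul (gsnd hw σ) r m).trans ?_
        change (gY.app V r : Γ(Y, gY ⁻¹ᵁ V)) • s₂ hw σ m =
          (algebraMap Γ(T, V) Γ(Y, gY ⁻¹ᵁ V) r) • s₂ hw σ m
        rw [e₁] }
  let p₁ : Γ(glued hw σ, V) →ₗ[Γ(T, V)] Γ(LX, gX ⁻¹ᵁ V) :=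
    { toFun := s₁ hw σ
      map_add' := fun m m' => map_add ((gfst hw σ).app V).hom m m'
      map_smul' := fun r m => by
        refine (Scheme.Modules.Hom.app_smul (gfst hw σ) r m).trans ?_
        change (gX.app V r : Γ(X, gX ⁻¹ᵁ V)) • s₁ hw σ m =
          (algebraMap Γ(T, V) Γ(X, gX ⁻¹ᵁ V) r) • s₁ hw σ m
        rw [e₂] }
  have eb : ∀ s, ((σe.toLinearMap.restrictScalars Γ(X, gX ⁻¹ᵁ V)).comp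
      (Groth.Agent.VarietyB.PullSec.secₗ fX LX (le_rfl : fX ⁻¹ᵁ gX ⁻¹ᵁ V ≤ fX ⁻¹ᵁ gX ⁻¹ᵁ V))) s =
        σ.hom.app (fX ⁻¹ᵁ gX ⁻¹ᵁ V) (pullSec fX s) := by
    intro s
    have : Groth.Agent.VarietyB.PullSec.secₗ fX LX
      (le_rfl : fX ⁻¹ᵁ gX ⁻¹ᵁ V ≤ fX ⁻¹ᵁ gX ⁻¹ᵁ V) s = pullSec fX s := res_refl _ _
    exact congrArg (σ.hom.app (fX ⁻¹ᵁ gX ⁻¹ᵁ V)) this
  have k1 : ∀ g, Groth.Agent.VarietyB.PullSec.secₗ fY LY (pre_le hw V) (p₂ g) =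
      ((σe.toLinearMap.restrictScalars Γ(X, gX ⁻¹ᵁ V)).comp
      (Groth.Agent.VarietyB.PullSec.secₗ fX LX (le_rfl : fX ⁻¹ᵁ gX ⁻¹ᵁ V ≤ fX ⁻¹ᵁ gX ⁻¹ᵁ V)))
        (p₁ g) := fun g => (glued_w hw σ g).symm.trans (eb _).symm
  have k2 : ∀ n m', Groth.Agent.VarietyB.PullSec.secₗ fY LY (pre_le hw V) n =
      ((σe.toLinearMap.restrictScalars Γ(X, gX ⁻¹ᵁ V)).comp
      (Groth.Agent.VarietyB.PullSec.secₗ fX LX (le_rfl : fX ⁻¹ᵁ gX ⁻¹ᵁ V ≤ fX ⁻¹ᵁ gX ⁻¹ᵁ V))) m' →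
        ∃ g, p₂ g = n ∧ p₁ g = m' := fun n m' h => by
    rw [eb] at h
    obtain ⟨m, hm1, hm2⟩ := glued_exists hw σ m' n h.symm
    exact ⟨m, hm2, hm1⟩
  have k3 : ∀ g g', p₂ g = p₂ g' → p₁ g = p₁ g' → g = g' := fun g g' h h' => glued_ext hw σ h' h
  have h1 := MilAlg.lift_bijective₁ hsq ha hb p₂ p₁ k1 k2 k3
  have h2 := MilAlg.lift_bijective₂ hsq ha hb p₂ p₁ k1 k2 k3
  have h3 := MilAlg.finite_projective hsq ha hb p₂ p₁ k1 k2 k3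
  refine ⟨?_, ?_, h3⟩
  · letI m₆ := Groth.Agent.VarietyB.PullSec.secModule gX (glued hw σ)
      (le_rfl : gX ⁻¹ᵁ V ≤ gX ⁻¹ᵁ V)
    have t₈ : IsScalarTower Γ(T, V) Γ(X, gX ⁻¹ᵁ V)
        Γ((Scheme.Modules.pullback gX).obj (glued hw σ), gX ⁻¹ᵁ V) :=
      ⟨fun a b c => by rw [Algebra.smul_def, mul_smul]; rfl⟩
    have hbc : IsBaseChange Γ(X, gX ⁻¹ᵁ V) (Groth.Agent.VarietyB.PullSec.secₗ gX (glued hw σ)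
        (le_rfl : gX ⁻¹ᵁ V ≤ gX ⁻¹ᵁ V)) :=
      Groth.Agent.VarietyB.PullSec.isBaseChange_secₗ gX (glued hw σ) le_rfl
        (isQCoh_glued hw σ hLX hLY) hV (hV.preimage gX)
    exact MilAlg.bijective_of_lift hbc
      { toFun := fun s => (eX hw σ).app (gX ⁻¹ᵁ V) s
        map_add' := fun s t => map_add ((eX hw σ).app (gX ⁻¹ᵁ V)).hom s t
        map_smul' := fun r s => Scheme.Modules.Hom.app_smul (eX hw σ) r s } p₁ (fun g => by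
        have : Groth.Agent.VarietyB.PullSec.secₗ gX (glued hw σ)
          (le_rfl : gX ⁻¹ᵁ V ≤ gX ⁻¹ᵁ V) g = pullSec gX g := res_refl _ _
        exact (congrArg ((eX hw σ).app (gX ⁻¹ᵁ V)) this).trans (eX_pullSec hw σ g)) h1
  · letI m₆ := Groth.Agent.VarietyB.PullSec.secModule gY (glued hw σ)
      (le_rfl : gY ⁻¹ᵁ V ≤ gY ⁻¹ᵁ V)
    have t₈ : IsScalarTower Γ(T, V) Γ(Y, gY ⁻¹ᵁ V)
        Γ((Scheme.Modules.pullback gY).obj (glued hw σ), gY ⁻¹ᵁ V) :=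
      ⟨fun a b c => by rw [Algebra.smul_def, mul_smul]; rfl⟩
    have hbc : IsBaseChange Γ(Y, gY ⁻¹ᵁ V) (Groth.Agent.VarietyB.PullSec.secₗ gY (glued hw σ)
        (le_rfl : gY ⁻¹ᵁ V ≤ gY ⁻¹ᵁ V)) :=
      Groth.Agent.VarietyB.PullSec.isBaseChange_secₗ gY (glued hw σ) le_rfl
        (isQCoh_glued hw σ hLX hLY) hV (hV.preimage gY)
    exact MilAlg.bijective_of_lift hbc
      { toFun := fun s => (eY hw σ).app (gY ⁻¹ᵁ V) s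
        map_add' := fun s t => map_add ((eY hw σ).app (gY ⁻¹ᵁ V)).hom s t
        map_smul' := fun r s => Scheme.Modules.Hom.app_smul (eY hw σ) r s } p₂ (fun g => by
        have : Groth.Agent.VarietyB.PullSec.secₗ gY (glued hw σ)
          (le_rfl : gY ⁻¹ᵁ V ≤ gY ⁻¹ᵁ V) g = pullSec gY g := res_refl _ _
        exact (congrArg ((eY hw σ).app (gY ⁻¹ᵁ V)) this).trans (eY_pullSec hw σ g)) h2

end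

end K838.VBGlue2
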