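import Groth.Agent.Pinch.K838.VBGlue2
import Groth.Agent.Ega2.QCohLocal
import Groth.Agent.Desc.FinLocFreeSections
import Groth.Agent.CohqA.PullbackQCoh

/-!
# Glueing vector bundles over Ferrand squares
-/

set_option autoImplicit false
universe u

open CategoryTheory CategoryTheory.Limits AlgebraicGeometry TopologicalSpace Opposite
open Groth.Agent.Fdesc.LocGen
open Groth.Agent.VarietyB.TensLoc (IsBasis exists_isBasis_of_restrict)
open K838.Ferr K838.SqMod K838.VBGlue K838.VBGlue2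

namespace K838.VBGlue3

theorem rank_eq {X : Scheme.{u}} {E : X.Modules} {x : X} {U U' : X.Opens} {n m : ℕ}
    {e : Fin n → Γ(E, U)} {e' : Fin m → Γ(E, U')} (he : IsBasis E U e) (he' : IsBasis E U' e')
    (hx : x ∈ U) (hx' : x ∈ U') : n = m := by
  have hne : Nonempty (U ⊓ U' : X.Opens) := ⟨⟨x, hx, hx'⟩⟩
  have : Nontrivial Γ(X, U ⊓ U') := Scheme.component_nontrivial X _
  have h1 := Module.finrank_eq_card_basis (he.basis (inf_le_left : U ⊓ U' ≤ U))
  have h2 := Module.finrank_eq_card_basis (he'.basis (inf_le_right : U ⊓ U' ≤ U'))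
  rw [h1, Fintype.card_fin, Fintype.card_fin] at h2
  exact h2

variable {X Y Z T : Scheme.{u}} {fX : Z ⟶ X} {fY : Z ⟶ Y} {gX : X ⟶ T} {gY : Y ⟶ T}
  (hw : fX ≫ gX = fY ≫ gY)
  {LX : X.Modules} {LY : Y.Modules}
  (σ : (Scheme.Modules.pullback fX).obj LX ≅ (Scheme.Modules.pullback fY).obj LY)

theorem cover {T : Scheme.{u}} (x : T) : ∃ V : T.Opens, True ∧ IsAffineOpen V ∧ x ∈ V := by
  obtain ⟨V, hV, hx, -⟩ := exists_isAffineOpen_mem_and_subset (U := ⊤) (x := x) trivial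
  exact ⟨V, trivial, hV, hx⟩

theorem iSup_preimage (f : X ⟶ T) : ⨆ V : T.affineOpens, f ⁻¹ᵁ (V : T.Opens) = ⊤ := by
  rw [eq_top_iff]
  intro x _
  obtain ⟨V, hV, hx, -⟩ := exists_isAffineOpen_mem_and_subset (U := ⊤) (x := f x) trivial
  exact Opens.mem_iSup.mpr ⟨⟨V, hV⟩, hx⟩

variable [IsClosedImmersion fX] [IsAffineHom gX] [IsAffineHom gY]
  (hsec : ∀ V : T.Opens, SecSq fX fY gX gY V)

include hsec in
theorem isIso_eX (hLX : Coh.IsQCoh LX) (hLY : Coh.IsQCoh LY) : IsIso (eX hw σ) := by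
  have h1 : Coh.IsQCoh ((Scheme.Modules.pullback gX).obj (glued hw σ)) :=
    Groth.Agent.VarietyB.PullSec.isQCoh_pullback gX _ (isQCoh_glued hw σ hLX hLY)
  exact Groth.Agent.CohqA.PullbackQCoh.isIso_of_bijective_affineCover (eX hw σ)
    (fun V : T.affineOpens => gX ⁻¹ᵁ (V : T.Opens)) (iSup_preimage gX)
    (fun V => V.2.preimage gX) (fun V => (main hw σ (hsec V) hLX hLY V.2).1)

include hsec in
theorem isIso_eY (hLX : Coh.IsQCoh LX) (hLY : Coh.IsQCoh LY) : IsIso (eY hw σ) := by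
  have h1 : Coh.IsQCoh ((Scheme.Modules.pullback gY).obj (glued hw σ)) :=
    Groth.Agent.VarietyB.PullSec.isQCoh_pullback gY _ (isQCoh_glued hw σ hLX hLY)
  exact Groth.Agent.CohqA.PullbackQCoh.isIso_of_bijective_affineCover (eY hw σ)
    (fun V : T.affineOpens => gY ⁻¹ᵁ (V : T.Opens)) (iSup_preimage gY)
    (fun V => V.2.preimage gY) (fun V => (main hw σ (hsec V) hLX hLY V.2).2.1)

include hsec in
theorem isFinLocFree_glued (hLX : FlatMod.IsFinLocFree LX) (hLY : FlatMod.IsFinLocFree LY) :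
    FlatMod.IsFinLocFree (glued hw σ) := by
  have h1 := Groth.Agent.Ega2.QCohLocal.isQCoh_of_isFinLocFree hLX
  have h2 := Groth.Agent.Ega2.QCohLocal.isQCoh_of_isFinLocFree hLY
  rw [Groth.Agent.Desc.FinLocFreeSections.isFinLocFree_iff_of_cover (isQCoh_glued hw σ h1 h2)
    (fun _ => True) cover]
  intro V _ hV
  obtain ⟨i1, i2⟩ := (Groth.Agent.Desc.FinLocFreeSections.isFinLocFree_iff_of_cover h1
    (fun _ => True) cover).mp hLX _ trivial (hV.preimage gX)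
  obtain ⟨i3, i4⟩ := (Groth.Agent.Desc.FinLocFreeSections.isFinLocFree_iff_of_cover h2
    (fun _ => True) cover).mp hLY _ trivial (hV.preimage gY)
  have i5 := Module.Flat.projective_of_finitePresentation (R := Γ(X, gX ⁻¹ᵁ V))
    (M := Γ(LX, gX ⁻¹ᵁ V))
  have i6 := Module.Flat.projective_of_finitePresentation (R := Γ(Y, gY ⁻¹ᵁ V))
    (M := Γ(LY, gY ⁻¹ᵁ V))
  obtain ⟨j1, j2⟩ := (main hw σ (hsec V) h1 h2 hV).2.2 inferInstance i6 inferInstance i5
  exact ⟨Module.finitePresentation_of_projective _ _, Module.Flat.of_projective⟩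

include hsec in
theorem isFinLocFreeOfRank_glued {n : ℕ} (hLX : FlatMod.IsFinLocFreeOfRank n LX)
    (hLY : FlatMod.IsFinLocFreeOfRank n LY) (hsurj : ∀ w : T, (∃ x, gX x = w) ∨ ∃ y, gY y = w) :
    FlatMod.IsFinLocFreeOfRank n (glued hw σ) := by
  have k1 := Groth.Agent.Ega2.QCohLocal.isFinLocFree_of_rank hLX
  have k2 := Groth.Agent.Ega2.QCohLocal.isFinLocFree_of_rank hLY
  have h1 := Groth.Agent.Ega2.QCohLocal.isQCoh_of_isFinLocFree k1
  have h2 := Groth.Agent.Ega2.QCohLocal.isQCoh_of_isFinLocFree k2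
  have i1 := isIso_eX hw σ hsec h1 h2
  have i2 := isIso_eY hw σ hsec h1 h2
  intro w
  obtain ⟨U, r, hwU, ⟨φ⟩⟩ := isFinLocFree_glued hw σ hsec k1 k2 w
  suffices H : r = n by
    subst H
    exact ⟨U, hwU, ⟨φ⟩⟩
  obtain ⟨e, he⟩ := exists_isBasis_of_restrict φ
  rcases hsurj w with ⟨x, rfl⟩ | ⟨y, rfl⟩
  · obtain ⟨U', hxU', ⟨φ'⟩⟩ := hLX x
    obtain ⟨e', he'⟩ := exists_isBasis_of_restrict φ'
    exact rank_eq ((Groth.Agent.VarietyB.PullLoc.isBasis_pullSec gX he).of_iso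
      (asIso (eX hw σ))) he' (x := x) hwU hxU'
  · obtain ⟨U', hxU', ⟨φ'⟩⟩ := hLY y
    obtain ⟨e', he'⟩ := exists_isBasis_of_restrict φ'
    exact rank_eq ((Groth.Agent.VarietyB.PullLoc.isBasis_pullSec gY he).of_iso
      (asIso (eY hw σ))) he' (x := y) hwU hxU'

end K838.VBGlue3
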